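import Cfsg.Agent.StandardComponent.AltFinal

/-!
# D9, lemma [f]: the EX-trick

`z ∈ K ≤ G` (in the applications `K` is normal in `C(z)` with solvable quotient) such that every perfect subgroup of
`C(z)` lies in `K` and `z` is not conjugate to another element of `K`. Suppose that for every conjugate `e` of `z` in
`C(z)` outside `K` some perfect subgroup `Y` of `C(z) ∩ C(e)` contains an element `x ≠ 1` such that `x = z` or `ex` is
conjugate to `z`. Then `z` commutes with no other conjugate.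
-/

set_option autoImplicit false

namespace Cfsg.Agent.OddHalf.D9.ExTrick

open Subgroup

variable {G : Type*} [Group G]

/-- `Y` is perfect -/
abbrev Perf (Y : Subgroup G) : Prop := ⁅Y, Y⁆ = Y

theorem perf_conj {Y : Subgroup G} (h : Perf Y) (g : G) :
    Perf (Y.map (MulAut.conj g).toMonoidHom) := by
  unfold Perf
  rw [← Subgroup.map_commutator, h]

/-- The EX-trick, for one pair: `e = g z g⁻¹`, `e' = g⁻¹ z g`. -/
theorem false_of_pair {z g : G} {K : Subgroup G} (hzK : z ∈ K)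
    (hperf : ∀ Y : Subgroup G, Perf Y → (∀ y ∈ Y, y * z = z * y) → Y ≤ K)
    (hK : ∀ k ∈ K, IsConj z k → k = z) (he : g * z * g⁻¹ ∉ K)
    {Y : Subgroup G} (hY : Perf Y) (hYe : ∀ y ∈ Y, y * (g⁻¹ * z * g) = g⁻¹ * z * g * y) {x : G} (hx : x ∈ Y)
    (hx1 : x ≠ 1) (hxz : x = z ∨ IsConj z (g⁻¹ * z * g * x)) : False := by
  have hYK : Y.map (MulAut.conj g).toMonoidHom ≤ K := by
    refine hperf _ (perf_conj hY g) ?_
    rintro _ ⟨y, hy, rfl⟩
    have := hYe y hy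
    show g * y * g⁻¹ * z = z * (g * y * g⁻¹)
    calc g * y * g⁻¹ * z = g * (y * (g⁻¹ * z * g)) * g⁻¹ := by group
      _ = g * (g⁻¹ * z * g * y) * g⁻¹ := by rw [this]
      _ = z * (g * y * g⁻¹) := by group
  have hxK : g * x * g⁻¹ ∈ K := hYK ⟨x, hx, rfl⟩
  rcases hxz with rfl | hxz
  · exact he hxK
  · obtain ⟨w, hw⟩ := isConj_iff.mp hxz
    have h2 := hK _ (K.mul_mem hzK hxK) (isConj_iff.mpr ⟨g * w, by
      calc g * w * z * (g * w)⁻¹ = g * (w * z * w⁻¹) * g⁻¹ := by group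
        _ = g * (g⁻¹ * z * g * x) * g⁻¹ := by rw [hw]
        _ = z * (g * x * g⁻¹) := by group⟩)
    exact hx1 (conj_eq_one_iff.mp (mul_eq_left.mp h2))

/-- **The EX-trick.** -/
theorem isolated {z : G} {K : Subgroup G} (hzK : z ∈ K)
    (hperf : ∀ Y : Subgroup G, Perf Y → (∀ y ∈ Y, y * z = z * y) → Y ≤ K)
    (hK : ∀ k ∈ K, IsConj z k → k = z)
    (hex : ∀ e, IsConj z e → e * z = z * e → e ∉ K → ∃ Y : Subgroup G, Perf Y ∧ (∀ y ∈ Y, y * e = e * y) ∧
      ∃ x ∈ Y, x ≠ 1 ∧ (x = z ∨ IsConj z (e * x)))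
    (g : G) (hg : g * z * g⁻¹ * z = z * (g * z * g⁻¹)) : g * z * g⁻¹ = z := by
  by_contra hne
  have hg' : g⁻¹ * z * g * z = z * (g⁻¹ * z * g) := by
    calc g⁻¹ * z * g * z = g⁻¹ * (z * (g * z * g⁻¹)) * g := by group
      _ = g⁻¹ * (g * z * g⁻¹ * z) * g := by rw [hg]
      _ = z * (g⁻¹ * z * g) := by group
  have hne' : g⁻¹ * z * g ≠ z := by
    intro h
    apply hne
    calc g * z * g⁻¹ = g * (g⁻¹ * z * g) * g⁻¹ := by rw [h]
      _ = z := by group
  have h1 : IsConj z (g * z * g⁻¹) := isConj_iff.mpr ⟨g, rfl⟩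
  have h2 : IsConj z (g⁻¹ * z * g) := isConj_iff.mpr ⟨g⁻¹, by rw [inv_inv]⟩
  obtain ⟨Y, hY, hYe, x, hx, hx1, hxz⟩ := hex _ h2 hg' (fun h => hne' (hK _ h h2))
  exact false_of_pair hzK hperf hK (fun h => hne (hK _ h h1)) hY hYe hx hx1 hxz

/-- The EX-trick and the `Z*`-theorem. -/
theorem false_of_ex [Finite G] [IsSimpleGroup G] (hna : ¬ IsMulCommutative G) {z : G} (hz : orderOf z = 2)
    {K : Subgroup G} (hzK : z ∈ K)
    (hperf : ∀ Y : Subgroup G, Perf Y → (∀ y ∈ Y, y * z = z * y) → Y ≤ K)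
    (hK : ∀ k ∈ K, IsConj z k → k = z)
    (hex : ∀ e, IsConj z e → e * z = z * e → e ∉ K → ∃ Y : Subgroup G, Perf Y ∧ (∀ y ∈ Y, y * e = e * y) ∧
      ∃ x ∈ Y, x ≠ 1 ∧ (x = z ∨ IsConj z (e * x))) : False := by
  obtain ⟨g, h1, h2⟩ := StandardComponent.AltFinal.exists_conj hna hz
  exact h1 (isolated hzK hperf hK hex g h2)

end Cfsg.Agent.OddHalf.D9.ExTrick
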