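import Cfsg.Agent.OddHalf.D7.Cases
import Cfsg.Agent.OddHalf.D9.Cut
import Cfsg.Agent.KFacts.MulBound
import Cfsg.Agent.KFacts.MulY.Tower

/-!
# D9: the multiplier facts `Cut.Mult` from the rows of D10

* `SporND`: the 17 sporadic groups without perfect double cover;
* `LieND`: the groups of Lie type in characteristic 2 without perfect double cover, by families, exact parameters;
* `TwoRows`, `FourRows`: the exceptional quotients, cyclic centre.

`mult_of : SporND → LieND → TwoRows → FourRows → Cut.Mult`.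
-/

set_option autoImplicit false
set_option linter.style.haveILetI false

namespace Cfsg.Agent.OddHalf.D9.MultOf

open Subgroup Cfsg Cfsg.Agent.OddHalf.Iface Cfsg.Agent.OddHalf.D7.Cases Cfsg.Agent.OddHalf.D9.Cut
open Cfsg.Agent.KFacts.MulDef Cfsg.Agent.KFacts.MulBound

universe u v

/-! ### General reductions -/

/-- The centre is trivial if the quotient has no perfect double cover. -/
theorem center_eq_bot {K : Type u} [Group K] (h : QsCyc K) {X : Type v} [Group X] (hX : NoDouble X)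
    (e : K ⧸ center K ≃* X) : center K = ⊥ := by
  haveI := h.1
  exact Cfsg.Agent.KFacts.MulY.Tower.center_eq_bot hX h.2.1.1.commutator_eq_top h.2.2.1 e

/-- `|Z(K)|` divides 2 if the quotient `X` has one double cover, in the sense of `OneCover`. -/
theorem dvd_two_of_oneCover {K : Type u} [Group K] (h : QsCyc K) {X : Type v} [Group X] (hX : OneCover X)
    (e : K ⧸ center K ≃* X) : Nat.card ↥(center K) ∣ 2 := by
  haveI := h.1
  haveI : Fact (Nat.Prime 2) := ⟨Nat.prime_two⟩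
  by_contra hcon
  obtain ⟨n, hn⟩ := IsPGroup.iff_card.1 h.2.2.1
  have h4 : 4 ∣ Nat.card ↥(center K) := by
    rcases n with _ | _ | n
    · exact absurd (by rw [hn, pow_zero]; exact one_dvd 2) hcon
    · exact absurd (by rw [hn, zero_add, pow_one]) hcon
    · rw [hn, show 2 ^ (n + 1 + 1) = 4 * 2 ^ n by ring]
      exact dvd_mul_right 4 _
  have hk := Cfsg.Agent.KFacts.MulY.Tower.ker_equiv e
  have h5 := hX.not_four_dvd h.2.1.1.commutator_eq_top
    (f := e.toMonoidHom.comp (QuotientGroup.mk' (center K)))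
    (e.surjective.comp (QuotientGroup.mk'_surjective _)) (by rw [hk])
  rw [hk] at h5
  exact h5 h4

/-! ### Sporadic groups -/

/-- The sporadic groups without perfect double cover. -/
structure SporND : Prop where
  m11 : ∀ (X : Type u) [Group X], Spor.IsoM11 X → NoDouble X
  m23 : ∀ (X : Type u) [Group X], Spor.IsoM23 X → NoDouble X
  m24 : ∀ (X : Type u) [Group X], Spor.IsoM24 X → NoDouble X
  j1 : ∀ (X : Type u) [Group X], Spor.IsoJ1 X → NoDouble X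
  j3 : ∀ (X : Type u) [Group X], Spor.IsoJ3 X → NoDouble X
  j4 : ∀ (X : Type u) [Group X], Spor.IsoJ4 X → NoDouble X
  co2 : ∀ (X : Type u) [Group X], Spor.IsoCo2 X → NoDouble X
  co3 : ∀ (X : Type u) [Group X], Spor.IsoCo3 X → NoDouble X
  mcl : ∀ (X : Type u) [Group X], Spor.IsoMcL X → NoDouble X
  he : ∀ (X : Type u) [Group X], Spor.IsoHe X → NoDouble X
  on : ∀ (X : Type u) [Group X], Spor.IsoON X → NoDouble X
  ly : ∀ (X : Type u) [Group X], Spor.IsoLy X → NoDouble X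
  fi23 : ∀ (X : Type u) [Group X], Spor.IsoFi23 X → NoDouble X
  fi24 : ∀ (X : Type u) [Group X], Spor.IsoFi24' X → NoDouble X
  hn : ∀ (X : Type u) [Group X], Spor.IsoHN X → NoDouble X
  th : ∀ (X : Type u) [Group X], Spor.IsoTh X → NoDouble X
  m : ∀ (X : Type u) [Group X], Spor.IsoM X → NoDouble X

theorem spor_of (h : SporND.{u}) (K : Type u) [Group K] (hK : QsCyc K) (hs : IsSporadicGroup (K ⧸ center K))
    (h2 : ¬ Exc2 (K ⧸ center K)) (h4 : ¬ Exc4 (K ⧸ center K)) : center K = ⊥ := by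
  have key : NoDouble (K ⧸ center K) → center K = ⊥ := fun hX => center_eq_bot hK hX (MulEquiv.refl _)
  unfold Exc2 at h2
  unfold Exc4 at h4
  push Not at h2 h4
  obtain ⟨-, -, -, -, -, -, e1, e2, e3, e4, e5, e6, e7, e8⟩ := h2
  obtain ⟨-, e9⟩ := h4
  rcases hs with hs | hs | hs | hs | hs | hs | hs | hs | hs | hs | hs | hs | hs | hs | hs | hs | hs | hs | hs |
    hs | hs | hs | hs | hs | hs | hs
  · exact key (h.m11 _ hs)
  · exact absurd hs e1
  · exact absurd hs e9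
  · exact key (h.m23 _ hs)
  · exact key (h.m24 _ hs)
  · exact key (h.j1 _ hs)
  · exact absurd hs e2
  · exact key (h.j3 _ hs)
  · exact key (h.j4 _ hs)
  · exact absurd hs e7
  · exact key (h.co2 _ hs)
  · exact key (h.co3 _ hs)
  · exact key (h.mcl _ hs)
  · exact absurd hs e3
  · exact absurd hs e4
  · exact key (h.he _ hs)
  · exact absurd hs e5
  · exact key (h.on _ hs)
  · exact key (h.ly _ hs)
  · exact absurd hs e6
  · exact key (h.fi23 _ hs)
  · exact key (h.fi24 _ hs)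
  · exact key (h.hn _ hs)
  · exact key (h.th _ hs)
  · exact absurd hs e8
  · exact key (h.m _ hs)

/-! ### Lie type in characteristic 2 -/

/-- The groups of Lie type in characteristic 2 without perfect double cover. -/
structure LieND : Prop where
  /-- `L₂(2^a)`, `a ≥ 3` -/
  l2 : ∀ (F : Type) [Field F] [Fintype F] (a : ℕ), 3 ≤ a → Fintype.card F = 2 ^ a →
    NoDouble (Matrix.ProjectiveSpecialLinearGroup (Fin 2) F)
  /-- `L₃(2^a)`, `a ≥ 3` -/
  l3 : ∀ (F : Type) [Field F] [Fintype F] (a : ℕ), 3 ≤ a → Fintype.card F = 2 ^ a →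
    NoDouble (Matrix.ProjectiveSpecialLinearGroup (Fin 3) F)
  /-- `L_n(2^a)`, `n ≥ 4`, `(n, a) ≠ (4, 1)` -/
  l : ∀ (F : Type) [Field F] [Fintype F] (a n : ℕ), 1 ≤ a → Fintype.card F = 2 ^ a → 4 ≤ n → (n = 4 → 2 ≤ a) →
    NoDouble (Matrix.ProjectiveSpecialLinearGroup (Fin n) F)
  /-- `U₃(2^a)`, `a ≥ 2` -/
  u3 : ∀ (F : Type) [Field F] [Fintype F] (a : ℕ), 2 ≤ a → Fintype.card F = 4 ^ a → NoDouble (PSU 3 F (2 ^ a))
  /-- `U₄(2^a)`, `a ≥ 2` -/
  u4 : ∀ (F : Type) [Field F] [Fintype F] (a : ℕ), 2 ≤ a → Fintype.card F = 4 ^ a → NoDouble (PSU 4 F (2 ^ a))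
  /-- `U₅(2^a)` -/
  u5 : ∀ (F : Type) [Field F] [Fintype F] (a : ℕ), 1 ≤ a → Fintype.card F = 4 ^ a → NoDouble (PSU 5 F (2 ^ a))
  /-- `U_n(2^a)`, `n ≥ 6`, `(n, a) ≠ (6, 1)` -/
  u : ∀ (F : Type) [Field F] [Fintype F] (a n : ℕ), 1 ≤ a → Fintype.card F = 4 ^ a → 6 ≤ n → (n = 6 → 2 ≤ a) →
    NoDouble (PSU n F (2 ^ a))
  /-- `Sp₄(2^a)`, `a ≥ 2` -/
  sp4 : ∀ (F : Type) [Field F] [Fintype F] (a : ℕ), 2 ≤ a → Fintype.card F = 2 ^ a → NoDouble (PSp 2 F)
  /-- `Sp_{2m}(2^a)`, `m ≥ 3`, `(m, a) ≠ (3, 1)` -/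
  sp : ∀ (F : Type) [Field F] [Fintype F] (a m : ℕ), 1 ≤ a → Fintype.card F = 2 ^ a → 3 ≤ m → (m = 3 → 2 ≤ a) →
    NoDouble (PSp m F)
  /-- `Ω⁺_{2m}(2^a)`, `m ≥ 4`, `(m, a) ≠ (4, 1)` -/
  oplus : ∀ (F : Type) [Field F] [Fintype F] (a m : ℕ), 1 ≤ a → Fintype.card F = 2 ^ a → 4 ≤ m → (m = 4 → 2 ≤ a) →
    NoDouble (POmega F (quadFormPlus m F))
  /-- `Ω⁻_{2m}(2^a)`, `m ≥ 4` -/
  ominus : ∀ (F : Type) [Field F] [Fintype F] (a m : ℕ) (b c : F), 1 ≤ a → Fintype.card F = 2 ^ a → 4 ≤ m →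
    (∀ z₁ z₂ : F, z₁ ^ 2 + b * z₁ * z₂ + c * z₂ ^ 2 = 0 → z₁ = 0 ∧ z₂ = 0) →
    NoDouble (POmega F (quadFormMinus (m - 1) F b c))
  /-- `G₂(2^a)`, `a ≥ 3` -/
  g2 : ∀ (F : Type) [Field F] [Fintype F] (a : ℕ), 3 ≤ a → Fintype.card F = 2 ^ a →
    NoDouble ↥(Lie.chevG2.group F)
  /-- `F₄(2^a)`, `a ≥ 2` -/
  f4 : ∀ (F : Type) [Field F] [Fintype F] (a : ℕ), 2 ≤ a → Fintype.card F = 2 ^ a →
    NoDouble ↥(Lie.chevF4.group F)
  e6 : ∀ (F : Type) [Field F] [Fintype F] (a : ℕ), 1 ≤ a → Fintype.card F = 2 ^ a →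
    NoDouble ↥(Lie.chevE6.group F)
  e7 : ∀ (F : Type) [Field F] [Fintype F] (a : ℕ), 1 ≤ a → Fintype.card F = 2 ^ a →
    NoDouble ↥(Lie.chevE7.group F)
  e8 : ∀ (F : Type) [Field F] [Fintype F] (a : ℕ), 1 ≤ a → Fintype.card F = 2 ^ a →
    NoDouble ↥(Lie.chevE8.group F)
  /-- `²E₆(2^a)`, `a ≥ 2` -/
  e62 : ∀ (F : Type) [Field F] [Fintype F] (a : ℕ), 2 ≤ a → Fintype.card F = 4 ^ a →
    NoDouble ↥(Lie.twistedE6 F (2 ^ a))
  /-- `³D₄(2^a)` -/
  d43 : ∀ (F : Type) [Field F] [Fintype F] (a : ℕ), 1 ≤ a → Fintype.card F = 8 ^ a →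
    NoDouble ↥(Lie.twistedD4 F (2 ^ a))
  /-- `²F₄(2^(2m+1))`, `m ≥ 1` -/
  f42 : ∀ (F : Type) [Field F] [Fintype F] (m : ℕ), 1 ≤ m → Fintype.card F = 2 ^ (2 * m + 1) →
    NoDouble ↥(Lie.twistedF4 F (2 ^ m))
  tits : NoDouble Lie.TitsGroup

theorem lie_of (h : LieND) (K : Type u) [Group K] (hK : QsCyc K) (hl : LieTwo (K ⧸ center K))
    (h2 : ¬ Exc2 (K ⧸ center K)) (h4 : ¬ Exc4 (K ⧸ center K)) (hz : ¬ XSz (K ⧸ center K)) : center K = ⊥ := by
  unfold Exc2 at h2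
  unfold Exc4 at h4
  push Not at h2 h4
  obtain ⟨eU6, eSp6, eO8, eG4, eF4, eE6, -⟩ := h2
  obtain ⟨eL34, -⟩ := h4
  by_cases hs : SmallRank (K ⧸ center K)
  · rcases hs with hs | hs | hs | hs | hs | hs | hs
    · obtain ⟨F, _, _, a, ha, hF, ⟨e⟩⟩ := hs
      rcases Nat.lt_or_ge a 3 with h3 | h3
      · exfalso
        have : a = 2 := by omega
        subst this
        exact hl.2.1 (Iso5.isAlternating_of_l24 (by simpa using hF) e)
      · exact center_eq_bot hK (h.l2 F a h3 hF) e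
    · obtain ⟨F, _, _, a, ha, hF, ⟨e⟩⟩ := hs
      exact center_eq_bot hK (h.u3 F a ha hF) e
    · exact absurd hs hz
    · obtain ⟨F, _, _, a, ha, hF, ⟨⟨e⟩⟩ | ⟨⟨e⟩⟩ | ⟨⟨e⟩⟩⟩ := hs
      · rcases Nat.lt_or_ge a 3 with h3 | h3
        · exfalso
          have : a = 2 := by omega
          subst this
          exact eL34 ⟨F, _, _, by simpa using hF, ⟨e⟩⟩
        · exact center_eq_bot hK (h.l3 F a h3 hF) e
      · exact center_eq_bot hK (h.sp4 F a ha hF) e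
      · rcases Nat.lt_or_ge a 3 with h3 | h3
        · exfalso
          have : a = 2 := by omega
          subst this
          exact eG4 ⟨F, _, _, by simpa using hF, ⟨e⟩⟩
        · exact center_eq_bot hK (h.g2 F a h3 hF) e
    · obtain ⟨F, _, _, a, ha, hF, ⟨⟨e⟩⟩ | ⟨⟨e⟩⟩⟩ := hs
      · exact center_eq_bot hK (h.u4 F a ha hF) e
      · exact center_eq_bot hK (h.u5 F a (by omega) hF) e
    · obtain ⟨F, _, _, hF, ⟨e⟩⟩ := hs
      have h5 := h.u5 F 1 le_rfl (by simpa using hF)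
      rw [pow_one] at h5
      exact center_eq_bot hK h5 e
    · obtain ⟨F, _, _, a, ha, hF, ⟨e⟩⟩ := hs
      exact center_eq_bot hK (h.d43 F a ha hF) e
  rcases lieTwo_cases hl hs with hc | hc | hc | hc | hc | hc | hc | hc | hc | hc | hc | hc
  · obtain ⟨F, _, _, a, n, ha, hF, hn, h1, ⟨e⟩⟩ := hc
    exact center_eq_bot hK (h.l F a n ha hF hn h1) e
  · obtain ⟨F, _, _, a, n, ha, hF, hn, ⟨e⟩⟩ := hc
    refine center_eq_bot hK (h.u F a n ha hF hn ?_) e
    rintro rfl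
    by_contra hlt
    have : a = 1 := by omega
    subst this
    exact eU6 ⟨F, _, _, by simpa using hF, ⟨by simpa using e⟩⟩
  · obtain ⟨F, _, _, a, m, ha, hF, hm, ⟨e⟩⟩ := hc
    refine center_eq_bot hK (h.sp F a m ha hF hm ?_) e
    rintro rfl
    by_contra hlt
    have : a = 1 := by omega
    subst this
    exact eSp6 ⟨F, _, _, by simpa using hF, ⟨e⟩⟩
  · obtain ⟨F, _, _, a, m, ha, hF, hm, ⟨e⟩⟩ := hc
    refine center_eq_bot hK (h.oplus F a m ha hF hm ?_) e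
    rintro rfl
    by_contra hlt
    have : a = 1 := by omega
    subst this
    exact eO8 ⟨F, _, _, by simpa using hF, ⟨e⟩⟩
  · obtain ⟨F, _, _, a, m, b, c, ha, hF, hm, hbc, ⟨e⟩⟩ := hc
    exact center_eq_bot hK (h.ominus F a m b c ha hF hm hbc) e
  · obtain ⟨F, _, _, a, ha, hF, ⟨e⟩⟩ := hc
    refine center_eq_bot hK (h.f4 F a ?_ hF) e
    by_contra hlt
    have : a = 1 := by omega
    subst this
    exact eF4 ⟨F, _, _, by simpa using hF, ⟨e⟩⟩
  · obtain ⟨F, _, _, a, ha, hF, ⟨e⟩⟩ := hc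
    exact center_eq_bot hK (h.e6 F a ha hF) e
  · obtain ⟨F, _, _, a, ha, hF, ⟨e⟩⟩ := hc
    exact center_eq_bot hK (h.e7 F a ha hF) e
  · obtain ⟨F, _, _, a, ha, hF, ⟨e⟩⟩ := hc
    exact center_eq_bot hK (h.e8 F a ha hF) e
  · obtain ⟨F, _, _, a, ha, hF, ⟨e⟩⟩ := hc
    refine center_eq_bot hK (h.e62 F a ?_ hF) e
    by_contra hlt
    have : a = 1 := by omega
    subst this
    exact eE6 ⟨F, _, _, by simpa using hF, ⟨by simpa using e⟩⟩
  · obtain ⟨F, _, _, m, hm, hF, ⟨e⟩⟩ := hc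
    exact center_eq_bot hK (h.f42 F m hm hF) e
  · obtain ⟨e⟩ := hc
    exact center_eq_bot hK h.tits e

/-! ### The exceptional quotients -/

/-- `|Z(K)|` divides `n` for `K` with cyclic centre and quotient of type `P`. -/
def Bd (n : ℕ) (P : (X : Type u) → [Group X] → Prop) : Prop :=
  ∀ (K : Type u) [Group K], QsCyc K → P (K ⧸ center K) → Nat.card ↥(center K) ∣ n

theorem Bd.of_oneCover {P : (X : Type u) → [Group X] → Prop} (h : ∀ (X : Type u) [Group X], P X → OneCover X) :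
    Bd.{u} 2 P := fun _ _ hK hP => dvd_two_of_oneCover hK (h _ hP) (MulEquiv.refl _)

/-- The 14 rows of `Exc2`. -/
structure TwoRows : Prop where
  u62 : Bd.{u} 2 (fun X _ => XU62 X)
  sp62 : Bd.{u} 2 (fun X _ => XSp62 X)
  o82 : Bd.{u} 2 (fun X _ => XO82 X)
  g24 : Bd.{u} 2 (fun X _ => XG24 X)
  f42 : Bd.{u} 2 (fun X _ => XF42 X)
  e62 : Bd.{u} 2 (fun X _ => X2E62 X)
  m12 : Bd.{u} 2 (fun X _ => Spor.IsoM12 X)
  j2 : Bd.{u} 2 (fun X _ => Spor.IsoJ2 X)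
  hs : Bd.{u} 2 (fun X _ => Spor.IsoHS X)
  suz : Bd.{u} 2 (fun X _ => Spor.IsoSuz X)
  ru : Bd.{u} 2 (fun X _ => Spor.IsoRu X)
  fi22 : Bd.{u} 2 (fun X _ => Spor.IsoFi22 X)
  co1 : Bd.{u} 2 (fun X _ => Spor.IsoCo1 X)
  b : Bd.{u} 2 (fun X _ => Spor.IsoB X)

/-- The rows of `Exc4`. -/
structure FourRows : Prop where
  l34 : Bd.{u} 4 (fun X _ => XL34 X)
  m22 : Bd.{u} 4 (fun X _ => Spor.IsoM22 X)

theorem mult_of (S : SporND.{u}) (L : LieND) (T : TwoRows.{u}) (F : FourRows.{u}) : Mult.{u} where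
  lie := fun K _ hK hl h2 h4 hz => lie_of L K hK hl h2 h4 hz
  spor := fun K _ hK hs h2 h4 => spor_of S K hK hs h2 h4
  two := by
    intro K _ hK h
    rcases h with h | h | h | h | h | h | h | h | h | h | h | h | h | h
    · exact T.u62 K hK h
    · exact T.sp62 K hK h
    · exact T.o82 K hK h
    · exact T.g24 K hK h
    · exact T.f42 K hK h
    · exact T.e62 K hK h
    · exact T.m12 K hK h
    · exact T.j2 K hK h
    · exact T.hs K hK h
    · exact T.suz K hK h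
    · exact T.ru K hK h
    · exact T.fi22 K hK h
    · exact T.co1 K hK h
    · exact T.b K hK h
  four := by
    intro K _ hK h
    rcases h with h | h
    · exact F.l34 K hK h
    · exact F.m22 K hK h

end Cfsg.Agent.OddHalf.D9.MultOf
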