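import Mathlib

/-!
# D9: the abstract kill of a standard component with even centre

`Fr K z`: the frame (`z` is an involution of `Z(K)`, `K ⊴ C_G(z)`, the perfect subgroups of `C_G(z)` lie in `K`,
`z` is the only involution of `C_G(z)` centralizing `K`, `z` has a conjugate `≠ z` in `C_G(z)`).

K-facts (about the abstract group `K`, `Pr S` = the largest perfect subgroup of `S`):

* (I) `NoBad z` : for every involution `f ≠ z` of `K`, `z ∈ Pr (C_K(f))`, and there is no isomorphism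
  `Pr (C_K(f)) ≃ Pr (C_K(f'))` with `f ↦ z`, `z ↦ f'`. Alternative `PF`.
* (II) `Outer z` : for every involutory automorphism `α` of `K`, `α ≠ conj f` for the involutions `f`: either
  `z ∈ Pr (C_K(α))`, or there are `x ∈ Pr (C_K(α))`, `x ≠ 1`, and `q ∈ K` with `α q = q x`.

`Fr.false`: (I) and (II) contradict the frame.
-/

set_option autoImplicit false

namespace Cfsg.Agent.OddHalf.D9.Kill

open Subgroup
open scoped commutatorElement

universe u v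

/-! ### The largest perfect subgroup -/

section Pr

variable {G : Type u} {H : Type v} [Group G] [Group H]

/-- The largest perfect subgroup of `S`. -/
def Pr (S : Subgroup G) : Subgroup G := sSup {P | P ≤ S ∧ ⁅P, P⁆ = P}

theorem Pr_le (S : Subgroup G) : Pr S ≤ S := sSup_le fun _ h => h.1

theorem le_Pr {S P : Subgroup G} (h : P ≤ S) (hP : ⁅P, P⁆ = P) : P ≤ Pr S := le_sSup ⟨h, hP⟩

theorem Pr_perfect (S : Subgroup G) : ⁅Pr S, Pr S⁆ = Pr S := by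
  apply le_antisymm (commutator_le_self _)
  apply sSup_le
  rintro P ⟨hPS, hP⟩
  calc P = ⁅P, P⁆ := hP.symm
    _ ≤ _ := commutator_mono (le_Pr hPS hP) (le_Pr hPS hP)

theorem Pr_mono {S T : Subgroup G} (h : S ≤ T) : Pr S ≤ Pr T := le_Pr ((Pr_le S).trans h) (Pr_perfect S)

theorem map_Pr {f : G →* H} (hf : Function.Injective f) (S : Subgroup G) : (Pr S).map f = Pr (S.map f) := by
  apply le_antisymm
  · apply le_Pr (map_mono (Pr_le S))
    rw [← map_commutator, Pr_perfect]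
  · apply sSup_le
    rintro P ⟨hPS, hP⟩
    have h1 : (P.comap f).map f = P := by
      rw [map_comap_eq, inf_eq_right]
      exact hPS.trans (map_le_range f S)
    rw [← h1]
    apply map_mono
    apply le_Pr
    · intro x hx
      obtain ⟨y, hy, hyx⟩ := hPS hx
      rwa [← hf hyx]
    · apply map_injective hf
      rw [map_commutator, h1, hP]

/-- `C_G(f)`, elementwise. -/
def Ce (f : G) : Subgroup G where
  carrier := {x | x * f = f * x}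
  one_mem' := by simp
  mul_mem' := fun {a b} ha hb => by
    change a * b * f = f * (a * b)
    rw [mul_assoc, show b * f = f * b from hb, ← mul_assoc, show a * f = f * a from ha, mul_assoc]
  inv_mem' := fun {a} ha => by
    change a⁻¹ * f = f * a⁻¹
    rw [inv_mul_eq_iff_eq_mul, ← mul_assoc, show a * f = f * a from ha, mul_inv_cancel_right]

@[simp] theorem mem_Ce {f x : G} : x ∈ Ce f ↔ x * f = f * x := Iff.rfl

/-- The fixed points of an automorphism. -/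
def Fx (α : MulAut G) : Subgroup G where
  carrier := {x | α x = x}
  one_mem' := map_one α
  mul_mem' := fun {a b} ha hb => by
    change α (a * b) = a * b
    rw [map_mul, show α a = a from ha, show α b = b from hb]
  inv_mem' := fun {a} ha => by
    change α a⁻¹ = a⁻¹
    rw [map_inv, show α a = a from ha]

@[simp] theorem mem_Fx {α : MulAut G} {x : G} : x ∈ Fx α ↔ α x = x := Iff.rfl

theorem Fx_conj (f : G) : Fx (MulAut.conj f) = Ce f := by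
  ext x
  rw [mem_Fx, mem_Ce, MulAut.conj_apply, mul_inv_eq_iff_eq_mul, eq_comm]

end Pr

/-! ### K-facts -/

section Facts

variable {K : Type u} [Group K]

/-- There is an isomorphism `Pr (C(f)) ≃ Pr (C(f'))` with `f ↦ z`, `z ↦ f'`. -/
def Bad (z f f' : K) : Prop :=
  ∃ (hf : f ∈ Pr (Ce f)) (hz : z ∈ Pr (Ce f)) (hf' : f' ∈ Pr (Ce f')) (hz' : z ∈ Pr (Ce f'))
    (φ : ↥(Pr (Ce f)) ≃* ↥(Pr (Ce f'))), φ ⟨f, hf⟩ = ⟨z, hz'⟩ ∧ φ ⟨z, hz⟩ = ⟨f', hf'⟩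

/-- (I): no involution of `K - {z}` can be conjugate to `z`. -/
structure NoBad (z : K) : Prop where
  res : ∀ f : K, f * f = 1 → f ≠ 1 → f ≠ z → z ∈ Pr (Ce f)
  bad : ∀ f f' : K, f * f = 1 → f ≠ 1 → f ≠ z → f' * f' = 1 → f' ≠ 1 → f' ≠ z → ¬ Bad z f f'

/-- (I'): the alternative with an involution `x` and a conjugate triple. -/
structure PF (z : K) (C : Set K) : Prop where
  res : ∀ f : K, f * f = 1 → f ≠ 1 → f ≠ z → z ∈ Pr (Ce f)
  bad : ∀ f f' : K, f * f = 1 → f ≠ 1 → f ≠ z → f' * f' = 1 → f' ≠ 1 → f' ≠ z → Bad z f f' → f ∈ C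
  dis : ∀ f ∈ C, f * z ∉ C
  conj : ∀ f ∈ C, ∀ f' ∈ C, ∃ k : K, k * f * k⁻¹ = f'
  triple : ∃ x ∈ C, ∃ y ∈ C, y ∈ Pr (Ce x) ∧ x * y ∈ C

/-- (II). -/
def Outer (z : K) : Prop :=
  ∀ α : MulAut K, α * α = 1 → α ≠ 1 → (∀ f : K, f * f = 1 → α ≠ MulAut.conj f) →
    z ∈ Pr (Fx α) ∨ ∃ x ∈ Pr (Fx α), x ≠ 1 ∧ ∃ q : K, α q = q * x

/-- The label by dihedral relations: if every element `w` of `Pr (C(f))` inverting an element of order `p` has square
`z`, and there is such an element, then `f` is not bad. -/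
theorem not_bad_of_inv {z f f' : K} {p : ℕ} (hf'z : f' ≠ z)
    (hex : ∃ y ∈ Pr (Ce f), ∃ w ∈ Pr (Ce f), y ^ p = 1 ∧ y ≠ 1 ∧ w * y * w⁻¹ = y⁻¹ ∧ w * w = z)
    (hall : ∀ y ∈ Pr (Ce f'), ∀ w ∈ Pr (Ce f'), y ^ p = 1 → y ≠ 1 → w * y * w⁻¹ = y⁻¹ → w * w = z) :
    ¬ Bad z f f' := by
  rintro ⟨hf, hz, hf', hz', φ, h1, h2⟩
  obtain ⟨y, hy, w, hw, hyp, hy1, hwy, hww⟩ := hex
  have h3 := hall (φ ⟨y, hy⟩ : ↥(Pr (Ce f'))) (φ ⟨y, hy⟩).2 (φ ⟨w, hw⟩ : ↥(Pr (Ce f'))) (φ ⟨w, hw⟩).2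
  have h4 : (φ ⟨y, hy⟩ : ↥(Pr (Ce f'))) ^ p = 1 := by
    rw [← map_pow]
    have : (⟨y, hy⟩ : ↥(Pr (Ce f))) ^ p = 1 := Subtype.ext hyp
    rw [this, map_one]
  have h5 : (φ ⟨y, hy⟩ : ↥(Pr (Ce f'))) ≠ 1 := by
    rw [Ne, map_eq_one_iff φ φ.injective]
    exact fun h => hy1 (congrArg Subtype.val h)
  have h6 : (φ ⟨w, hw⟩ : ↥(Pr (Ce f'))) * φ ⟨y, hy⟩ * (φ ⟨w, hw⟩)⁻¹ = (φ ⟨y, hy⟩)⁻¹ := by
    rw [← map_inv, ← map_mul, ← map_mul, ← map_inv]
    congr 1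
    exact Subtype.ext hwy
  have h7 : (φ ⟨w, hw⟩ : ↥(Pr (Ce f'))) * φ ⟨w, hw⟩ = ⟨f', hf'⟩ := by
    rw [← map_mul, ← h2]
    congr 1
    exact Subtype.ext hww
  have h8 := h3 (by have := congrArg Subtype.val h4; simpa using this)
    (fun h => h5 (Subtype.ext h)) (by have := congrArg Subtype.val h6; simpa using this)
  apply hf'z
  rw [← h8]
  exact (congrArg Subtype.val h7).symm

end Facts

/-! ### The frame -/

/-- The frame: `K` is a component of `C_G(z)`, `z ∈ Z(K)`. -/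
structure Fr {G : Type u} [Group G] (K : Subgroup G) (z : G) : Prop where
  zz : z * z = 1
  z1 : z ≠ 1
  zK : z ∈ K
  Kz : ∀ k ∈ K, k * z = z * k
  nrm : ∀ h : G, h * z = z * h → ∀ k ∈ K, h * k * h⁻¹ ∈ K
  perf : ∀ P : Subgroup G, P ≤ Ce z → ⁅P, P⁆ = P → P ≤ K
  inv : ∀ e : G, e * z = z * e → e * e = 1 → (∀ k ∈ K, e * k = k * e) → e = 1 ∨ e = z
  ne : ∃ g : G, g * z * g⁻¹ ≠ z ∧ g * z * g⁻¹ * z = z * (g * z * g⁻¹)

namespace Fr

variable {G : Type u} [Group G] {K : Subgroup G} {z : G}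

/-- The automorphism of `K` induced by an element of `C(z)`. -/
def act (F : Fr K z) {h : G} (hh : h * z = z * h) : MulAut ↥K where
  toFun k := ⟨h * k * h⁻¹, F.nrm h hh k k.2⟩
  invFun k := ⟨h⁻¹ * k * h, by
    have := F.nrm h⁻¹ (by rw [inv_mul_eq_iff_eq_mul, ← mul_assoc, hh, mul_inv_cancel_right]) k k.2
    rwa [inv_inv] at this⟩
  left_inv k := Subtype.ext (by
    change h⁻¹ * (h * k * h⁻¹) * h = k
    group)
  right_inv k := Subtype.ext (by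
    change h * (h⁻¹ * k * h) * h⁻¹ = k
    group)
  map_mul' a b := Subtype.ext (by
    change h * (a * b) * h⁻¹ = h * a * h⁻¹ * (h * b * h⁻¹)
    group)

theorem act_apply (F : Fr K z) {h : G} (hh : h * z = z * h) (k : ↥K) :
    ((F.act hh k : ↥K) : G) = h * k * h⁻¹ := rfl

/-- `Pr (C(z) ∩ C(e)) = Pr (C_K(e))`. -/
theorem map_Pr_Fx (F : Fr K z) {e : G} (he : e * z = z * e) :
    (Pr (Fx (F.act he))).map K.subtype = Pr (Ce z ⊓ Ce e) := by
  rw [map_Pr K.subtype_injective]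
  apply le_antisymm
  · apply Pr_mono
    rintro _ ⟨x, hx, rfl⟩
    refine ⟨F.Kz x x.2, ?_⟩
    have h1 : e * (x : G) * e⁻¹ = x := congrArg Subtype.val hx
    change (x : G) * e = e * x
    rw [mul_inv_eq_iff_eq_mul] at h1
    exact h1.symm
  · apply le_Pr _ (Pr_perfect _)
    intro x hx
    have hxK : x ∈ K := F.perf _ ((Pr_le _).trans inf_le_left) (Pr_perfect _) hx
    refine ⟨⟨x, hxK⟩, ?_, rfl⟩
    apply Subtype.ext
    change e * x * e⁻¹ = x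
    rw [mul_inv_eq_iff_eq_mul]
    exact (((Pr_le _) hx).2).symm

theorem map_Pr_Ce (F : Fr K z) {f : G} (hf : f ∈ K) :
    (Pr (Ce (⟨f, hf⟩ : ↥K))).map K.subtype = Pr (Ce z ⊓ Ce f) := by
  rw [map_Pr K.subtype_injective]
  apply le_antisymm
  · apply Pr_mono
    rintro _ ⟨x, hx, rfl⟩
    exact ⟨F.Kz x x.2, congrArg Subtype.val hx⟩
  · apply le_Pr _ (Pr_perfect _)
    intro x hx
    have hxK : x ∈ K := F.perf _ ((Pr_le _).trans inf_le_left) (Pr_perfect _) hx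
    exact ⟨⟨x, hxK⟩, Subtype.ext ((Pr_le _) hx).2, rfl⟩

/-- conjugation by `g` maps `C(z) ∩ C(e')` onto `C(z) ∩ C(e)`, `e = g z g⁻¹`, `e' = g⁻¹ z g`. -/
theorem map_conj (g : G) : (Ce z ⊓ Ce (g⁻¹ * z * g)).map (MulAut.conj g).toMonoidHom =
    Ce z ⊓ Ce (g * z * g⁻¹) := by
  ext x
  constructor
  · rintro ⟨y, ⟨hy1, hy2⟩, rfl⟩
    change y * z = z * y at hy1
    change y * (g⁻¹ * z * g) = g⁻¹ * z * g * y at hy2
    refine ⟨?_, ?_⟩
    · change g * y * g⁻¹ * z = z * (g * y * g⁻¹)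
      calc g * y * g⁻¹ * z = g * (y * (g⁻¹ * z * g)) * g⁻¹ := by group
        _ = g * (g⁻¹ * z * g * y) * g⁻¹ := by rw [hy2]
        _ = z * (g * y * g⁻¹) := by group
    · change g * y * g⁻¹ * (g * z * g⁻¹) = g * z * g⁻¹ * (g * y * g⁻¹)
      calc g * y * g⁻¹ * (g * z * g⁻¹) = g * (y * z) * g⁻¹ := by group
        _ = g * (z * y) * g⁻¹ := by rw [hy1]
        _ = _ := by group
  · rintro ⟨hx1, hx2⟩
    change x * z = z * x at hx1
    change x * (g * z * g⁻¹) = g * z * g⁻¹ * x at hx2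
    refine ⟨g⁻¹ * x * g, ⟨?_, ?_⟩, ?_⟩
    · change g⁻¹ * x * g * z = z * (g⁻¹ * x * g)
      calc g⁻¹ * x * g * z = g⁻¹ * (x * (g * z * g⁻¹)) * g := by group
        _ = g⁻¹ * (g * z * g⁻¹ * x) * g := by rw [hx2]
        _ = _ := by group
    · change g⁻¹ * x * g * (g⁻¹ * z * g) = g⁻¹ * z * g * (g⁻¹ * x * g)
      calc g⁻¹ * x * g * (g⁻¹ * z * g) = g⁻¹ * (x * z) * g := by group
        _ = g⁻¹ * (z * x) * g := by rw [hx1]
        _ = _ := by group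
    · change g * (g⁻¹ * x * g) * g⁻¹ = x
      group

theorem map_conj_Pr (g : G) : (Pr (Ce z ⊓ Ce (g⁻¹ * z * g))).map (MulAut.conj g).toMonoidHom =
    Pr (Ce z ⊓ Ce (g * z * g⁻¹)) := by
  rw [map_Pr (MulAut.conj g).injective, map_conj]

theorem comm_swap {g : G} (h : g * z * g⁻¹ * z = z * (g * z * g⁻¹)) :
    g⁻¹ * z * g * z = z * (g⁻¹ * z * g) := by
  calc g⁻¹ * z * g * z = g⁻¹ * (z * (g * z * g⁻¹)) * g := by group
    _ = g⁻¹ * (g * z * g⁻¹ * z) * g := by rw [h]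
    _ = _ := by group

theorem ne_swap {g : G} (h : g * z * g⁻¹ ≠ z) : g⁻¹ * z * g ≠ z := by
  intro h1
  apply h
  calc g * z * g⁻¹ = g * (g⁻¹ * z * g) * g⁻¹ := by rw [h1]
    _ = z := by group

theorem conj_sq (F : Fr K z) (g : G) : g * z * g⁻¹ * (g * z * g⁻¹) = 1 := by
  calc g * z * g⁻¹ * (g * z * g⁻¹) = g * (z * z) * g⁻¹ := by group
    _ = 1 := by rw [F.zz]; group

theorem conj_ne_one (F : Fr K z) (g : G) : g * z * g⁻¹ ≠ 1 := by
  intro h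
  apply F.z1
  calc z = g⁻¹ * (g * z * g⁻¹) * g := by group
    _ = 1 := by rw [h]; group

/-- If `z` lies in the perfect residue of `C(z) ∩ C(e')`, then `e ∈ K`. -/
theorem mem_of_res (F : Fr K z) {g : G} (hz : z ∈ Pr (Ce z ⊓ Ce (g⁻¹ * z * g))) : g * z * g⁻¹ ∈ K := by
  have h1 : g * z * g⁻¹ ∈ Pr (Ce z ⊓ Ce (g * z * g⁻¹)) := by
    rw [← map_conj_Pr]
    exact ⟨z, hz, rfl⟩
  exact F.perf _ ((Pr_le _).trans inf_le_left) (Pr_perfect _) h1

/-- the same with the other element -/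
theorem mem_of_res' (F : Fr K z) {g : G} (hz : z ∈ Pr (Ce z ⊓ Ce (g * z * g⁻¹))) : g⁻¹ * z * g ∈ K := by
  have h := F.mem_of_res (g := g⁻¹) (by rwa [inv_inv])
  rwa [inv_inv] at h

/-- Theorem B: if no conjugate of `z` except `z` lies in `K`, then no `e ∈ z^G ∩ C(z)` is conjugate to `e x` under `K`,
`1 ≠ x ∈ Pr (C(z) ∩ C(e))`. -/
theorem thmB (F : Fr K z) (hK : ∀ g : G, g * z * g⁻¹ ∈ K → g * z * g⁻¹ = z) {g x q : G}
    (hx : x ∈ Pr (Ce z ⊓ Ce (g * z * g⁻¹))) (hx1 : x ≠ 1)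
    (hq : g * z * g⁻¹ * q * (g * z * g⁻¹)⁻¹ = q * x) : False := by
  -- `e x = q⁻¹ e q`
  have hxe : x * (g * z * g⁻¹) = g * z * g⁻¹ * x := ((Pr_le _) hx).2
  have h1 : q⁻¹ * (g * z * g⁻¹) * q = g * z * g⁻¹ * x := by
    rw [mul_inv_eq_iff_eq_mul] at hq
    rw [mul_assoc, hq, ← hxe]
    group
  -- `x₁ = g⁻¹ x g ∈ K`
  have h2 : g⁻¹ * x * g ∈ K := by
    have h3 : x ∈ (Pr (Ce z ⊓ Ce (g⁻¹ * z * g))).map (MulAut.conj g).toMonoidHom := by
      rw [map_conj_Pr]; exact hx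
    obtain ⟨y, hy, hyx⟩ := h3
    have h4 : g * y * g⁻¹ = x := hyx
    have h5 : g⁻¹ * x * g = y := by rw [← h4]; group
    rw [h5]
    exact F.perf _ ((Pr_le _).trans inf_le_left) (Pr_perfect _) hy
  -- `z x₁` is a conjugate of `z`
  have h3 : (g⁻¹ * q⁻¹ * g) * z * (g⁻¹ * q⁻¹ * g)⁻¹ = z * (g⁻¹ * x * g) := by
    calc (g⁻¹ * q⁻¹ * g) * z * (g⁻¹ * q⁻¹ * g)⁻¹ = g⁻¹ * (q⁻¹ * (g * z * g⁻¹) * q) * g := by group
      _ = g⁻¹ * (g * z * g⁻¹ * x) * g := by rw [h1]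
      _ = _ := by group
  have h4 := hK (g⁻¹ * q⁻¹ * g) (by rw [h3]; exact K.mul_mem F.zK h2)
  rw [h3, mul_eq_left] at h4
  apply hx1
  calc x = g * (g⁻¹ * x * g) * g⁻¹ := by group
    _ = 1 := by rw [h4]; group

/-- swap for two involutions of `K` -/
theorem bad (F : Fr K z) {g : G} (hez : g * z * g⁻¹ ≠ z)
    (heK : g * z * g⁻¹ ∈ K) (heK' : g⁻¹ * z * g ∈ K)
    (hr : ∀ f : ↥K, f * f = 1 → f ≠ 1 → f ≠ ⟨z, F.zK⟩ → (⟨z, F.zK⟩ : ↥K) ∈ Pr (Ce f)) :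
    Bad (⟨z, F.zK⟩ : ↥K) ⟨g * z * g⁻¹, heK⟩ ⟨g⁻¹ * z * g, heK'⟩ := by
  have hne' := ne_swap hez
  have hsq' : g⁻¹ * z * g * (g⁻¹ * z * g) = 1 := by simpa using F.conj_sq g⁻¹
  have hn1' : g⁻¹ * z * g ≠ 1 := by simpa using F.conj_ne_one g⁻¹
  have hz1 : (⟨z, F.zK⟩ : ↥K) ∈ Pr (Ce (⟨g * z * g⁻¹, heK⟩ : ↥K)) :=
    hr _ (Subtype.ext (F.conj_sq g)) (fun h => F.conj_ne_one g (congrArg Subtype.val h))
      (fun h => hez (congrArg Subtype.val h))
  have hz2 : (⟨z, F.zK⟩ : ↥K) ∈ Pr (Ce (⟨g⁻¹ * z * g, heK'⟩ : ↥K)) :=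
    hr _ (Subtype.ext hsq') (fun h => hn1' (congrArg Subtype.val h)) (fun h => hne' (congrArg Subtype.val h))
  -- conjugation by `g⁻¹`
  have key : ∀ x : ↥K, x ∈ Pr (Ce (⟨g * z * g⁻¹, heK⟩ : ↥K)) →
      ∃ h : g⁻¹ * x * g ∈ K, (⟨g⁻¹ * x * g, h⟩ : ↥K) ∈ Pr (Ce (⟨g⁻¹ * z * g, heK'⟩ : ↥K)) := by
    intro x hx
    have h1 : (x : G) ∈ Pr (Ce z ⊓ Ce (g * z * g⁻¹)) := by
      rw [← F.map_Pr_Ce heK]; exact ⟨x, hx, rfl⟩
    rw [← map_conj_Pr] at h1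
    obtain ⟨y, hy, hyx⟩ := h1
    have h4 : g * y * g⁻¹ = x := hyx
    have h5 : g⁻¹ * x * g = y := by rw [← h4]; group
    rw [← F.map_Pr_Ce heK'] at hy
    obtain ⟨y', hy', hyy⟩ := hy
    have h6 : (y' : G) = g⁻¹ * x * g := by rw [h5]; exact hyy
    refine ⟨by rw [← h6]; exact y'.2, ?_⟩
    have : (⟨g⁻¹ * x * g, by rw [← h6]; exact y'.2⟩ : ↥K) = y' := Subtype.ext h6.symm
    rw [this]; exact hy'
  have key' : ∀ x : ↥K, x ∈ Pr (Ce (⟨g⁻¹ * z * g, heK'⟩ : ↥K)) →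
      ∃ h : g * x * g⁻¹ ∈ K, (⟨g * x * g⁻¹, h⟩ : ↥K) ∈ Pr (Ce (⟨g * z * g⁻¹, heK⟩ : ↥K)) := by
    intro x hx
    have h1 : (x : G) ∈ Pr (Ce z ⊓ Ce (g⁻¹ * z * g)) := by
      rw [← F.map_Pr_Ce heK']; exact ⟨x, hx, rfl⟩
    have h2 : g * x * g⁻¹ ∈ Pr (Ce z ⊓ Ce (g * z * g⁻¹)) := by
      rw [← map_conj_Pr]; exact ⟨x, h1, rfl⟩
    rw [← F.map_Pr_Ce heK] at h2
    obtain ⟨y', hy', hyy⟩ := h2
    have h6 : (y' : G) = g * x * g⁻¹ := hyy
    refine ⟨by rw [← h6]; exact y'.2, ?_⟩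
    have : (⟨g * x * g⁻¹, by rw [← h6]; exact y'.2⟩ : ↥K) = y' := Subtype.ext h6.symm
    rw [this]; exact hy'
  let φ : ↥(Pr (Ce (⟨g * z * g⁻¹, heK⟩ : ↥K))) ≃* ↥(Pr (Ce (⟨g⁻¹ * z * g, heK'⟩ : ↥K))) :=
    { toFun := fun x => ⟨⟨g⁻¹ * x * g, (key x x.2).choose⟩, (key x x.2).choose_spec⟩
      invFun := fun x => ⟨⟨g * x * g⁻¹, (key' x x.2).choose⟩, (key' x x.2).choose_spec⟩
      left_inv := fun x => Subtype.ext (Subtype.ext (by
        change g * (g⁻¹ * x * g) * g⁻¹ = x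
        group))
      right_inv := fun x => Subtype.ext (Subtype.ext (by
        change g⁻¹ * (g * x * g⁻¹) * g = x
        group))
      map_mul' := fun x y => Subtype.ext (Subtype.ext (by
        change g⁻¹ * (x * y) * g = g⁻¹ * x * g * (g⁻¹ * y * g)
        group)) }
  -- `e` is in its own residue (image of `z`)
  have he : (⟨g * z * g⁻¹, heK⟩ : ↥K) ∈ Pr (Ce (⟨g * z * g⁻¹, heK⟩ : ↥K)) := (key' _ hz2).choose_spec
  have he' : (⟨g⁻¹ * z * g, heK'⟩ : ↥K) ∈ Pr (Ce (⟨g⁻¹ * z * g, heK'⟩ : ↥K)) := (key _ hz1).choose_spec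
  refine ⟨he, hz1, he', hz2, φ, ?_, ?_⟩
  · apply Subtype.ext
    apply Subtype.ext
    change g⁻¹ * (g * z * g⁻¹) * g = z
    group
  · rfl

/-- `e ∈ K` implies `e' ∈ K`. -/
theorem mem_swap (F : Fr K z) {g : G} (hez : g * z * g⁻¹ ≠ z) (heK : g * z * g⁻¹ ∈ K)
    (hr : ∀ f : ↥K, f * f = 1 → f ≠ 1 → f ≠ ⟨z, F.zK⟩ → (⟨z, F.zK⟩ : ↥K) ∈ Pr (Ce f)) :
    g⁻¹ * z * g ∈ K := by
  apply F.mem_of_res'
  have h1 : (⟨z, F.zK⟩ : ↥K) ∈ Pr (Ce (⟨g * z * g⁻¹, heK⟩ : ↥K)) :=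
    hr _ (Subtype.ext (F.conj_sq g)) (fun h => F.conj_ne_one g (congrArg Subtype.val h))
      (fun h => hez (congrArg Subtype.val h))
  rw [← F.map_Pr_Ce heK]
  exact ⟨_, h1, rfl⟩

/-- (I) ⟹ `z^G ∩ K = {z}`. -/
theorem eq_of_mem (F : Fr K z) (hI : NoBad (⟨z, F.zK⟩ : ↥K)) (g : G) (heK : g * z * g⁻¹ ∈ K) :
    g * z * g⁻¹ = z := by
  by_contra hez
  have heK' := F.mem_swap hez heK hI.res
  have hne' := ne_swap hez
  have hsq' : g⁻¹ * z * g * (g⁻¹ * z * g) = 1 := by simpa using F.conj_sq g⁻¹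
  have hn1' : g⁻¹ * z * g ≠ 1 := by simpa using F.conj_ne_one g⁻¹
  exact hI.bad _ _ (Subtype.ext (F.conj_sq g)) (fun h => F.conj_ne_one g (congrArg Subtype.val h))
    (fun h => hez (congrArg Subtype.val h)) (Subtype.ext hsq') (fun h => hn1' (congrArg Subtype.val h))
    (fun h => hne' (congrArg Subtype.val h)) (F.bad hez heK heK' hI.res)

/-- (I') ⟹ `z^G ∩ K = {z}`. -/
theorem eq_of_mem_pf (F : Fr K z) {C : Set ↥K} (hI : PF (⟨z, F.zK⟩ : ↥K) C) (g : G)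
    (heK : g * z * g⁻¹ ∈ K) : g * z * g⁻¹ = z := by
  by_contra hez
  -- all the elements of `z^G ∩ K - {z}` are in `C`
  have hC : ∀ g : G, ∀ h : g * z * g⁻¹ ∈ K, g * z * g⁻¹ ≠ z → (⟨g * z * g⁻¹, h⟩ : ↥K) ∈ C := by
    intro g h hne
    have h' := F.mem_swap hne h hI.res
    have hne' := ne_swap hne
    have hsq' : g⁻¹ * z * g * (g⁻¹ * z * g) = 1 := by simpa using F.conj_sq g⁻¹
    have hn1' : g⁻¹ * z * g ≠ 1 := by simpa using F.conj_ne_one g⁻¹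
    exact hI.bad _ _ (Subtype.ext (F.conj_sq g)) (fun h => F.conj_ne_one g (congrArg Subtype.val h))
      (fun h => hne (congrArg Subtype.val h)) (Subtype.ext hsq') (fun h => hn1' (congrArg Subtype.val h))
      (fun h => hne' (congrArg Subtype.val h)) (F.bad hne h h' hI.res)
  -- and conversely
  have hA : ∀ f : ↥K, f ∈ C → ∃ a : G, a * z * a⁻¹ = f := by
    intro f hf
    obtain ⟨k, hk⟩ := hI.conj _ (hC g heK hez) f hf
    refine ⟨k * g, ?_⟩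
    have := congrArg Subtype.val hk
    rw [← this]
    change k * g * z * (k * g)⁻¹ = k * (g * z * g⁻¹) * (k : G)⁻¹
    group
  obtain ⟨x, hx, y, hy, hyx, hxy⟩ := hI.triple
  obtain ⟨a, ha⟩ := hA x hx
  obtain ⟨b, hb⟩ := hA y hy
  obtain ⟨c, hc⟩ := hA _ hxy
  have haK : a * z * a⁻¹ ∈ K := by rw [ha]; exact x.2
  have hxz : ∀ f : ↥K, f ∈ C → (f : G) ≠ z := by
    intro f hf hfz
    -- `f = z ∈ C` would be conjugate in `K` to `g z g⁻¹ ≠ z`
    obtain ⟨k, hk⟩ := hI.conj _ hf _ (hC g heK hez)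
    apply hez
    have := congrArg Subtype.val hk
    change (k : G) * f * (k : G)⁻¹ = g * z * g⁻¹ at this
    rw [← this, hfz, F.Kz k k.2]
    group
  have hane : a * z * a⁻¹ ≠ z := by rw [ha]; exact hxz x hx
  -- `y₁ = a⁻¹ y a ∈ K`
  have h2 : a⁻¹ * y * a ∈ K := by
    have h1 : (y : G) ∈ Pr (Ce z ⊓ Ce (a * z * a⁻¹)) := by
      rw [← F.map_Pr_Ce haK]
      have h3 : (⟨a * z * a⁻¹, haK⟩ : ↥K) = x := Subtype.ext ha
      rw [h3]
      exact ⟨y, hyx, rfl⟩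
    rw [← map_conj_Pr] at h1
    obtain ⟨y', hy', hyy⟩ := h1
    have h4 : a * y' * a⁻¹ = y := hyy
    have h5 : a⁻¹ * y * a = y' := by rw [← h4]; group
    rw [h5]
    exact F.perf _ ((Pr_le _).trans inf_le_left) (Pr_perfect _) hy'
  -- `y₁` and `z y₁` are conjugates of `z` in `K`
  have h3 : (a⁻¹ * b) * z * (a⁻¹ * b)⁻¹ = a⁻¹ * y * a := by
    calc (a⁻¹ * b) * z * (a⁻¹ * b)⁻¹ = a⁻¹ * (b * z * b⁻¹) * a := by group
      _ = _ := by rw [hb]
  have h4 : (a⁻¹ * c) * z * (a⁻¹ * c)⁻¹ = z * (a⁻¹ * y * a) := by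
    calc (a⁻¹ * c) * z * (a⁻¹ * c)⁻¹ = a⁻¹ * (c * z * c⁻¹) * a := by group
      _ = a⁻¹ * (x * y) * a := by rw [hc]; rfl
      _ = a⁻¹ * (a * z * a⁻¹ * y) * a := by rw [ha]
      _ = _ := by group
  have h5 : a⁻¹ * y * a ≠ z := by
    intro h
    -- `y = a z a⁻¹ = x`, `x y = 1`
    have h6 : (y : G) = a * z * a⁻¹ := by rw [← h]; group
    have h7 : (y : G) = x := by rw [h6, ha]
    apply F.conj_ne_one c
    rw [hc]
    change (x : G) * y = 1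
    rw [h7, ← ha, F.conj_sq]
  have h6 : z * (a⁻¹ * y * a) ≠ z := by
    intro h
    rw [mul_eq_left] at h
    have h7 : (y : G) = 1 := by
      calc (y : G) = a * (a⁻¹ * y * a) * a⁻¹ := by group
        _ = 1 := by rw [h]; group
    apply F.conj_ne_one b
    rw [hb, h7]
  have h7 := hC (a⁻¹ * b) (by rw [h3]; exact h2) (by rw [h3]; exact h5)
  have h8 := hC (a⁻¹ * c) (by rw [h4]; exact K.mul_mem F.zK h2) (by rw [h4]; exact h6)
  apply hI.dis _ h7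
  have h9 : (⟨(a⁻¹ * b) * z * (a⁻¹ * b)⁻¹, by rw [h3]; exact h2⟩ : ↥K) * ⟨z, F.zK⟩ =
      ⟨(a⁻¹ * c) * z * (a⁻¹ * c)⁻¹, by rw [h4]; exact K.mul_mem F.zK h2⟩ := by
    apply Subtype.ext
    change (a⁻¹ * b) * z * (a⁻¹ * b)⁻¹ * z = (a⁻¹ * c) * z * (a⁻¹ * c)⁻¹
    rw [h3, h4, F.Kz _ h2]
  rw [h9]
  exact h8

/-- (II) and `z^G ∩ K = {z}` contradict the frame. -/
theorem false_of_outer (F : Fr K z) (hK : ∀ g : G, g * z * g⁻¹ ∈ K → g * z * g⁻¹ = z)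
    (hII : Outer (⟨z, F.zK⟩ : ↥K)) : False := by
  obtain ⟨g, hne, hcomm⟩ := F.ne
  have hnK : g * z * g⁻¹ ∉ K := fun h => hne (hK g h)
  have hnK' : g⁻¹ * z * g ∉ K := by
    intro h
    have h1 := hK g⁻¹ (by rwa [inv_inv])
    rw [inv_inv] at h1
    exact ne_swap hne h1
  set e := g * z * g⁻¹ with he
  have hee : e * e = 1 := F.conj_sq g
  -- the automorphism
  have h1 : F.act hcomm * F.act hcomm = 1 := by
    ext k
    change e * (e * k * e⁻¹) * e⁻¹ = k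
    calc e * (e * k * e⁻¹) * e⁻¹ = (e * e) * k * (e * e)⁻¹ := by group
      _ = k := by rw [hee]; group
  have h2 : F.act hcomm ≠ 1 := by
    intro h
    rcases F.inv e hcomm hee (fun k hk => by
      have := congrArg Subtype.val (DFunLike.congr_fun h ⟨k, hk⟩)
      change e * k * e⁻¹ = k at this
      exact mul_inv_eq_iff_eq_mul.1 this) with h' | h'
    · exact F.conj_ne_one g h'
    · exact hne h'
  have h3 : ∀ f : ↥K, f * f = 1 → F.act hcomm ≠ MulAut.conj f := by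
    intro f hf h
    -- `f⁻¹ e` centralizes `K`
    have hfi : (f : G)⁻¹ = f := by
      have : (f : G) * f = 1 := congrArg Subtype.val hf
      exact inv_eq_of_mul_eq_one_left this
    have hfe : ∀ k ∈ K, e * k * e⁻¹ = f * k * (f : G)⁻¹ := fun k hk => by
      have := congrArg Subtype.val (DFunLike.congr_fun h ⟨k, hk⟩)
      exact this
    have hcomf : e * f = f * e := by
      have := hfe f f.2
      rw [mul_inv_cancel_right, mul_inv_eq_iff_eq_mul] at this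
      exact this
    have h4 : (f * e : G) * z = z * (f * e) := by
      rw [mul_assoc, hcomm, ← mul_assoc, F.Kz f f.2, mul_assoc]
    have h5 : (f * e : G) * (f * e) = 1 := by
      calc (f * e : G) * (f * e) = f * (e * f) * e := by group
        _ = (f * f) * (e * e) := by rw [hcomf]; group
        _ = 1 := by
          rw [hee, mul_one]
          exact congrArg Subtype.val hf
    rcases F.inv (f * e) h4 h5 (fun k hk => by
      have h6 := hfe k hk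
      rw [mul_inv_eq_iff_eq_mul] at h6
      rw [mul_assoc, h6]
      calc (f : G) * (f * k * (f : G)⁻¹ * e) = (f * f) * k * ((f : G)⁻¹ * e) := by group
        _ = k * (f * e) := by
          rw [hfi, show (f : G) * f = 1 from congrArg Subtype.val hf, one_mul]) with h' | h'
    · apply hnK
      have : e = (f : G)⁻¹ := (inv_eq_of_mul_eq_one_right h').symm
      rw [this]; exact K.inv_mem f.2
    · apply hnK
      have : e = (f : G)⁻¹ * z := by rw [← h']; group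
      rw [this]; exact K.mul_mem (K.inv_mem f.2) F.zK
  rcases hII (F.act hcomm) h1 h2 h3 with h | ⟨x, hx, hx1, q, hq⟩
  · apply hnK'
    apply F.mem_of_res'
    rw [← he, ← F.map_Pr_Fx hcomm]
    exact ⟨_, h, rfl⟩
  · have hx' : (x : G) ∈ Pr (Ce z ⊓ Ce (g * z * g⁻¹)) := by
      rw [← he, ← F.map_Pr_Fx hcomm]
      exact ⟨x, hx, rfl⟩
    exact F.thmB hK hx' (fun h => hx1 (Subtype.ext h)) (congrArg Subtype.val hq)

/-- **The kill**, (I) and (II). -/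
theorem false (F : Fr K z) (hI : NoBad (⟨z, F.zK⟩ : ↥K)) (hII : Outer (⟨z, F.zK⟩ : ↥K)) : False :=
  F.false_of_outer (F.eq_of_mem hI) hII

/-- **The kill**, (I') and (II). -/
theorem false_pf (F : Fr K z) {C : Set ↥K} (hI : PF (⟨z, F.zK⟩ : ↥K) C) (hII : Outer (⟨z, F.zK⟩ : ↥K)) :
    False :=
  F.false_of_outer (F.eq_of_mem_pf hI) hII

end Fr

end Cfsg.Agent.OddHalf.D9.Kill
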