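import Cfsg.Agent.OddHalf.Iface
import Cfsg.Agent.StandardComponent.StdCtx
import Cfsg.Agent.Schreier.Basic
import Cfsg.Agent.OddHalf.D9.Kill

/-!
# D9: a standard subgroup `K` with an involution `z` in its centre, `C(K)` cyclic

`Conf G K z`: `G` simple, `K` perfect, `z ∈ Z(K)` an involution, `C_G(K)` a cyclic `2`-group, `C_G(z) = N_G(K)`.
`of_std` derives it from the hypotheses of the node `Iface.D9`.

* [a] `z` is the only conjugate of `z` in `C_G(K)`; some conjugate `e ≠ z` commutes with `z` (`Z*`);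
* [b] SWAP: for such an `e` there is `h` with `h e h⁻¹ = z`, and `e' := h z h⁻¹` is again such a conjugate;
  `h` maps `D(e) = C(z) ∩ C(e)` onto `D(e')`.
-/

set_option autoImplicit false

namespace Cfsg.Agent.OddHalf.D9.Basic

open Subgroup Cfsg.Agent.OddHalf.Iface
open scoped commutatorElement

/-- The configuration of D9. -/
structure Conf (G : Type*) [Group G] (K : Subgroup G) (z : G) : Prop where
  fin : Finite G
  simple : IsSimpleGroup G
  na : ¬ IsMulCommutative G
  perf : ⁅K, K⁆ = K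
  z1 : z ≠ 1
  zz : z * z = 1
  zK : z ∈ K
  zR : z ∈ centralizer (K : Set G)
  Rcyc : IsCyclic ↥(centralizer (K : Set G))
  R2 : IsPGroup 2 ↥(centralizer (K : Set G))
  uniq : ∀ y ∈ centralizer (K : Set G), y * y = 1 → y = 1 ∨ y = z
  H : centralizer ({z} : Set G) = normalizer (K : Set G)

section Core

variable {G : Type*} [Group G]

/-- A subgroup of `C(z)` of odd order normalized by `C(z)` is trivial if `O(C(z)) = 1`. -/
theorem eq_bot_of_odd {z : G} (hb : centralizerPPrimeCore 2 z = ⊥) {N : Subgroup G}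
    (hN : N ≤ centralizer ({z} : Set G))
    (hn : ∀ g ∈ centralizer ({z} : Set G), ∀ x ∈ N, g * x * g⁻¹ ∈ N) (ho : Odd (Nat.card N)) : N = ⊥ := by
  have hnorm : (N.subgroupOf (centralizer ({z} : Set G))).Normal := by
    refine ⟨fun n hn' g => ?_⟩
    rw [mem_subgroupOf] at hn' ⊢
    exact hn g g.2 n hn'
  have hcop : (Nat.card (N.subgroupOf (centralizer ({z} : Set G)))).Coprime 2 := by
    rw [Nat.card_congr (subgroupOfEquivOfLe hN).toEquiv]
    exact Nat.coprime_two_right.2 ho
  have hle : N.subgroupOf (centralizer ({z} : Set G)) ≤ pPrimeCore 2 (centralizer ({z} : Set G)) :=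
    le_sSup ⟨hnorm, hcop⟩
  rw [eq_bot_iff, ← hb]
  intro n hn'
  exact ⟨⟨n, hN hn'⟩, hle hn', rfl⟩

/-- A finite group with cyclic Sylow `2`-subgroups has a normal subgroup of odd order whose index is a power
of `2`, namely the elements of odd order. -/
theorem exists_complement {C : Type*} [Group C] [Finite C] (hC : ∀ R : Sylow 2 C, IsCyclic R) :
    ∃ N : Subgroup C, N.Characteristic ∧ Odd (Nat.card N) ∧ (N = ⊥ → IsPGroup 2 C ∧ IsCyclic C) := by
  have : Fact (Nat.Prime 2) := ⟨Nat.prime_two⟩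
  obtain ⟨P⟩ : Nonempty (Sylow 2 C) := inferInstance
  have hP := hC P
  by_cases h2 : 2 ∣ Nat.card C
  · have hmin : (Nat.card C).minFac = 2 := (Nat.minFac_eq_two_iff _).2 h2
    have hcomp := hP.isComplement' hmin
    set N := (MonoidHom.transferSylow P (hP.normalizer_le_centralizer hmin)).ker with hN
    have hodd : ¬ 2 ∣ Nat.card N := MonoidHom.not_dvd_card_ker_transferSylow P _
    have hmem : ∀ x : C, x ∈ N ↔ ¬ 2 ∣ orderOf x := by
      intro x
      constructor
      · intro hx h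
        apply hodd
        have : orderOf (⟨x, hx⟩ : N) ∣ Nat.card N := orderOf_dvd_natCard _
        rw [orderOf_mk] at this
        exact h.trans this
      · intro hx
        -- the image of `x` in the `2`-group `C / N` is trivial
        have h1 : IsPGroup 2 (C ⧸ N) := by
          have hidx : N.index = Nat.card P := hcomp.symm.index_eq_card
          obtain ⟨n, hn⟩ := P.2.exists_card_eq
          apply IsPGroup.of_card (n := n)
          rw [← hn, ← hidx]; rfl
        obtain ⟨k, hk⟩ := IsPGroup.iff_orderOf.1 h1 (x : C ⧸ N)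
        have h2 : orderOf (x : C ⧸ N) ∣ orderOf x := orderOf_map_dvd (QuotientGroup.mk' N) x
        rw [hk] at h2
        rcases Nat.eq_zero_or_pos k with rfl | hk0
        · rw [pow_zero, orderOf_eq_one_iff, QuotientGroup.eq_one_iff] at hk
          exact hk
        · exact absurd ((dvd_pow_self 2 (by omega)).trans h2) hx
    refine ⟨N, ?_, ?_, ?_⟩
    · rw [characteristic_iff_comap_le]
      intro φ x hx
      rw [mem_comap, MulEquiv.coe_toMonoidHom, hmem, MulEquiv.orderOf_eq] at hx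
      rwa [hmem]
    · exact Nat.odd_iff.2 (by omega)
    · intro hb
      have htop : (P : Subgroup C) = ⊤ := by
        rw [hb] at hcomp
        exact isComplement'_bot_left.1 hcomp
      refine ⟨?_, ?_⟩
      · have := P.2
        rw [htop] at this
        exact this.of_equiv Subgroup.topEquiv
      · have h3 : IsCyclic (⊤ : Subgroup C) := by rw [← htop]; exact hP
        exact isCyclic_of_surjective (Subgroup.topEquiv : (⊤ : Subgroup C) ≃* C)
          (Subgroup.topEquiv : (⊤ : Subgroup C) ≃* C).surjective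
  · refine ⟨⊤, inferInstance, ?_, ?_⟩
    · rw [card_top, Nat.odd_iff]; omega
    · intro h
      have hs : Subsingleton C := by
        refine ⟨fun a b => ?_⟩
        have ha : a ∈ (⊤ : Subgroup C) := mem_top a
        have hb' : b ∈ (⊤ : Subgroup C) := mem_top b
        rw [h, mem_bot] at ha hb'
        rw [ha, hb']
      exact ⟨IsPGroup.of_card (n := 0) (by rw [pow_zero]; exact Nat.card_unique), inferInstance⟩

/-- An element normalizing `C` normalizes the characteristic subgroups of `C`. -/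
theorem aux_char {C : Subgroup G} (N : Subgroup C) [hN : N.Characteristic] {g : G}
    (hg : g ∈ normalizer (C : Set G)) (y : C) (hy : y ∈ N) : g * y * g⁻¹ ∈ N.map C.subtype := by
  have hmem : ∀ x : G, x ∈ C ↔ g * x * g⁻¹ ∈ C := fun x => mem_normalizer_iff.1 hg x
  let φ : C ≃* C :=
    { toFun := fun x => ⟨g * x * g⁻¹, (hmem x).1 x.2⟩
      invFun := fun x => ⟨g⁻¹ * x * g, by
        rw [hmem]
        have : g * (g⁻¹ * (x : G) * g) * g⁻¹ = x := by group
        rw [this]; exact x.2⟩
      left_inv := fun x => Subtype.ext (by simp only; group)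
      right_inv := fun x => Subtype.ext (by simp only; group)
      map_mul' := fun x y => Subtype.ext (by simp only [coe_mul]; group) }
  have h1 : φ y ∈ N := by
    have := hN.fixed φ
    rw [← this] at hy
    exact hy
  exact ⟨φ y, h1, rfl⟩

end Core

/-- the involution of a cyclic group is unique -/
theorem cyclic_unique {R : Type*} [Group R] [IsCyclic R] [Finite R] {a b : R} (ha : orderOf a = 2)
    (hb : orderOf b = 2) : a = b := by
  classical
  have : Fintype R := Fintype.ofFinite R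
  by_contra hab
  have h1 := IsCyclic.card_pow_eq_one_le (α := R) (n := 2) (by decide)
  have hne : ∀ x : R, orderOf x = 2 → x ≠ 1 := by
    rintro x hx rfl
    rw [orderOf_one] at hx
    exact absurd hx (by decide)
  have h2 : ({1, a, b} : Finset R) ⊆ Finset.univ.filter (fun x : R => x ^ 2 = 1) := by
    intro x hx
    rw [Finset.mem_filter]
    refine ⟨Finset.mem_univ _, ?_⟩
    simp only [Finset.mem_insert, Finset.mem_singleton] at hx
    rcases hx with rfl | rfl | rfl
    · exact one_pow 2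
    · rw [← ha]; exact pow_orderOf_eq_one _
    · rw [← hb]; exact pow_orderOf_eq_one _
  have h3 := Finset.card_le_card h2
  rw [Finset.card_insert_of_notMem, Finset.card_pair hab] at h3
  · omega
  · simp only [Finset.mem_insert, Finset.mem_singleton, not_or]
    exact ⟨(hne a ha).symm, (hne b hb).symm⟩

universe u

/-- **D9, reduction**: the configuration `Conf`. -/
theorem of_std {G : Type u} [Group G] (hG : Ctx G) {K : Subgroup G} (hK : Std0 G K) (hc : Cyc K)
    (hZ : center ↥K ≠ ⊥) : ∃ z : G, Conf G K z := by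
  have hfin := hG.fin
  have : Fact (Nat.Prime 2) := ⟨Nat.prime_two⟩
  -- an involution in `Z(K)`
  have h2 : 2 ∣ Nat.card (center ↥K) := by
    obtain ⟨n, hn⟩ := hK.z2.exists_card_eq
    rcases Nat.eq_zero_or_pos n with rfl | h
    · rw [pow_zero, Subgroup.card_eq_one] at hn
      exact absurd hn hZ
    · rw [hn]; exact dvd_pow_self 2 (by omega)
  obtain ⟨⟨⟨z, hzK⟩, hzc⟩, hz⟩ := exists_prime_orderOf_dvd_card' 2 h2
  rw [orderOf_mk, orderOf_mk] at hz
  have hz1 : z ≠ 1 := by
    rintro rfl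
    rw [orderOf_one] at hz
    exact absurd hz (by decide)
  have hzz : z * z = 1 := by
    rw [← pow_two, ← hz]; exact pow_orderOf_eq_one z
  have hzR : z ∈ centralizer (K : Set G) := by
    rw [mem_centralizer_iff]
    intro l hl
    exact congrArg Subtype.val (mem_center_iff.1 hzc ⟨l, hl⟩)
  -- `C(z) ≤ N(K)`
  have hle := (Cfsg.Agent.S1754.result K hK.std z hz hzR).1
  have hRle : centralizer (K : Set G) ≤ centralizer ({z} : Set G) := by
    intro x hx
    rw [mem_centralizer_singleton_iff]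
    exact (mem_centralizer_iff.1 hx z hzK).symm
  -- `C(K)` is a cyclic 2-group
  obtain ⟨N, hNc, hNo, hNb⟩ := exists_complement (C := ↥(centralizer (K : Set G))) hc
  have hN0 : N.map (centralizer (K : Set G)).subtype = ⊥ := by
    apply eq_bot_of_odd (hG.bal z hz)
    · rintro x ⟨y, -, rfl⟩
      exact hRle y.2
    · rintro g hg x ⟨y, hy, rfl⟩
      have hg' : g ∈ normalizer (centralizer (K : Set G) : Set G) := by
        rw [← hK.std.2.2.2]; exact hle hg
      exact aux_char N hg' y hy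
    · rw [Nat.card_congr (N.equivMapOfInjective _ (centralizer (K : Set G)).subtype_injective).symm.toEquiv]
      exact hNo
  have hN1 : N = ⊥ := by
    rw [← Subgroup.map_eq_bot_iff_of_injective N (centralizer (K : Set G)).subtype_injective]
    exact hN0
  obtain ⟨hR2, hRc⟩ := hNb hN1
  have huniq : ∀ y ∈ centralizer (K : Set G), y * y = 1 → y = 1 ∨ y = z := by
    intro y hy hyy
    by_contra hcon
    push Not at hcon
    have hy2 : orderOf (⟨y, hy⟩ : ↥(centralizer (K : Set G))) = 2 := by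
      rw [orderOf_mk]
      exact orderOf_eq_prime (by rw [pow_two]; exact hyy) hcon.1
    have hz2 : orderOf (⟨z, hzR⟩ : ↥(centralizer (K : Set G))) = 2 := by
      rw [orderOf_mk]; exact hz
    exact hcon.2 (congrArg Subtype.val (cyclic_unique hy2 hz2))
  refine ⟨z, hfin, hG.simple, hG.na, ?_, hz1, hzz, hzK, hzR, hRc, hR2, huniq, le_antisymm hle ?_⟩
  · have h1 : Group.IsPerfect ↥K := hK.std.1.1
    have h2 : ⁅(⊤ : Subgroup ↥K), ⊤⁆ = ⊤ := h1.commutator_eq_top
    have h3 := congrArg (Subgroup.map K.subtype) h2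
    rw [Subgroup.map_commutator, ← MonoidHom.range_eq_map, K.range_subtype] at h3
    exact h3
  · intro x hx
    rw [mem_centralizer_singleton_iff]
    have h1 : x * z * x⁻¹ ∈ centralizer (K : Set G) := by
      have hx' : x ∈ normalizer (centralizer (K : Set G) : Set G) := by
        rw [← hK.std.2.2.2]; exact hx
      exact (mem_normalizer_iff.1 hx' z).1 hzR
    have h2 : x * z * x⁻¹ * (x * z * x⁻¹) = 1 := by
      calc x * z * x⁻¹ * (x * z * x⁻¹) = x * (z * z) * x⁻¹ := by group
        _ = 1 := by rw [hzz]; group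
    rcases huniq _ h1 h2 with h3 | h3
    · exfalso
      apply hz1
      rw [mul_inv_eq_one] at h3
      exact mul_eq_left.1 h3
    · exact mul_inv_eq_iff_eq_mul.1 h3

/-! ### [a] the conjugates of `z` in `C(z)` -/

/-- `e` is a conjugate of `z`, different from `z` and commuting with `z`. -/
structure Adj {G : Type*} [Group G] (z e : G) : Prop where
  conj : IsConj z e
  ne : e ≠ z
  comm : e * z = z * e

section A

variable {G : Type*} [Group G] {K : Subgroup G} {z : G}

theorem Adj.ee (h : z * z = 1) {e : G} (he : Adj z e) : e * e = 1 := by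
  obtain ⟨g, hg⟩ := isConj_iff.1 he.conj
  rw [← hg]
  calc g * z * g⁻¹ * (g * z * g⁻¹) = g * (z * z) * g⁻¹ := by group
    _ = 1 := by rw [h]; group

theorem Adj.ne_one (h : z ≠ 1) {e : G} (he : Adj z e) : e ≠ 1 := by
  rintro rfl
  obtain ⟨g, hg⟩ := isConj_iff.1 he.conj
  apply h
  rw [mul_inv_eq_one] at hg
  exact mul_eq_left.1 hg

theorem Conf.orderOf_z (c : Conf G K z) : orderOf z = 2 :=
  orderOf_eq_prime (by rw [pow_two]; exact c.zz) c.z1

theorem Conf.exists_adj (c : Conf G K z) : ∃ e, Adj z e := by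
  have := c.fin
  have := c.simple
  obtain ⟨h, h1, h2⟩ := Cfsg.Agent.StandardComponent.StdCtx.fusion c.na c.orderOf_z
  exact ⟨h * z * h⁻¹, isConj_iff.2 ⟨h, rfl⟩, h2, h1⟩

/-- A conjugate of `z` in `C(K)` is `z`. -/
theorem Conf.eq_z (c : Conf G K z) {e : G} (he : IsConj z e) (hC : e ∈ centralizer (K : Set G)) : e = z := by
  obtain ⟨g, hg⟩ := isConj_iff.1 he
  have h2 : e * e = 1 := by
    rw [← hg]
    calc g * z * g⁻¹ * (g * z * g⁻¹) = g * (z * z) * g⁻¹ := by group
      _ = 1 := by rw [c.zz]; group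
  rcases c.uniq e hC h2 with h3 | h3
  · exfalso
    apply c.z1
    rw [h3, mul_inv_eq_one] at hg
    exact mul_eq_left.1 hg
  · exact h3

theorem Conf.adj_notMem (c : Conf G K z) {e : G} (he : Adj z e) : e ∉ centralizer (K : Set G) :=
  fun h => he.ne (c.eq_z he.conj h)

theorem Conf.adj_mem (c : Conf G K z) {e : G} (he : Adj z e) : e ∈ normalizer (K : Set G) := by
  rw [← c.H, mem_centralizer_singleton_iff]
  exact he.comm

theorem Conf.Kle (c : Conf G K z) : K ≤ centralizer ({z} : Set G) := by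
  rw [c.H]; exact le_normalizer

theorem Conf.Rle (c : Conf G K z) : centralizer (K : Set G) ≤ centralizer ({z} : Set G) := by
  intro x hx
  rw [mem_centralizer_singleton_iff]
  exact (mem_centralizer_iff.1 hx z c.zK).symm

/-! ### [b] SWAP -/

/-- **SWAP**: for an adjacent `e` there is `h` with `h e h⁻¹ = z`, and `h z h⁻¹` is adjacent. -/
theorem swap {e : G} (he : Adj z e) : ∃ h e' : G, h * e * h⁻¹ = z ∧ h * z * h⁻¹ = e' ∧ Adj z e' := by
  obtain ⟨g, hg⟩ := isConj_iff.1 he.conj
  have h1 : g⁻¹ * e * g⁻¹⁻¹ = z := by rw [← hg]; group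
  refine ⟨g⁻¹, g⁻¹ * z * g⁻¹⁻¹, h1, rfl, isConj_iff.2 ⟨g⁻¹, rfl⟩, ?_, ?_⟩
  · intro h
    apply he.ne
    have h2 : g⁻¹ * e * g⁻¹⁻¹ = g⁻¹ * z * g⁻¹⁻¹ := h1.trans h.symm
    exact mul_left_cancel (mul_right_cancel h2)
  · calc g⁻¹ * z * g⁻¹⁻¹ * z = g⁻¹ * z * g⁻¹⁻¹ * (g⁻¹ * e * g⁻¹⁻¹) := by rw [h1]
      _ = g⁻¹ * (z * e) * g⁻¹⁻¹ := by group
      _ = g⁻¹ * (e * z) * g⁻¹⁻¹ := by rw [he.comm]
      _ = g⁻¹ * e * g⁻¹⁻¹ * (g⁻¹ * z * g⁻¹⁻¹) := by group
      _ = z * (g⁻¹ * z * g⁻¹⁻¹) := by rw [h1]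

/-- `C(z) ∩ C(e)`. -/
def D (z e : G) : Subgroup G := centralizer ({z} : Set G) ⊓ centralizer ({e} : Set G)

theorem mem_D {z e x : G} : x ∈ D z e ↔ x * z = z * x ∧ x * e = e * x := by
  rw [D, mem_inf, mem_centralizer_singleton_iff, mem_centralizer_singleton_iff]

theorem D_comm (z e : G) : D z e = D e z := by rw [D, D, inf_comm]

/-- The element of SWAP maps `D z e` onto `D z e'`. -/
theorem map_D {z e e' h : G} (h1 : h * e * h⁻¹ = z) (h2 : h * z * h⁻¹ = e') :
    (D z e).map (MulAut.conj h).toMonoidHom = D z e' := by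
  have key : ∀ (h z e e' : G), h * e * h⁻¹ = z → h * z * h⁻¹ = e' → ∀ x ∈ D z e, h * x * h⁻¹ ∈ D z e' := by
    intro h z e e' h1 h2 x hx
    obtain ⟨hx1, hx2⟩ := mem_D.1 hx
    refine mem_D.2 ⟨?_, ?_⟩
    · calc h * x * h⁻¹ * z = h * x * h⁻¹ * (h * e * h⁻¹) := by rw [h1]
        _ = h * (x * e) * h⁻¹ := by group
        _ = h * (e * x) * h⁻¹ := by rw [hx2]
        _ = (h * e * h⁻¹) * (h * x * h⁻¹) := by group
        _ = z * (h * x * h⁻¹) := by rw [h1]
    · calc h * x * h⁻¹ * e' = h * x * h⁻¹ * (h * z * h⁻¹) := by rw [h2]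
        _ = h * (x * z) * h⁻¹ := by group
        _ = h * (z * x) * h⁻¹ := by rw [hx1]
        _ = (h * z * h⁻¹) * (h * x * h⁻¹) := by group
        _ = e' * (h * x * h⁻¹) := by rw [h2]
  apply le_antisymm
  · rintro y ⟨x, hx, rfl⟩
    exact key h z e e' h1 h2 x hx
  · intro y hy
    obtain ⟨hy1, hy2⟩ := mem_D.1 hy
    refine ⟨h⁻¹ * y * h, ?_, by
      simp only [MulEquiv.toMonoidHom_eq_coe, MonoidHom.coe_coe, MulAut.conj_apply]; group⟩
    refine mem_D.2 ⟨?_, ?_⟩
    · calc h⁻¹ * y * h * z = h⁻¹ * (y * (h * z * h⁻¹)) * h := by group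
        _ = h⁻¹ * (y * e') * h := by rw [h2]
        _ = h⁻¹ * (e' * y) * h := by rw [hy2]
        _ = h⁻¹ * ((h * z * h⁻¹) * y) * h := by rw [h2]
        _ = z * (h⁻¹ * y * h) := by group
    · calc h⁻¹ * y * h * e = h⁻¹ * (y * (h * e * h⁻¹)) * h := by group
        _ = h⁻¹ * (y * z) * h := by rw [h1]
        _ = h⁻¹ * (z * y) * h := by rw [hy1]
        _ = h⁻¹ * ((h * e * h⁻¹) * y) * h := by rw [h1]
        _ = e * (h⁻¹ * y * h) := by group

/-! ### [c] perfect residues -/

/-- The largest perfect subgroup of `D`. -/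
def Res (D : Subgroup G) : Subgroup G := sSup {P | P ≤ D ∧ ⁅P, P⁆ = P}

theorem Res_le (D : Subgroup G) : Res D ≤ D := sSup_le fun _ h => h.1

theorem le_Res {D P : Subgroup G} (h : P ≤ D) (hP : ⁅P, P⁆ = P) : P ≤ Res D := le_sSup ⟨h, hP⟩

theorem Res_perfect (D : Subgroup G) : ⁅Res D, Res D⁆ = Res D := by
  apply le_antisymm
  · rw [commutator_le]
    intro a ha b hb
    exact (Res D).mul_mem ((Res D).mul_mem ((Res D).mul_mem ha hb) ((Res D).inv_mem ha))
      ((Res D).inv_mem hb)
  · apply sSup_le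
    rintro P ⟨h1, h2⟩
    calc P = ⁅P, P⁆ := h2.symm
      _ ≤ ⁅Res D, Res D⁆ := commutator_mono (le_Res h1 h2) (le_Res h1 h2)

theorem Res_mono {D E : Subgroup G} (h : D ≤ E) : Res D ≤ Res E :=
  le_Res ((Res_le D).trans h) (Res_perfect D)

theorem map_Res_le {G' : Type*} [Group G'] (f : G →* G') (D : Subgroup G) :
    (Res D).map f ≤ Res (D.map f) := by
  apply le_Res (map_mono (Res_le D))
  rw [← map_commutator, Res_perfect]

theorem map_Res (h : G) (D : Subgroup G) :
    (Res D).map (MulAut.conj h).toMonoidHom = Res (D.map (MulAut.conj h).toMonoidHom) := by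
  apply le_antisymm (map_Res_le _ D)
  have h1 := map_Res_le (MulAut.conj h⁻¹).toMonoidHom (D.map (MulAut.conj h).toMonoidHom)
  have h2 : ∀ E : Subgroup G, (E.map (MulAut.conj h).toMonoidHom).map (MulAut.conj h⁻¹).toMonoidHom = E := by
    intro E
    rw [Subgroup.map_map]
    have : (MulAut.conj h⁻¹).toMonoidHom.comp (MulAut.conj h).toMonoidHom = MonoidHom.id G := by
      ext x
      simp only [MulEquiv.toMonoidHom_eq_coe, MonoidHom.coe_comp, MonoidHom.coe_coe,
        Function.comp_apply, MulAut.conj_apply, MonoidHom.id_apply]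
      group
    rw [this, Subgroup.map_id]
  rw [h2] at h1
  have h3 := map_mono (f := (MulAut.conj h).toMonoidHom) h1
  refine le_trans (le_of_eq ?_) h3
  rw [Subgroup.map_map]
  have : (MulAut.conj h).toMonoidHom.comp (MulAut.conj h⁻¹).toMonoidHom = MonoidHom.id G := by
    ext x
    simp only [MulEquiv.toMonoidHom_eq_coe, MonoidHom.coe_comp, MonoidHom.coe_coe,
      Function.comp_apply, MulAut.conj_apply, MonoidHom.id_apply]
    group
  rw [this, Subgroup.map_id]

/-- **SWAP for the residue**: `z ∈ D(e)^∞ ↔ e' ∈ D(e')^∞` and `e ∈ D(e)^∞ ↔ z ∈ D(e')^∞`. -/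
theorem swap_Res {z e e' h : G} (h1 : h * e * h⁻¹ = z) (h2 : h * z * h⁻¹ = e') (x : G) :
    x ∈ Res (D z e) ↔ h * x * h⁻¹ ∈ Res (D z e') := by
  rw [← map_D h1 h2, ← map_Res]
  constructor
  · intro hx; exact ⟨x, hx, rfl⟩
  · rintro ⟨y, hy, hxy⟩
    have : y = x := by
      simp only [MulEquiv.toMonoidHom_eq_coe, MonoidHom.coe_coe, MulAut.conj_apply] at hxy
      exact mul_left_cancel (mul_right_cancel hxy)
    rwa [← this]

/-- A perfect subgroup of `N(K)` lies in `K` if `K / Z(K)` has the Schreier property. -/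
theorem Conf.perfect_le (c : Conf G K z) (hS : Cfsg.Agent.Schreier.Basic.Sch (↥K ⧸ center ↥K))
    {P : Subgroup G} (hP : P ≤ normalizer (K : Set G)) (hPp : ⁅P, P⁆ = P) : P ≤ K := by
  have hnorm : ∀ p ∈ P, ∀ k : ↥K, p * (k : G) * p⁻¹ ∈ K := fun p hp k =>
    (mem_normalizer_iff.1 (hP hp) k).1 k.2
  have hnorm' : ∀ p ∈ P, ∀ k : ↥K, p⁻¹ * (k : G) * p ∈ K := fun p hp k => by
    have := hnorm p⁻¹ (P.inv_mem hp) k
    rwa [inv_inv] at this
  -- the action on `K`
  let act : ↥P →* MulAut ↥K :=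
    { toFun := fun p =>
        { toFun := fun k => ⟨p * k * (p : G)⁻¹, hnorm p p.2 k⟩
          invFun := fun k => ⟨(p : G)⁻¹ * k * p, hnorm' p p.2 k⟩
          left_inv := fun k => Subtype.ext (by
            change (p : G)⁻¹ * (p * k * (p : G)⁻¹) * p = k
            group)
          right_inv := fun k => Subtype.ext (by
            change (p : G) * ((p : G)⁻¹ * k * p) * (p : G)⁻¹ = k
            group)
          map_mul' := fun a b => Subtype.ext (by
            change (p : G) * (a * b) * (p : G)⁻¹ = p * a * (p : G)⁻¹ * (p * b * (p : G)⁻¹)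
            group) }
      map_one' := by
        ext k
        change (1 : G) * k * (1 : G)⁻¹ = k
        group
      map_mul' := fun p q => by
        ext k
        change (p * q : G) * k * (p * q : G)⁻¹ = p * (q * k * (q : G)⁻¹) * (p : G)⁻¹
        group }
  have hact : ∀ (p : ↥P) (k : ↥K), ((act p k : ↥K) : G) = p * k * (p : G)⁻¹ := fun _ _ => rfl
  -- the action on `K / Z(K)`
  have hcz : ∀ φ : MulAut ↥K, (center ↥K).map φ.toMonoidHom = center ↥K := fun φ =>
    characteristic_iff_map_eq.1 inferInstance φ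
  let quo : MulAut ↥K →* MulAut (↥K ⧸ center ↥K) :=
    { toFun := fun φ => QuotientGroup.congr (center ↥K) (center ↥K) φ (hcz φ)
      map_one' := by
        ext x
        induction x using QuotientGroup.induction_on with
        | H c => rfl
      map_mul' := fun φ ψ => by
        ext x
        induction x using QuotientGroup.induction_on with
        | H c => rfl }
  have hquo : ∀ (φ : MulAut ↥K) (k : ↥K), quo φ (k : ↥K ⧸ center ↥K) = (φ k : ↥K) := fun _ _ => rfl
  -- the image is perfect, hence inner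
  have htop : ⁅(⊤ : Subgroup ↥P), (⊤ : Subgroup ↥P)⁆ = ⊤ := by
    apply Subgroup.map_injective P.subtype_injective
    rw [Subgroup.map_commutator, ← MonoidHom.range_eq_map, P.range_subtype]
    exact hPp
  have himg := hS _ (Cfsg.Agent.Schreier.Basic.map_perfect (quo.comp act) htop)
  have hperf : commutator ↥K = ⊤ := by
    apply Subgroup.map_injective K.subtype_injective
    rw [commutator_def, Subgroup.map_commutator, ← MonoidHom.range_eq_map, K.range_subtype]
    exact c.perf
  -- `P ≤ K C(K)`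
  have hmul : ∀ p ∈ P, ∃ k ∈ K, k⁻¹ * p ∈ centralizer (K : Set G) := by
    intro p hp
    obtain ⟨y, hy⟩ := himg ⟨(⟨p, hp⟩ : ↥P), mem_top _, rfl⟩
    obtain ⟨k, rfl⟩ := QuotientGroup.mk_surjective y
    have h2 : ∀ x : ↥K, (k * x * k⁻¹)⁻¹ * act ⟨p, hp⟩ x ∈ center ↥K := by
      intro x
      have h3 := DFunLike.congr_fun hy (QuotientGroup.mk x)
      rw [MulAut.conj_apply] at h3
      rw [← QuotientGroup.eq]
      exact h3
    let δ : ↥K →* center ↥K :=
      { toFun := fun x => ⟨(k * x * k⁻¹)⁻¹ * act ⟨p, hp⟩ x, h2 x⟩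
        map_one' := by
          apply Subtype.ext
          simp
        map_mul' := fun x y => by
          apply Subtype.ext
          show (k * (x * y) * k⁻¹)⁻¹ * act ⟨p, hp⟩ (x * y) =
            (k * x * k⁻¹)⁻¹ * act ⟨p, hp⟩ x * ((k * y * k⁻¹)⁻¹ * act ⟨p, hp⟩ y)
          have h3 := mem_center_iff.1 (h2 x) (k * y * k⁻¹)⁻¹
          calc (k * (x * y) * k⁻¹)⁻¹ * act ⟨p, hp⟩ (x * y)
              = (k * y * k⁻¹)⁻¹ * ((k * x * k⁻¹)⁻¹ * act ⟨p, hp⟩ x) * act ⟨p, hp⟩ y := by
                rw [map_mul]; group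
            _ = _ := by rw [h3]; group }
    have h4 : ∀ x, δ x = 1 := by
      intro x
      have h5 : commutator ↥K ≤ δ.ker := by
        rw [commutator_def, commutator_le]
        intro a _ b _
        rw [MonoidHom.mem_ker, map_commutatorElement]
        exact commutatorElement_eq_one_iff_mul_comm.2 (Subtype.ext (mem_center_iff.1 (δ b).2 (δ a)))
      rw [hperf] at h5
      exact h5 (mem_top x)
    refine ⟨k, k.2, ?_⟩
    rw [mem_centralizer_iff]
    intro x hx
    have h5 : (k * ⟨x, hx⟩ * k⁻¹)⁻¹ * act ⟨p, hp⟩ ⟨x, hx⟩ = 1 := congrArg Subtype.val (h4 ⟨x, hx⟩)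
    have h6 : (k : G) * x * (k : G)⁻¹ = p * x * p⁻¹ := by
      rw [inv_mul_eq_one] at h5
      exact congrArg Subtype.val h5
    calc x * ((k : G)⁻¹ * p) = (k : G)⁻¹ * (k * x * (k : G)⁻¹) * p := by group
      _ = (k : G)⁻¹ * (p * x * p⁻¹) * p := by rw [h6]
      _ = (k : G)⁻¹ * p * x := by group
  -- commutators
  rw [← hPp, commutator_le]
  intro a ha b hb
  obtain ⟨k, hk, hkr⟩ := hmul a ha
  obtain ⟨l, hl, hlr⟩ := hmul b hb
  have hrs : (k⁻¹ * a) * (l⁻¹ * b) = (l⁻¹ * b) * (k⁻¹ * a) := by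
    have := c.Rcyc
    have h1 : (⟨k⁻¹ * a, hkr⟩ : ↥(centralizer (K : Set G))) * ⟨l⁻¹ * b, hlr⟩ =
        ⟨l⁻¹ * b, hlr⟩ * ⟨k⁻¹ * a, hkr⟩ :=
      (IsCyclic.isMulCommutative (α := ↥(centralizer (K : Set G)))).is_comm.comm _ _
    exact congrArg Subtype.val h1
  have e1 : ⁅a, b⁆ = ⁅k, l⁆ := by
    set r := k⁻¹ * a with hr
    set s := l⁻¹ * b with hs
    have ea : a = k * r := by rw [hr]; group
    have eb : b = l * s := by rw [hs]; group
    have c1 : r * l = l * r := (mem_centralizer_iff.1 hkr l hl).symm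
    have c2 : s * k = k * s := (mem_centralizer_iff.1 hlr k hk).symm
    have c2' : s * k⁻¹ = k⁻¹ * s := by
      have := mem_centralizer_iff.1 hlr k⁻¹ (K.inv_mem hk)
      exact this.symm
    rw [ea, eb, commutatorElement_def, commutatorElement_def]
    calc k * r * (l * s) * (k * r)⁻¹ * (l * s)⁻¹ = k * (r * l) * s * r⁻¹ * k⁻¹ * s⁻¹ * l⁻¹ := by group
      _ = k * l * (r * s) * r⁻¹ * k⁻¹ * s⁻¹ * l⁻¹ := by rw [c1]; group
      _ = k * l * (s * k⁻¹) * s⁻¹ * l⁻¹ := by rw [hrs]; group
      _ = k * l * k⁻¹ * l⁻¹ := by rw [c2']; group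
  rw [e1, ← c.perf]
  exact commutator_mem_commutator hk hl

end A

/-- **The frame of `D9/Kill.lean`** from the node. -/
theorem fr_of_std {G : Type u} [Group G] (hG : Ctx G) {K : Subgroup G} (hK : Std0 G K) (hc : Cyc K)
    (hZ : center ↥K ≠ ⊥) (hS : Cfsg.Agent.Schreier.Basic.Sch (↥K ⧸ center ↥K)) :
    ∃ z : G, Conf G K z ∧ Kill.Fr K z := by
  obtain ⟨z, c⟩ := of_std hG hK hc hZ
  have hn : ∀ h : G, h * z = z * h → h ∈ normalizer (K : Set G) := by
    intro h hh
    rw [← c.H, mem_centralizer_singleton_iff]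
    exact hh
  refine ⟨z, c, ⟨c.zz, c.z1, c.zK, ?_, ?_, ?_, ?_, ?_⟩⟩
  · intro k hk
    exact mem_centralizer_iff.1 c.zR k hk
  · intro h hh k hk
    exact (mem_normalizer_iff.1 (hn h hh) k).1 hk
  · intro P hP hPp
    refine c.perfect_le hS ?_ hPp
    intro x hx
    exact hn x (hP hx)
  · intro e _ he2 hek
    refine c.uniq e ?_ he2
    rw [mem_centralizer_iff]
    intro k hk
    exact (hek k hk).symm
  · obtain ⟨e, he⟩ := c.exists_adj
    obtain ⟨g, hg⟩ := isConj_iff.1 he.conj
    exact ⟨g, by rw [hg]; exact he.ne, by rw [hg]; exact he.comm⟩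

end Cfsg.Agent.OddHalf.D9.Basic
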