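import Cfsg.Agent.OddHalf.D9.Kill

/-!
# D9: fact (II) of the kill from facts on the simple quotient; transfer of the facts along isomorphisms

`outer_of`: `π : K → S` surjective with kernel `Z(K) = {1, z}`, `K` perfect, `w ∈ S` such that the preimages of `w` have
square `z`. If every outer involutory automorphism of `S` fixes the elements of a perfect subgroup containing a
conjugate of `w`, and `z ∈ Pr (C_K(v))` for all `v` with `v ^ 2 = z`, then `Outer z`.
-/

set_option autoImplicit false

namespace Cfsg.Agent.OddHalf.D9.OuterOf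

open Subgroup Cfsg.Agent.OddHalf.D9.Kill
open scoped commutatorElement

universe u v

/-! ### Central extensions -/

section Ext

variable {K : Type u} {S : Type v} [Group K] [Group S]

theorem comm_central {a b c d : K} (hc : ∀ y, c * y = y * c) (hd : ∀ y, d * y = y * d) :
    ⁅a * c, b * d⁆ = ⁅a, b⁆ := by
  have h1 : a * c * (b * d) = a * b * (c * d) := by
    calc a * c * (b * d) = a * (c * b) * d := by group
      _ = a * (b * c) * d := by rw [hc b]
      _ = a * b * (c * d) := by group
  have h2 : b * d * (a * c) = b * a * (c * d) := by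
    calc b * d * (a * c) = b * (d * a) * c := by group
      _ = b * (a * d) * c := by rw [hd a]
      _ = b * a * (d * c) := by group
      _ = _ := by rw [hd c]
  calc ⁅a * c, b * d⁆ = a * c * (b * d) * (b * d * (a * c))⁻¹ := by rw [commutatorElement_def]; group
    _ = a * b * (c * d) * (b * a * (c * d))⁻¹ := by rw [h1, h2]
    _ = ⁅a, b⁆ := by rw [commutatorElement_def]; group

/-- The derived subgroup of the preimage of a perfect subgroup under a central extension is perfect, with image the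
subgroup. -/
theorem exists_perfect_lift (π : K →* S) (hπ : Function.Surjective π) (hc : ∀ k, π k = 1 → ∀ y, k * y = y * k)
    {X : Subgroup S} (hX : ⁅X, X⁆ = X) : ∃ D : Subgroup K, ⁅D, D⁆ = D ∧ D.map π = X := by
  have hN : (X.comap π).map π = X := map_comap_eq_self_of_surjective hπ X
  have h1 : (⁅X.comap π, X.comap π⁆).map π = X := by rw [map_commutator, hN, hX]
  refine ⟨⁅X.comap π, X.comap π⁆, ?_, h1⟩
  apply le_antisymm (commutator_le_self _)
  have key : ∀ a ∈ X.comap π, ∃ c, (∀ y, c * y = y * c) ∧ a * c ∈ ⁅X.comap π, X.comap π⁆ := by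
    intro a ha
    have h2 : π a ∈ (⁅X.comap π, X.comap π⁆).map π := by rw [h1]; exact ha
    obtain ⟨d, hd, hda⟩ := h2
    refine ⟨a⁻¹ * d, hc _ ?_, ?_⟩
    · rw [map_mul, map_inv, hda, inv_mul_cancel]
    · rwa [mul_inv_cancel_left]
  rw [commutator_le]
  intro a ha b hb
  obtain ⟨c, hcc, hac⟩ := key a ha
  obtain ⟨d, hdc, hbd⟩ := key b hb
  rw [← comm_central hcc hdc]
  exact commutator_mem_commutator hac hbd

/-- Two homomorphisms from a perfect group which agree modulo central elements are equal. -/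
theorem eq_of_central {D : Subgroup K} (hD : ⁅D, D⁆ = D) (f g : K →* K)
    (h : ∀ x ∈ D, ∀ y, (g x)⁻¹ * f x * y = y * ((g x)⁻¹ * f x)) : ∀ x ∈ D, f x = g x := by
  have h1 : D ≤ f.eqLocus g := by
    conv_lhs => rw [← hD]
    rw [commutator_le]
    intro a ha b hb
    change f ⁅a, b⁆ = g ⁅a, b⁆
    rw [map_commutatorElement, map_commutatorElement]
    have h2 := comm_central (a := g a) (b := g b) (h a ha) (h b hb)
    rwa [mul_inv_cancel_left, mul_inv_cancel_left] at h2
  exact fun x hx => h1 hx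

end Ext

/-! ### Fact (II) -/

section Outer

variable {K : Type u} {S : Type v} [Group K] [Group S]

/-- the automorphism of the quotient -/
theorem exists_quo (π : K →* S) (hπ : Function.Surjective π) {α : MulAut K} (hα : ∀ k, π k = 1 ↔ π (α k) = 1) :
    ∃ β : MulAut S, ∀ k, β (π k) = π (α k) := by
  have h1 : ∀ a b, π a = π b ↔ π (α a) = π (α b) := by
    intro a b
    rw [← inv_mul_eq_one, ← map_inv, ← map_mul, hα, map_mul, map_inv, map_mul, map_inv, inv_mul_eq_one]
  let s := Function.surjInv hπ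
  have hs : ∀ x, π (s x) = x := Function.surjInv_eq hπ
  have h2 : ∀ k, π (α (s (π k))) = π (α k) := fun k => (h1 _ _).1 (hs _)
  let f : S →* S :=
    { toFun := fun x => π (α (s x))
      map_one' := by
        have := h2 1
        rw [map_one, map_one, map_one] at this
        exact this
      map_mul' := fun x y => by
        have := h2 (s x * s y)
        rw [map_mul π, hs, hs, map_mul α, map_mul π] at this
        exact this }
  have hf : ∀ k, f (π k) = π (α k) := h2
  have hb : Function.Bijective f := by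
    constructor
    · intro x y hxy
      obtain ⟨a, rfl⟩ := hπ x
      obtain ⟨b, rfl⟩ := hπ y
      rw [hf, hf] at hxy
      exact (h1 _ _).2 hxy
    · intro y
      obtain ⟨b, rfl⟩ := hπ y
      refine ⟨π (α.symm b), ?_⟩
      rw [hf, MulEquiv.apply_symm_apply]
  exact ⟨MulEquiv.ofBijective f hb, hf⟩

/-- **Fact (II)** from the simple quotient. -/
theorem outer_of {z : K} (zz : z * z = 1) (z1 : z ≠ 1) (zc : ∀ y, z * y = y * z)
    (cen : ∀ x : K, (∀ y, x * y = y * x) → x = 1 ∨ x = z) (perf : commutator K = ⊤)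
    (π : K →* S) (hπ : Function.Surjective π) (hker : ∀ k, π k = 1 ↔ k = 1 ∨ k = z)
    {w : S} (hw : ∀ k, π k = w → k * k = z)
    (out : ∀ β : MulAut S, β * β = 1 → (∀ s, β ≠ MulAut.conj s) →
      ∃ X : Subgroup S, ⁅X, X⁆ = X ∧ (∀ x ∈ X, β x = x) ∧ ∃ g, g * w * g⁻¹ ∈ X)
    (inn : ∀ v : K, v * v = z → z ∈ Pr (Ce v)) : Outer z := by
  have hperf : ⁅(⊤ : Subgroup K), ⊤⁆ = ⊤ := perf
  have hkc : ∀ k, π k = 1 → ∀ y, k * y = y * k := by
    intro k hk y
    rcases (hker k).1 hk with rfl | rfl
    · rw [one_mul, mul_one]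
    · exact zc y
  intro α hα2 _ hαf
  left
  have hαα : ∀ k, α (α k) = k := fun k => DFunLike.congr_fun hα2 k
  have hαz : α z = z := by
    rcases cen (α z) (fun y => by
      have := congrArg α (zc (α.symm y))
      rwa [map_mul, map_mul, MulEquiv.apply_symm_apply] at this) with h | h
    · exact absurd ((map_eq_one_iff α α.injective).1 h) z1
    · exact h
  by_cases hin : ∃ v, α = MulAut.conj v
  · obtain ⟨v, rfl⟩ := hin
    rw [Fx_conj]
    apply inn
    rcases cen (v * v) (fun y => by
      have := hαα y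
      rw [MulAut.conj_apply, MulAut.conj_apply] at this
      calc v * v * y = v * (v * y * v⁻¹) * v⁻¹ * (v * v) := by group
        _ = y * (v * v) := by rw [this]) with h | h
    · exact absurd rfl (hαf v h)
    · exact h
  · push Not at hin
    obtain ⟨β, hβ⟩ := exists_quo π hπ (α := α) (fun k => by
      rw [hker, hker]
      constructor
      · rintro (rfl | rfl)
        · exact Or.inl (map_one α)
        · exact Or.inr hαz
      · rintro (h | h)
        · exact Or.inl ((map_eq_one_iff α α.injective).1 h)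
        · exact Or.inr (α.injective (h.trans hαz.symm)))
    obtain ⟨X, hX, hβX, g, hg⟩ := out β (by
      ext x
      obtain ⟨k, rfl⟩ := hπ x
      change β (β (π k)) = π k
      rw [hβ, hβ, hαα]) (by
      rintro s rfl
      obtain ⟨k, rfl⟩ := hπ s
      apply hin k
      have h1 := eq_of_central hperf α.toMonoidHom (MulAut.conj k).toMonoidHom (fun x _ => by
        apply hkc
        rw [map_mul, map_inv, inv_mul_eq_one]
        change π (k * x * k⁻¹) = π (α x)
        rw [← hβ x, MulAut.conj_apply, map_mul, map_mul, map_inv])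
      ext x
      exact h1 x (mem_top x))
    obtain ⟨D, hD, hDX⟩ := exists_perfect_lift π hπ hkc hX
    -- `α` fixes the elements of `D`
    have h1 := eq_of_central hD α.toMonoidHom (MonoidHom.id K) (fun x hx => by
      apply hkc
      rw [map_mul, map_inv, inv_mul_eq_one]
      change π x = π (α x)
      rw [← hβ, hβX _ (by rw [← hDX]; exact ⟨x, hx, rfl⟩)])
    have h2 : D ≤ Pr (Fx α) := le_Pr (fun x hx => h1 x hx) hD
    apply h2
    rw [← hDX] at hg
    obtain ⟨d, hd, hdg⟩ := hg
    obtain ⟨k, rfl⟩ := hπ g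
    have h3 : (k⁻¹ * d * k) * (k⁻¹ * d * k) = z := by
      apply hw
      rw [map_mul, map_mul, map_inv, hdg]
      group
    have h4 : d * d = z := by
      calc d * d = k * ((k⁻¹ * d * k) * (k⁻¹ * d * k)) * k⁻¹ := by group
        _ = z := by rw [h3, ← zc]; group
    rw [← h4]
    exact D.mul_mem hd hd

end Outer

/-! ### Transfer -/

section Transfer

variable {K : Type u} {L : Type v} [Group K] [Group L]

theorem map_Ce (e : K ≃* L) (f : K) : (Ce f).map e.toMonoidHom = Ce (e f) := by
  ext x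
  constructor
  · rintro ⟨y, hy, rfl⟩
    change e y * e f = e f * e y
    rw [← map_mul, ← map_mul]
    exact congrArg e hy
  · intro hx
    refine ⟨e.symm x, ?_, MulEquiv.apply_symm_apply e x⟩
    change e.symm x * f = f * e.symm x
    apply e.injective
    rw [map_mul, map_mul, MulEquiv.apply_symm_apply]
    exact hx

theorem map_Pr_Ce (e : K ≃* L) (f : K) : (Pr (Ce f)).map e.toMonoidHom = Pr (Ce (e f)) := by
  rw [map_Pr (f := e.toMonoidHom) e.injective, map_Ce]

theorem mem_Pr_Ce (e : K ≃* L) {x f : K} : e x ∈ Pr (Ce (e f)) ↔ x ∈ Pr (Ce f) := by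
  rw [← map_Pr_Ce]
  exact mem_map_iff_mem e.injective

/-- conjugation of an automorphism by an isomorphism -/
def tr (e : K ≃* L) (α : MulAut L) : MulAut K := (e.trans α).trans e.symm

theorem tr_apply (e : K ≃* L) (α : MulAut L) (k : K) : e (tr e α k) = α (e k) :=
  MulEquiv.apply_symm_apply e _

theorem map_Fx (e : K ≃* L) (α : MulAut L) : (Fx (tr e α)).map e.toMonoidHom = Fx α := by
  ext x
  constructor
  · rintro ⟨y, hy, rfl⟩
    change α (e y) = e y
    rw [← tr_apply]
    exact congrArg e hy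
  · intro hx
    refine ⟨e.symm x, ?_, MulEquiv.apply_symm_apply e x⟩
    change tr e α (e.symm x) = e.symm x
    apply e.injective
    rw [tr_apply, MulEquiv.apply_symm_apply]
    exact hx

theorem map_Pr_Fx (e : K ≃* L) (α : MulAut L) : (Pr (Fx (tr e α))).map e.toMonoidHom = Pr (Fx α) := by
  rw [map_Pr (f := e.toMonoidHom) e.injective, map_Fx]

/-- (II) is invariant under isomorphisms -/
theorem outer_map (e : K ≃* L) {z : K} (h : Outer z) : Outer (e z) := by
  intro α h1 h2 h3
  have key := h (tr e α) (by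
      ext k
      apply e.injective
      change e (tr e α (tr e α k)) = e k
      rw [tr_apply, tr_apply]
      exact DFunLike.congr_fun h1 (e k)) (by
      intro h4
      apply h2
      ext x
      have h5 := tr_apply e α (e.symm x)
      rw [h4, MulEquiv.apply_symm_apply] at h5
      change e (e.symm x) = α x at h5
      rw [MulEquiv.apply_symm_apply] at h5
      exact h5.symm) (by
      intro f hf h4
      apply h3 (e f) (by rw [← map_mul, hf, map_one])
      ext x
      have h5 := tr_apply e α (e.symm x)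
      rw [h4, MulEquiv.apply_symm_apply, MulAut.conj_apply, map_mul, map_mul, map_inv,
        MulEquiv.apply_symm_apply] at h5
      exact h5.symm)
  rcases key with h4 | ⟨x, hx, hx1, q, hq⟩
  · left
    rw [← map_Pr_Fx e]
    exact ⟨z, h4, rfl⟩
  · right
    refine ⟨e x, ?_, fun h => hx1 ((map_eq_one_iff e e.injective).1 h), e q, ?_⟩
    · rw [← map_Pr_Fx e]
      exact ⟨x, hx, rfl⟩
    · rw [← tr_apply, hq, map_mul]

/-- transfer of `Bad` -/
theorem bad_of_map (e : K ≃* L) {z f f' : K} (h : Bad (e z) (e f) (e f')) : Bad z f f' := by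
  obtain ⟨h1, h2, h3, h4, φ, h5, h6⟩ := h
  have g1 := (mem_Pr_Ce e).1 h1
  have g2 := (mem_Pr_Ce e).1 h2
  have g3 := (mem_Pr_Ce e).1 h3
  have g4 := (mem_Pr_Ce e).1 h4
  let ψ : ∀ f : K, ↥(Pr (Ce f)) ≃* ↥(Pr (Ce (e f))) := fun f =>
    (equivMapOfInjective (Pr (Ce f)) e.toMonoidHom e.injective).trans (MulEquiv.subgroupCongr (map_Pr_Ce e f))
  have hψ : ∀ (f : K) (x : ↥(Pr (Ce f))), ((ψ f x : ↥(Pr (Ce (e f)))) : L) = e x := fun f x => rfl
  refine ⟨g1, g2, g3, g4, ((ψ f).trans φ).trans (ψ f').symm, ?_, ?_⟩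
  · change (ψ f').symm (φ (ψ f ⟨f, g1⟩)) = ⟨z, g4⟩
    rw [MulEquiv.symm_apply_eq]
    have e1 : ψ f ⟨f, g1⟩ = ⟨e f, h1⟩ := Subtype.ext (hψ f _)
    rw [e1, h5]
    exact Subtype.ext (hψ f' ⟨z, g4⟩).symm
  · change (ψ f').symm (φ (ψ f ⟨z, g2⟩)) = ⟨f', g3⟩
    rw [MulEquiv.symm_apply_eq]
    have e1 : ψ f ⟨z, g2⟩ = ⟨e z, h2⟩ := Subtype.ext (hψ f _)
    rw [e1, h6]
    exact Subtype.ext (hψ f' ⟨f', g3⟩).symm

/-- (I') is invariant under isomorphisms -/
theorem pf_map (e : K ≃* L) {z : K} {C : Set K} (h : PF z C) : PF (e z) (e '' C) := by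
  refine ⟨?_, ?_, ?_, ?_, ?_⟩
  · intro f' h1 h2 h3
    obtain ⟨f, rfl⟩ := e.surjective f'
    rw [mem_Pr_Ce]
    refine h.res f ?_ (fun h => h2 (by rw [h, map_one])) (fun h => h3 (by rw [h]))
    apply e.injective
    rw [map_mul, h1, map_one]
  · intro f₁ f₂ h1 h2 h3 h4 h5 h6 hb
    obtain ⟨f, rfl⟩ := e.surjective f₁
    obtain ⟨f', rfl⟩ := e.surjective f₂
    refine ⟨f, ?_, rfl⟩
    refine h.bad f f' ?_ (fun h => h2 (by rw [h, map_one])) (fun h => h3 (by rw [h])) ?_
      (fun h => h5 (by rw [h, map_one])) (fun h => h6 (by rw [h])) (bad_of_map e hb)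
    · apply e.injective
      rw [map_mul, h1, map_one]
    · apply e.injective
      rw [map_mul, h4, map_one]
  · rintro _ ⟨f, hf, rfl⟩ ⟨f', hf', h1⟩
    rw [← map_mul] at h1
    rw [e.injective h1] at hf'
    exact h.dis f hf hf'
  · rintro _ ⟨f, hf, rfl⟩ _ ⟨f', hf', rfl⟩
    obtain ⟨k, hk⟩ := h.conj f hf f' hf'
    exact ⟨e k, by rw [← hk, map_mul, map_mul, map_inv]⟩
  · obtain ⟨x, hx, y, hy, hyx, hxy⟩ := h.triple
    exact ⟨e x, ⟨x, hx, rfl⟩, e y, ⟨y, hy, rfl⟩, (mem_Pr_Ce e).2 hyx, ⟨x * y, hxy, map_mul e x y⟩⟩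

/-- (I) is invariant under isomorphisms -/
theorem noBad_map (e : K ≃* L) {z : K} (h : NoBad z) : NoBad (e z) := by
  refine ⟨?_, ?_⟩
  · intro f' h1 h2 h3
    obtain ⟨f, rfl⟩ := e.surjective f'
    rw [mem_Pr_Ce]
    refine h.res f ?_ (fun h => h2 (by rw [h, map_one])) (fun h => h3 (by rw [h]))
    apply e.injective
    rw [map_mul, h1, map_one]
  · intro f₁ f₂ h1 h2 h3 h4 h5 h6 hb
    obtain ⟨f, rfl⟩ := e.surjective f₁
    obtain ⟨f', rfl⟩ := e.surjective f₂
    refine h.bad f f' ?_ (fun h => h2 (by rw [h, map_one])) (fun h => h3 (by rw [h])) ?_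
      (fun h => h5 (by rw [h, map_one])) (fun h => h6 (by rw [h])) (bad_of_map e hb)
    · apply e.injective
      rw [map_mul, h1, map_one]
    · apply e.injective
      rw [map_mul, h4, map_one]

end Transfer

end Cfsg.Agent.OddHalf.D9.OuterOf
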