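import Cfsg.Agent.OddHalf.D9.GamE6
import Cfsg.Agent.TwoESix.KeyExtra
import Cfsg.Agent.TwoESix.KeyQuad
import Cfsg.Agent.TwoESix.ExtTwisted
import Cfsg.Agent.TwoESix.LeviG

/-!
# `¬ Tied (twistedE6 K 2)`, `|K| = 4` (helper919)
-/

set_option autoImplicit false

namespace Cfsg.Agent.OddHalf.D9.GamE6Inst

open Cfsg Cfsg.Lie Cfsg.Agent.BabyU Cfsg.Agent.BabyU.RootCfg Cfsg.Agent.BabyU.Key
open Cfsg.Agent.TwoESix

/-- the facts of `Key.Extra` for the root involutions of `²E₆(2)` -/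
theorem extra {K : Type*} [Field K] [Fintype K] (hK : Fintype.card K = 4) {F' : Type*} [Field F']
    [Fintype F'] (hF' : Fintype.card F' = 2 ^ 2) : Extra hF' (rootClass K) where
  opp_trans := fun r hr s hs r' hr' s' hs' h h' =>
    (ExtTwisted.basic K hK).opp_trans r hr s hs r' hr' s' hs' h.1 h.2 h'.1 h'.2
  spe := KeyExtra.spe hK
  odd := KeyExtra.odd hK
  ker := KeyExtra.ker hK
  quad := KeyQuad.quad K hK

theorem not_tied {K : Type*} [Field K] [Fintype K] (hK : Fintype.card K = 4) :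
    ¬ Gamma.Tied (twistedE6 K 2) := by
  have hK' : Fintype.card K = 2 ^ 2 := by rw [hK]; norm_num
  exact GamE6.not_tied (LeviG.rootFacts hK hK') (extra hK hK')

end Cfsg.Agent.OddHalf.D9.GamE6Inst
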