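import Cfsg.Agent.OddHalf.D9.Gamma
import Cfsg.Agent.StdO8.Gen
import Cfsg.Agent.ClassicalGeometry.OrthAutRoot

/-!
# `¬ Tied (Ω₈⁺(2))` (helper919)

`Fr`: two orthogonal hyperbolic pairs; `dl`: the element of order three of one of the factors of
`Ω₄⁺(2) = S₃ × S₃` on their span. A tied pair, one of whose members commutes with `dl`, is trivial on the span
(`T3.fix`). So the members are products of two reflections (`normal`), and equal (`not_tied`).
-/

set_option autoImplicit false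
set_option linter.unusedSimpArgs false

namespace Cfsg.Agent.OddHalf.D9.GamO8

open QuadraticMap Cfsg.Agent.LieClassical.OrthCore Cfsg.Agent.LieClassical.OrthTrans
  Cfsg.Agent.LieClassical.OrthFinite Cfsg.Agent.StdO8.Model
open Gamma

/-! ### frames -/

/-- two orthogonal hyperbolic pairs -/
structure Fr (e1 e2 f1 f2 : V) : Prop where
  q1 : q e1 = 0
  q2 : q e2 = 0
  p1 : q f1 = 0
  p2 : q f2 = 0
  a11 : B e1 f1 = 1
  a22 : B e2 f2 = 1
  e : B e1 e2 = 0
  f : B f1 f2 = 0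
  a12 : B e1 f2 = 0
  a21 : B e2 f1 = 0

/-- the element of order three -/
noncomputable def dl (e1 e2 f1 f2 : V) : V ≃ₗ[ZMod 2] V := X e1 f2 * X e2 f1

/-- another element of order three -/
noncomputable def dm (e1 e2 f1 f2 : V) : V ≃ₗ[ZMod 2] V := X e1 e2 * X f1 f2

theorem cube {G : Type*} [Group G] {c d : G} (hc : c * c = 1) (hd : d * d = 1)
    (h : c * d * c = d * c * d) : (c * d) ^ 3 = 1 := by
  calc (c * d) ^ 3 = (c * d * c) * (d * c * d) := by rw [pow_succ, pow_two]; group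
    _ = d * c * (d * d) * c * d := by rw [h]; group
    _ = d * (c * c) * d := by rw [hd]; group
    _ = 1 := by rw [hc, mul_one, hd]

/-- combinations -/
def L (e1 e2 f1 f2 : V) (a b c d : ZMod 2) : V := a • e1 + b • e2 + c • f1 + d • f2

section Frame

variable {e1 e2 f1 f2 : V}

theorem dl_mem (e1 e2 f1 f2 : V) : dl e1 e2 f1 f2 ∈ Om := mul_mem (X_mem _ _) (X_mem _ _)
theorem dm_mem (e1 e2 f1 f2 : V) : dm e1 e2 f1 f2 ∈ Om := mul_mem (X_mem _ _) (X_mem _ _)

theorem Fr.a11' (h : Fr e1 e2 f1 f2) : B f1 e1 = 1 := by rw [B_comm]; exact h.a11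
theorem Fr.a22' (h : Fr e1 e2 f1 f2) : B f2 e2 = 1 := by rw [B_comm]; exact h.a22
theorem Fr.e' (h : Fr e1 e2 f1 f2) : B e2 e1 = 0 := by rw [B_comm]; exact h.e
theorem Fr.f' (h : Fr e1 e2 f1 f2) : B f2 f1 = 0 := by rw [B_comm]; exact h.f
theorem Fr.a12' (h : Fr e1 e2 f1 f2) : B f2 e1 = 0 := by rw [B_comm]; exact h.a12
theorem Fr.a21' (h : Fr e1 e2 f1 f2) : B f1 e2 = 0 := by rw [B_comm]; exact h.a21

theorem X_self_conj {g : V ≃ₗ[ZMod 2] V} (hg : g ∈ O8) (hgg : g * g = 1) (u w : V) :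
    g * X u w * g = X (g u) (g w) := by
  have h := X_conj hg u w
  rwa [inv_eq_of_mul_eq_one_left hgg] at h

theorem Fr.X1 (h : Fr e1 e2 f1 f2) (v : V) : X e1 f2 v = v + B e1 v • f2 + B f2 v • e1 :=
  X_apply h.q1 h.p2 h.a12 v

theorem Fr.X2 (h : Fr e1 e2 f1 f2) (v : V) : X e2 f1 v = v + B e2 v • f1 + B f1 v • e2 :=
  X_apply h.q2 h.p1 h.a21 v

theorem Fr.Y1 (h : Fr e1 e2 f1 f2) (v : V) : X e1 e2 v = v + B e1 v • e2 + B e2 v • e1 :=
  X_apply h.q1 h.q2 h.e v

theorem Fr.Y2 (h : Fr e1 e2 f1 f2) (v : V) : X f1 f2 v = v + B f1 v • f2 + B f2 v • f1 :=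
  X_apply h.p1 h.p2 h.f v

theorem Fr.dl_cube (h : Fr e1 e2 f1 f2) : (dl e1 e2 f1 f2) ^ 3 = 1 := by
  apply cube (X_mul_self _ _) (X_mul_self _ _)
  rw [X_self_conj (X_mem_O8 _ _) (X_mul_self _ _), X_self_conj (X_mem_O8 _ _) (X_mul_self _ _),
    h.X1, h.X1, h.X2, h.X2, h.e, h.a22', h.a11, h.f', h.e', h.a11', h.a22, h.f]
  simp only [zero_smul, one_smul, add_zero]
  rw [add_comm e2 e1, add_comm f2 f1]

theorem Fr.dm_cube (h : Fr e1 e2 f1 f2) : (dm e1 e2 f1 f2) ^ 3 = 1 := by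
  apply cube (X_mul_self _ _) (X_mul_self _ _)
  rw [X_self_conj (X_mem_O8 _ _) (X_mul_self _ _), X_self_conj (X_mem_O8 _ _) (X_mul_self _ _),
    h.Y1, h.Y1, h.Y2, h.Y2, h.a11, h.a21, h.a12, h.a22, h.a11', h.a12', h.a21', h.a22']
  simp only [zero_smul, one_smul, add_zero]
  rw [add_comm f1 e2, add_comm f2 e1]
  apply X_comm
  · rw [q_add, h.q2, h.p1, h.a21]; rfl
  · rw [q_add, h.q1, h.p2, h.a12]; rfl

/-- the action of `dl` -/
theorem Fr.dl_apply (h : Fr e1 e2 f1 f2) (v : V) : dl e1 e2 f1 f2 v =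
    v + L e1 e2 f1 f2 (B f2 v + B f1 v) (B f1 v) (B e2 v) (B e1 v + B e2 v) := by
  show X e1 f2 (X e2 f1 v) = _
  rw [h.X2, h.X1]
  simp only [B_add_right, B_smul_right, h.a11, h.e, h.f', h.a22', L]
  module

theorem L_add (a b c d a' b' c' d' : ZMod 2) : L e1 e2 f1 f2 a b c d + L e1 e2 f1 f2 a' b' c' d' =
    L e1 e2 f1 f2 (a + a') (b + b') (c + c') (d + d') := by
  simp only [L]; module

theorem L_smul (t a b c d : ZMod 2) : t • L e1 e2 f1 f2 a b c d = L e1 e2 f1 f2 (t * a) (t * b) (t * c) (t * d) := by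
  simp only [L]; module

theorem L_e1 : L e1 e2 f1 f2 1 0 0 0 = e1 := by simp [L]
theorem L_e2 : L e1 e2 f1 f2 0 1 0 0 = e2 := by simp [L]
theorem L_f1 : L e1 e2 f1 f2 0 0 1 0 = f1 := by simp [L]
theorem L_f2 : L e1 e2 f1 f2 0 0 0 1 = f2 := by simp [L]

theorem Fr.B_f1 (h : Fr e1 e2 f1 f2) (a b c d : ZMod 2) : B f1 (L e1 e2 f1 f2 a b c d) = a := by
  simp only [L, B_add_right, B_smul_right, h.a11', h.a21', h.f, B_self]; ring
theorem Fr.B_f2 (h : Fr e1 e2 f1 f2) (a b c d : ZMod 2) : B f2 (L e1 e2 f1 f2 a b c d) = b := by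
  simp only [L, B_add_right, B_smul_right, h.a12', h.a22', h.f', B_self]; ring
theorem Fr.B_e1 (h : Fr e1 e2 f1 f2) (a b c d : ZMod 2) : B e1 (L e1 e2 f1 f2 a b c d) = c := by
  simp only [L, B_add_right, B_smul_right, h.a11, h.a12, h.e, B_self]; ring
theorem Fr.B_e2 (h : Fr e1 e2 f1 f2) (a b c d : ZMod 2) : B e2 (L e1 e2 f1 f2 a b c d) = d := by
  simp only [L, B_add_right, B_smul_right, h.a22, h.a21, h.e', B_self]; ring

theorem Fr.inj (h : Fr e1 e2 f1 f2) {a b c d a' b' c' d' : ZMod 2}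
    (e : L e1 e2 f1 f2 a b c d = L e1 e2 f1 f2 a' b' c' d') : a = a' ∧ b = b' ∧ c = c' ∧ d = d' := by
  refine ⟨?_, ?_, ?_, ?_⟩
  · rw [← h.B_f1 a b c d, e, h.B_f1]
  · rw [← h.B_f2 a b c d, e, h.B_f2]
  · rw [← h.B_e1 a b c d, e, h.B_e1]
  · rw [← h.B_e2 a b c d, e, h.B_e2]

theorem Fr.B_L (h : Fr e1 e2 f1 f2) (a b c d a' b' c' d' : ZMod 2) :
    B (L e1 e2 f1 f2 a b c d) (L e1 e2 f1 f2 a' b' c' d') = a * c' + b * d' + c * a' + d * b' := by
  rw [show L e1 e2 f1 f2 a b c d = a • e1 + b • e2 + c • f1 + d • f2 from rfl, B_add_left, B_add_left, B_add_left, B_smul_left, B_smul_left, B_smul_left, B_smul_left,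
    h.B_e1, h.B_e2, h.B_f1, h.B_f2]

theorem Fr.q_L (h : Fr e1 e2 f1 f2) (a b c d : ZMod 2) : q (L e1 e2 f1 f2 a b c d) = a * c + b * d := by
  rw [L, q_add, q_add, q_add, QuadraticMap.map_smul, QuadraticMap.map_smul, QuadraticMap.map_smul,
    QuadraticMap.map_smul, h.q1, h.q2, h.p1, h.p2]
  simp only [B_add_left, B_smul_left, B_smul_right, h.a11, h.a12, h.a21, h.a22, h.e, h.f, smul_eq_mul]
  ring

theorem Fr.dl_L (h : Fr e1 e2 f1 f2) (a b c d : ZMod 2) :
    dl e1 e2 f1 f2 (L e1 e2 f1 f2 a b c d) = L e1 e2 f1 f2 b (a + b) (c + d) c := by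
  rw [h.dl_apply, h.B_f1, h.B_f2, h.B_e1, h.B_e2, L_add]
  have h1 : a + (b + a) = b := by revert a b; decide
  have h2 : b + a = a + b := add_comm _ _
  have h3 : d + (c + d) = c := by revert c d; decide
  rw [h1, h2, h3]

set_option synthInstance.maxHeartbeats 1000000 in
set_option synthInstance.maxSize 4096 in
/-- the finite computation -/
theorem key : ∀ a b c d a' b' c' d' : ZMod 2, (a * c + b * d = 0 ∧ a' * c' + b' * d' = 0 ∧
    a * c' + b * d' + c * a' + d * b' = 0 ∧ a * (c' + d') + b * c' + c * b' + d * (a' + b') = 1) →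
    (a * a + b * b + c * b' + d * a' = 1 ∧ a * b + b * (a + b) + c * (a' + b') + d * b' = 0 ∧
    a * c + b * (c + d) + c * (c' + d') + d * c' = 0 ∧ a * d + b * c + c * c' + d * d' = 0) →
    (a' * a + b' * b + c' * b' + d' * a' = 0 ∧ a' * b + b' * (a + b) + c' * (a' + b') + d' * b' = 0 ∧
    a' * c + b' * (c + d) + c' * (c' + d') + d' * c' = 0 ∧ a' * d + b' * c + c' * c' + d' * d' = 1) →
    (b = 0 ∧ c = 0 ∧ b' = 0 ∧ c' = 0) ∧ ((a = 1 ∧ d = 0 ∧ a' = 0 ∧ d' = 1) ∨ (a = 1 ∧ d = 0 ∧ a' = 1 ∧ d' = 1) ∨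
      (a = 1 ∧ d = 1 ∧ a' = 0 ∧ d' = 1) ∨ (a = 0 ∧ d = 1 ∧ a' = 1 ∧ d' = 0)) := by
  decide +kernel

theorem Fr.dl_e1 (h : Fr e1 e2 f1 f2) : dl e1 e2 f1 f2 e1 = e2 := by
  have := h.dl_L 1 0 0 0
  simpa only [L_e1, L_e2, add_zero, zero_add] using this

theorem Fr.dl_e2 (h : Fr e1 e2 f1 f2) : dl e1 e2 f1 f2 e2 = e1 + e2 := by
  have := h.dl_L 0 1 0 0
  rw [L_e2] at this
  rw [this]; simp [L]

theorem Fr.dl_f2 (h : Fr e1 e2 f1 f2) : dl e1 e2 f1 f2 f2 = f1 := by
  have := h.dl_L 0 0 0 1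
  rw [L_f2] at this
  rw [this]; simp [L]

theorem Fr.dl_f1 (h : Fr e1 e2 f1 f2) : dl e1 e2 f1 f2 f1 = f1 + f2 := by
  have := h.dl_L 0 0 1 0
  rw [L_f1] at this
  rw [this]; simp [L]

/-- involutions commuting with `dl` -/
theorem Fr.cases (h : Fr e1 e2 f1 f2) {g : V ≃ₗ[ZMod 2] V} (hg : g ∈ O8) (hgg : g * g = 1)
    (hc : dl e1 e2 f1 f2 * g = g * dl e1 e2 f1 f2) :
    (g e1 = e1 ∧ g f2 = f2) ∨ (g e1 = e1 ∧ g f2 = e1 + f2) ∨ (g e1 = e1 + f2 ∧ g f2 = f2) ∨
      (g e1 = f2 ∧ g f2 = e1) := by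
  have comm : ∀ v, dl e1 e2 f1 f2 (g v) = g (dl e1 e2 f1 f2 v) := fun v => LinearEquiv.congr_fun hc v
  have gg : ∀ v, g (g v) = v := fun v => LinearEquiv.congr_fun hgg v
  -- the images
  obtain ⟨a, b, c, d, hx⟩ : ∃ a b c d, g e1 = L e1 e2 f1 f2 a b c d := by
    have h1 : e1 = e2 + dl e1 e2 f1 f2 e2 := by
      rw [h.dl_e2]
      have := add_self e2
      calc e1 = e1 + (e2 + e2) := by rw [this, add_zero]
        _ = e2 + (e1 + e2) := by abel
    have h2 : g e1 = g e2 + dl e1 e2 f1 f2 (g e2) := by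
      rw [comm, ← map_add, ← h1]
    rw [h.dl_apply, ← add_assoc, add_self, zero_add] at h2
    exact ⟨_, _, _, _, h2⟩
  obtain ⟨a', b', c', d', hy⟩ : ∃ a b c d, g f2 = L e1 e2 f1 f2 a b c d := by
    have h1 : f2 = f1 + dl e1 e2 f1 f2 f1 := by
      rw [h.dl_f1, ← add_assoc, add_self, zero_add]
    have h2 : g f2 = g f1 + dl e1 e2 f1 f2 (g f1) := by
      rw [comm, ← map_add, ← h1]
    rw [h.dl_apply, ← add_assoc, add_self, zero_add] at h2
    exact ⟨_, _, _, _, h2⟩
  have hx2 : g e2 = L e1 e2 f1 f2 b (a + b) (c + d) c := by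
    have h1 : g e2 = g (dl e1 e2 f1 f2 e1) := by rw [h.dl_e1]
    rw [h1, ← comm, hx, h.dl_L]
  have hy1 : g f1 = L e1 e2 f1 f2 b' (a' + b') (c' + d') c' := by
    have h1 : g f1 = g (dl e1 e2 f1 f2 f2) := by rw [h.dl_f2]
    rw [h1, ← comm, hy, h.dl_L]
  have gL : ∀ x y z t : ZMod 2, g (L e1 e2 f1 f2 x y z t) =
      L e1 e2 f1 f2 (x * a + y * b + z * b' + t * a') (x * b + y * (a + b) + z * (a' + b') + t * b')
        (x * c + y * (c + d) + z * (c' + d') + t * c') (x * d + y * c + z * c' + t * d') := by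
    intro x y z t
    have : g (L e1 e2 f1 f2 x y z t) = x • g e1 + y • g e2 + z • g f1 + t • g f2 := by
      rw [L, map_add, map_add, map_add, map_smul, map_smul, map_smul, map_smul]
    rw [this, hx, hy, hx2, hy1, L_smul, L_smul, L_smul, L_smul, L_add, L_add, L_add]
  have k1 := gg e1
  rw [hx, gL] at k1
  have k1' := h.inj (k1.trans L_e1.symm)
  have k2 := gg f2
  rw [hy, gL] at k2
  have k2' := h.inj (k2.trans L_f2.symm)
  have k3 : a * c + b * d = 0 := by rw [← h.q_L, ← hx, O8_q hg, h.q1]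
  have k4 : a' * c' + b' * d' = 0 := by rw [← h.q_L, ← hy, O8_q hg, h.p2]
  have k5 : a * c' + b * d' + c * a' + d * b' = 0 := by rw [← h.B_L, ← hx, ← hy, O8_B hg, h.a12]
  have k6 : a * (c' + d') + b * c' + c * b' + d * (a' + b') = 1 := by
    rw [← h.B_L, ← hx, ← hy1, O8_B hg, h.a11]
  obtain ⟨⟨rfl, rfl, rfl, rfl⟩, h2⟩ := key a b c d a' b' c' d' ⟨k3, k4, k5, k6⟩ k1' k2'
  rcases h2 with ⟨rfl, rfl, rfl, rfl⟩ | ⟨rfl, rfl, rfl, rfl⟩ | ⟨rfl, rfl, rfl, rfl⟩ | ⟨rfl, rfl, rfl, rfl⟩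
  · left; exact ⟨by rw [hx, L_e1], by rw [hy, L_f2]⟩
  · right; left; exact ⟨by rw [hx, L_e1], by rw [hy]; simp [L]⟩
  · right; right; left; exact ⟨by rw [hx]; simp [L], by rw [hy, L_f2]⟩
  · right; right; right; exact ⟨by rw [hx, L_f2], by rw [hy, L_e1]⟩

/-- trivial on the frame -/
def Tr (g : V ≃ₗ[ZMod 2] V) (e1 e2 f1 f2 : V) : Prop := g e1 = e1 ∧ g e2 = e2 ∧ g f1 = f1 ∧ g f2 = f2

theorem comm_X {g : V ≃ₗ[ZMod 2] V} (hg : g ∈ O8) {u w : V} (hu : g u = u) (hw : g w = w) :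
    X u w * g = g * X u w := by
  have h := X_conj hg u w
  rw [hu, hw, mul_inv_eq_iff_eq_mul] at h
  exact h.symm

theorem Tr.dl {g : V ≃ₗ[ZMod 2] V} (hg : g ∈ O8) (h : Tr g e1 e2 f1 f2) :
    dl e1 e2 f1 f2 * g = g * dl e1 e2 f1 f2 :=
  (Commute.mul_left (show Commute (X e1 f2) g from comm_X hg h.1 h.2.2.2)
    (show Commute (X e2 f1) g from comm_X hg h.2.1 h.2.2.1)).eq

theorem Tr.dm {g : V ≃ₗ[ZMod 2] V} (hg : g ∈ O8) (h : Tr g e1 e2 f1 f2) :
    dm e1 e2 f1 f2 * g = g * dm e1 e2 f1 f2 :=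
  (Commute.mul_left (show Commute (X e1 e2) g from comm_X hg h.1 h.2.1)
    (show Commute (X f1 f2) g from comm_X hg h.2.2.1 h.2.2.2)).eq

theorem Fr.tr (h : Fr e1 e2 f1 f2) {g : V ≃ₗ[ZMod 2] V}
    (hc : GamO8.dl e1 e2 f1 f2 * g = g * GamO8.dl e1 e2 f1 f2) (h1 : g e1 = e1) (h2 : g f2 = f2) :
    Tr g e1 e2 f1 f2 := by
  have comm : ∀ v, GamO8.dl e1 e2 f1 f2 (g v) = g (GamO8.dl e1 e2 f1 f2 v) := fun v => LinearEquiv.congr_fun hc v
  refine ⟨h1, ?_, ?_, h2⟩
  · have := comm e1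
    rw [h1, h.dl_e1] at this
    exact this.symm
  · have := comm f2
    rw [h2, h.dl_f2] at this
    exact this.symm

theorem Fr.dm_e1 (h : Fr e1 e2 f1 f2) : GamO8.dm e1 e2 f1 f2 e1 = f2 := by
  show X e1 e2 (X f1 f2 e1) = _
  rw [h.Y2, h.Y1]
  simp only [B_add_right, B_smul_right, h.a11, h.e, h.f', h.a22', h.a11', h.a12, h.a22, h.a12', h.e', B_self,
    h.a21, zero_smul, one_smul, mul_zero, mul_one, add_zero, zero_add]
  have := add_self e1
  calc e1 + f2 + e1 = (e1 + e1) + f2 := by abel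
    _ = f2 := by rw [this, zero_add]

theorem Fr.dm_f2 (h : Fr e1 e2 f1 f2) : GamO8.dm e1 e2 f1 f2 f2 = e1 + f2 := by
  show X e1 e2 (X f1 f2 f2) = _
  rw [h.Y2, h.Y1]
  simp only [B_add_right, B_smul_right, h.a11, h.e, h.f', h.a22', h.a11', h.a12, h.a22, h.a12', h.e', B_self,
    h.a21, h.f, zero_smul, one_smul, mul_zero, mul_one, add_zero, zero_add]
  abel

theorem Fr.e1_ne (h : Fr e1 e2 f1 f2) : e1 ≠ 0 := by
  rintro rfl
  have := h.a11
  rw [B_zero_left] at this
  exact zero_ne_one this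

theorem Fr.f2_ne (h : Fr e1 e2 f1 f2) : f2 ≠ 0 := by
  rintro rfl
  have := h.a22
  rw [B_zero_right] at this
  exact zero_ne_one this

theorem Fr.e1_ne_f2 (h : Fr e1 e2 f1 f2) : e1 ≠ f2 := by
  rintro rfl
  have := h.a11
  rw [h.f'] at this
  exact zero_ne_one this

/-- involutions commuting with both elements of order three -/
theorem Fr.tr_of_comm (h : Fr e1 e2 f1 f2) {g : V ≃ₗ[ZMod 2] V} (hg : g ∈ O8) (hgg : g * g = 1)
    (hc : GamO8.dl e1 e2 f1 f2 * g = g * GamO8.dl e1 e2 f1 f2)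
    (hc' : GamO8.dm e1 e2 f1 f2 * g = g * GamO8.dm e1 e2 f1 f2) : Tr g e1 e2 f1 f2 := by
  have comm : ∀ v, GamO8.dm e1 e2 f1 f2 (g v) = g (GamO8.dm e1 e2 f1 f2 v) := fun v => LinearEquiv.congr_fun hc' v
  have k := comm e1
  rw [h.dm_e1] at k
  rcases h.cases hg hgg hc with ⟨h1, h2⟩ | ⟨h1, h2⟩ | ⟨h1, h2⟩ | ⟨h1, h2⟩
  · exact h.tr hc h1 h2
  · exfalso
    rw [h1, h2, h.dm_e1] at k
    exact h.e1_ne (by simpa using k.symm)
  · exfalso
    rw [h1, h2, map_add, h.dm_e1, h.dm_f2] at k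
    apply h.e1_ne_f2
    apply eq_of_add_eq_zero
    exact add_eq_left.1 k
  · exfalso
    rw [h1, h2, h.dm_f2] at k
    exact h.f2_ne (by simpa using k)

end Frame

/-! ### tied pairs -/

/-- a tied pair of `Ω₈⁺(2)` -/
structure T3 (a b : V ≃ₗ[ZMod 2] V) : Prop where
  ma : a ∈ Om
  mb : b ∈ Om
  aa : a * a = 1
  bb : b * b = 1
  a1 : a ≠ 1
  b1 : b ≠ 1
  ne : a ≠ b
  comm : a * b = b * a
  tied : ∀ x ∈ Om, x ^ 3 = 1 → (x * a = a * x ∨ x * b = b * x ∨ x * (a * b) = a * b * x) →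
    x * a = a * x ∧ x * b = b * x

theorem T3.symm {a b : V ≃ₗ[ZMod 2] V} (t : T3 a b) : T3 b a :=
  ⟨t.mb, t.ma, t.bb, t.aa, t.b1, t.a1, t.ne.symm, t.comm.symm, fun x hx h3 h => by
    rw [← t.comm] at h
    have := t.tied x hx h3 (by tauto)
    exact ⟨this.2, this.1⟩⟩

/-- a tied pair is trivial on the frame -/
theorem T3.fix {a b : V ≃ₗ[ZMod 2] V} (t : T3 a b) {e1 e2 f1 f2 : V} (h : Fr e1 e2 f1 f2)
    (hc : dl e1 e2 f1 f2 * a = a * dl e1 e2 f1 f2) : Tr a e1 e2 f1 f2 ∧ Tr b e1 e2 f1 f2 := by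
  have ma := Om_le t.ma
  have mb := Om_le t.mb
  obtain ⟨hca, hcb⟩ := t.tied _ (dl_mem e1 e2 f1 f2) h.dl_cube (Or.inl hc)
  suffices hs : dm e1 e2 f1 f2 * a = a * dm e1 e2 f1 f2 ∨ dm e1 e2 f1 f2 * b = b * dm e1 e2 f1 f2 ∨
      dm e1 e2 f1 f2 * (a * b) = a * b * dm e1 e2 f1 f2 by
    obtain ⟨ha, hb⟩ := t.tied _ (dm_mem e1 e2 f1 f2) h.dm_cube hs
    exact ⟨h.tr_of_comm ma t.aa hca ha, h.tr_of_comm mb t.bb hcb hb⟩
  have hab : ∀ v, a (b v) = b (a v) := fun v => LinearEquiv.congr_fun t.comm v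
  have hcab : dl e1 e2 f1 f2 * (a * b) = a * b * dl e1 e2 f1 f2 :=
    (Commute.mul_right (show Commute (dl e1 e2 f1 f2) a from hca) (show Commute (dl e1 e2 f1 f2) b from hcb)).eq
  rcases h.cases ma t.aa hca with ⟨p1, p2⟩ | p
  · exact Or.inl ((h.tr hca p1 p2).dm ma)
  rcases h.cases mb t.bb hcb with ⟨p1, p2⟩ | p'
  · exact Or.inr (Or.inl ((h.tr hcb p1 p2).dm mb))
  right; right
  have hfix : ∀ w : V, w + w = 0 := add_self
  have e1n := h.e1_ne
  have f2n := h.f2_ne
  have e1f2 := h.e1_ne_f2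
  have k1 := hab e1
  have k2 := hab f2
  suffices hs : a (b e1) = e1 ∧ a (b f2) = f2 from (h.tr (g := a * b) hcab hs.1 hs.2).dm (mul_mem ma mb)
  rcases p with ⟨p1, p2⟩ | ⟨p1, p2⟩ | ⟨p1, p2⟩ <;> rcases p' with ⟨r1, r2⟩ | ⟨r1, r2⟩ | ⟨r1, r2⟩ <;>
    simp only [p1, p2, r1, r2, map_add] at k1 k2 ⊢
  · exact ⟨trivial, by rw [← add_assoc, hfix, zero_add]⟩
  · exact absurd (left_eq_add.1 k2) f2n
  · exact absurd (add_eq_right.1 k1) e1n
  · exact absurd (add_eq_left.1 k2) f2n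
  · exact ⟨by rw [add_assoc, hfix, add_zero], trivial⟩
  · exact absurd (left_eq_add.1 k1) e1n
  · exact absurd (right_eq_add.1 k1) e1n
  · exact absurd (add_eq_left.1 k1) e1n
  · exact ⟨trivial, trivial⟩


/-! ### normal form -/

section Normal

variable {w : V ≃ₗ[ZMod 2] V}

theorem N_add (x y : V) : w (x + y) + (x + y) = (w x + x) + (w y + y) := by
  rw [map_add]; abel

theorem NN (hww : w * w = 1) (x : V) : w (w x + x) + (w x + x) = 0 := by
  have h : w (w x) = x := LinearEquiv.congr_fun hww x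
  rw [map_add, h]
  calc x + w x + (w x + x) = (x + x) + (w x + w x) := by abel
    _ = 0 := by rw [add_self, add_self, add_zero]

theorem BN (hw : w ∈ O8) (hww : w * w = 1) (x y : V) : B (w x + x) y = B x (w y + y) := by
  have h : w (w y) = y := LinearEquiv.congr_fun hww y
  have h1 : B (w x) y = B x (w y) := by
    rw [← O8_B hw x (w y), h]
  rw [B_add_left, B_add_right, h1]

theorem qN (hw : w ∈ O8) (x : V) : q (w x + x) = B x (w x + x) := by
  rw [q_add, O8_q hw, B_add_right, B_self, add_zero, B_comm]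
  have : ∀ a b : ZMod 2, a + a + b = b := by decide
  exact this _ _

theorem qN_add (hw : w ∈ O8) (hww : w * w = 1) (x y : V) :
    q (w (x + y) + (x + y)) = q (w x + x) + q (w y + y) := by
  rw [N_add, q_add, BN hw hww, NN hww, B_zero_right, add_zero]

theorem z2_ne {a : ZMod 2} (h : a ≠ 0) : a = 1 := (z2 a).resolve_left h

/-- an involution of the second type is a product of two reflections -/
theorem normal (hw : w ∈ Om) (hww : w * w = 1) (hw1 : w ≠ 1)
    (H : ∀ x y, q (w x + x) = 0 → q (w y + y) = 0 → B x (w y + y) = 0) :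
    ∃ u u', q u = 1 ∧ q u' = 1 ∧ B u u' = 0 ∧ u ≠ u' ∧ ∀ x, w x = x + (B u x • u + B u' x • u') := by
  have mw := Om_le hw
  have hN0 : ∀ {x : V}, w x + x = 0 → w x = x := fun {x} h => eq_of_add_eq_zero h
  -- a vector with nonsingular image
  obtain ⟨y, hy⟩ : ∃ y, q (w y + y) = 1 := by
    by_contra hcon
    push Not at hcon
    apply hw1
    ext x : 1
    apply hN0
    apply nondeg
    intro z
    rw [B_comm]
    exact H z x ((z2 _).resolve_right (hcon z)) ((z2 _).resolve_right (hcon x))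
  obtain ⟨u, hu⟩ : ∃ u, w y + y = u := ⟨_, rfl⟩
  have qu : q u = 1 := by rw [← hu]; exact hy
  have Buy : B y u = 1 := by rw [← hu, ← qN mw, hy]
  have Nu : w u + u = 0 := by rw [← hu]; exact NN hww y
  -- a vector with nonzero singular image
  obtain ⟨x, hx, hx0⟩ : ∃ x, q (w x + x) = 0 ∧ w x + x ≠ 0 := by
    by_contra hcon
    push Not at hcon
    apply Cfsg.Agent.StdO8.Gen.refl_notMem u (by rw [qu]; exact one_ne_zero)
    have : refl q u (by rw [qu]; exact one_ne_zero) = w := by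
      ext v : 1
      rw [refl_apply, sub_eq, qu, inv_one, one_mul]
      -- `N v = q (N v) u`
      have h1 : w v + v = q (w v + v) • u := by
        rcases z2 (q (w v + v)) with h2 | h2
        · rw [h2, zero_smul]; exact hcon v h2
        · rw [h2, one_smul]
          apply eq_of_add_eq_zero
          rw [← hu, ← N_add]
          apply hcon
          rw [qN_add mw hww, h2, hy]
          decide
      have h2 : B u v = q (w v + v) := by
        rw [B_comm, ← hu, ← BN mw hww, h1, B_smul_left, B_comm, Buy, mul_one]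
        rw [← h1]
      show v + B u v • u = w v
      rw [h2, ← h1, add_comm (w v) v, ← add_assoc, add_self, zero_add]
    rw [this]
    exact hw
  -- the functional `q (N z)`
  have dual : ∀ x, q (w x + x) = 0 → w x + x ≠ 0 → ∀ z, q (w z + z) = B z (w x + x) := by
    intro x hx hx0 z
    obtain ⟨z1, hz1⟩ : ∃ z1, B z1 (w x + x) = 1 := by
      by_contra hcon
      push Not at hcon
      exact hx0 (nondeg fun v => by rw [B_comm]; exact (z2 _).resolve_right (hcon v))
    have f1 : q (w z1 + z1) = 1 := by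
      apply z2_ne
      intro h
      rw [H z1 x h hx] at hz1
      exact zero_ne_one hz1
    rcases z2 (q (w z + z)) with h | h
    · rw [h, H z x h hx]
    · have h2 : q (w (z + z1) + (z + z1)) = 0 := by rw [qN_add mw hww, h, f1]; decide
      have h3 := H _ x h2 hx
      rw [B_add_left, hz1] at h3
      rw [h]
      have : ∀ a : ZMod 2, a + 1 = 0 → 1 = a := by decide
      exact this _ h3
  obtain ⟨s, hs⟩ : ∃ s, w x + x = s := ⟨_, rfl⟩
  have ds := dual x hx hx0
  rw [hs] at ds hx hx0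
  have Ns : w s + s = 0 := by rw [← hs]; exact NN hww x
  have uniq : ∀ z, q (w z + z) = 0 → w z + z = 0 ∨ w z + z = s := by
    intro z hz
    by_cases h0 : w z + z = 0
    · exact Or.inl h0
    · right
      apply eq_of_B
      intro v
      rw [B_comm, ← dual z hz h0, B_comm, ← ds]
  have Bsy : B y s = 1 := by rw [← ds, hy]
  have form : ∀ z, w z + z = B z s • u + (B z u + B z s) • s := by
    intro z
    have e1 : B z u = B (w z + z) y := by rw [BN mw hww, hu]
    have e2 : w z + z = B z s • u + (w (z + B z s • y) + (z + B z s • y)) := by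
      rcases z2 (B z s) with h | h
      · rw [h]; simp
      · rw [h, one_smul, one_smul, N_add, hu]
        have := add_self u
        calc w z + z = (u + u) + (w z + z) := by rw [this, zero_add]
          _ = _ := by abel
    have e3 : q (w (z + B z s • y) + (z + B z s • y)) = 0 := by
      rw [qN_add mw hww, ds]
      rcases z2 (B z s) with h | h
      · rw [h]; simp
      · rw [h, one_smul, hy]; decide
    rcases uniq _ e3 with h | h
    · rw [h, add_zero] at e2
      rw [e1, e2, B_smul_left, B_comm u, Buy, mul_one]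
      have : B z s + B z s = 0 := by
        have : ∀ a : ZMod 2, a + a = 0 := by decide
        exact this _
      rw [this, zero_smul, add_zero]
    · rw [h] at e2
      rw [e1, e2, B_add_left, B_smul_left, B_comm u, Buy, B_comm s, Bsy, mul_one]
      have : B z s + 1 + B z s = 1 := by
        have : ∀ a : ZMod 2, a + 1 + a = 1 := by decide
        exact this _
      rw [this, one_smul]
  have Bus : B u s = 0 := by
    rw [← hu, BN mw hww, Ns, B_zero_right]
  refine ⟨u, u + s, qu, ?_, ?_, ?_, ?_⟩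
  · rw [q_add, qu, hx, Bus]; decide
  · rw [B_add_right, B_self, Bus, add_zero]
  · intro h
    exact hx0 (left_eq_add.1 h)
  · intro z
    have e : w z = z + (w z + z) := by
      rw [add_comm (w z) z, ← add_assoc, add_self, zero_add]
    rw [e, form, B_add_left, B_comm u z, B_comm s z]
    congr 1
    rcases z2 (B z u) with h1 | h1 <;> rcases z2 (B z s) with h2 | h2 <;> rw [h1, h2]
    · simp
    · simp
    · rw [zero_smul, one_smul, add_zero, one_smul, zero_add, one_smul, ← add_assoc, add_self, zero_add]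
    · have h3 : (1 : ZMod 2) + 1 = 0 := by decide
      rw [h3, zero_smul, zero_smul]

end Normal


/-! ### existence of frames -/

section Exists

variable {u u' : V}

theorem span_cases {v : V} (h : v ∈ Submodule.span (ZMod 2) ({u, u'} : Set V)) :
    v = 0 ∨ v = u ∨ v = u' ∨ v = u + u' := by
  obtain ⟨a, b, rfl⟩ := Submodule.mem_span_pair.1 h
  rcases z2 a with h1 | h1 <;> rcases z2 b with h2 | h2 <;> rw [h1, h2] <;> simp

theorem q_uu (hu : q u = 1) (hu' : q u' = 1) (huu : B u u' = 0) : q (u + u') = 0 := by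
  rw [q_add, hu, hu', huu]; decide

theorem ne_of_q {v : V} (hv : q v = 0) (hu : q u = 1) : v ≠ u := by
  rintro rfl
  rw [hv] at hu
  exact zero_ne_one hu

/-- a singular vector orthogonal to `u`, `u'` is in a frame orthogonal to `u`, `u'` -/
theorem exists_frame (hu : q u = 1) (hu' : q u' = 1) (hne : u ≠ u') {v : V} (hv : q v = 0)
    (v0 : v ≠ 0) (vu : v ≠ u + u') (uv : B u v = 0) (uv' : B u' v = 0) :
    ∃ e2 f1 f2, Fr v e2 f1 f2 ∧ (B u e2 = 0 ∧ B u f1 = 0 ∧ B u f2 = 0) ∧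
      (B u' e2 = 0 ∧ B u' f1 = 0 ∧ B u' f2 = 0) := by
  have hvS : v ∉ Submodule.span (ZMod 2) ({u, u'} : Set V) := by
    intro h
    rcases span_cases h with h | h | h | h
    · exact v0 h
    · exact ne_of_q hv hu h
    · exact ne_of_q hv hu' h
    · exact vu h
  obtain ⟨f, hf, hfS⟩ := Cfsg.Agent.ClassicalGeometry.OrthAutRoot.exists_sep_sub good.nondeg hvS
  replace hf : B v f = 1 := hf
  have uf : B u f = 0 := hfS u (Submodule.subset_span (by simp))
  have uf' : B u' f = 0 := hfS u' (Submodule.subset_span (by simp))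
  obtain ⟨f1, hf1⟩ : ∃ f1, f + q f • v = f1 := ⟨_, rfl⟩
  have q1 : q f1 = 0 := by
    rw [← hf1, q_add, QuadraticMap.map_smul, hv, smul_zero, B_smul_right, B_comm f, hf, mul_one, add_zero]
    have : ∀ a : ZMod 2, a + a = 0 := by decide
    exact this _
  have b1 : B v f1 = 1 := by rw [← hf1, B_add_right, B_smul_right, B_self, mul_zero, add_zero]; exact hf
  have uf1 : B u f1 = 0 := by rw [← hf1, B_add_right, B_smul_right, uf, uv, mul_zero, add_zero]
  have uf1' : B u' f1 = 0 := by rw [← hf1, B_add_right, B_smul_right, uf', uv', mul_zero, add_zero]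
  have hs0 : u + u' ≠ 0 := fun h => hne (eq_of_add_eq_zero h)
  obtain ⟨p, hp⟩ : ∃ p, B (u + u') p = 1 := by
    by_contra hcon
    push Not at hcon
    exact hs0 (nondeg fun z => (z2 _).resolve_right (hcon z))
  obtain ⟨e2, e20, qe2, he2⟩ := exists_sing_perp (Q := q) ![u, u', v, f1, p] (by rw [finrank_V])
  have g0 : B u e2 = 0 := he2 0
  have g1 : B u' e2 = 0 := he2 1
  have g2 : B v e2 = 0 := he2 2
  have g3 : B f1 e2 = 0 := he2 3
  have g4 : B p e2 = 0 := he2 4
  have hS2 : e2 ∉ Submodule.span (ZMod 2) ({u, u', v, f1} : Set V) := by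
    intro h
    obtain ⟨a, z, hz, rfl⟩ := Submodule.mem_span_insert.1 h
    obtain ⟨b, z', hz', rfl⟩ := Submodule.mem_span_insert.1 hz
    obtain ⟨c, d, rfl⟩ := Submodule.mem_span_pair.1 hz'
    have hd : d = 0 := by
      simpa only [B_add_right, B_smul_right, B_comm v u, B_comm v u', uv, uv', B_self, b1, mul_zero, mul_one,
        zero_add] using g2
    have hc : c = 0 := by
      simpa only [B_add_right, B_smul_right, B_comm f1 u, B_comm f1 u', B_comm f1 v, uf1, uf1', B_self, b1,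
        mul_zero, mul_one, zero_add, add_zero] using g3
    subst hd hc
    simp only [zero_smul, add_zero] at *
    rcases z2 a with h1 | h1 <;> rcases z2 b with h2 | h2 <;> subst h1 h2
    · simp at e20
    · simp only [zero_smul, zero_add, one_smul] at qe2
      rw [hu'] at qe2
      exact one_ne_zero qe2
    · simp only [zero_smul, add_zero, one_smul] at qe2
      rw [hu] at qe2
      exact one_ne_zero qe2
    · simp only [one_smul] at g4
      rw [B_comm, hp] at g4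
      exact one_ne_zero g4
  obtain ⟨g, hg, hgS⟩ := Cfsg.Agent.ClassicalGeometry.OrthAutRoot.exists_sep_sub good.nondeg hS2
  replace hg : B e2 g = 1 := hg
  have ug : B u g = 0 := hgS u (Submodule.subset_span (by simp))
  have ug' : B u' g = 0 := hgS u' (Submodule.subset_span (by simp))
  have vg : B v g = 0 := hgS v (Submodule.subset_span (by simp))
  have fg : B f1 g = 0 := hgS f1 (Submodule.subset_span (by simp))
  obtain ⟨f2, hf2⟩ : ∃ f2, g + q g • e2 = f2 := ⟨_, rfl⟩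
  have q2 : q f2 = 0 := by
    rw [← hf2, q_add, QuadraticMap.map_smul, qe2, smul_zero, B_smul_right, B_comm g, hg, mul_one, add_zero]
    have : ∀ a : ZMod 2, a + a = 0 := by decide
    exact this _
  have b2 : B e2 f2 = 1 := by rw [← hf2, B_add_right, B_smul_right, B_self, mul_zero, add_zero]; exact hg
  have uf2 : B u f2 = 0 := by rw [← hf2, B_add_right, B_smul_right, ug, g0, mul_zero, add_zero]
  have uf2' : B u' f2 = 0 := by rw [← hf2, B_add_right, B_smul_right, ug', g1, mul_zero, add_zero]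
  have vf2 : B v f2 = 0 := by rw [← hf2, B_add_right, B_smul_right, vg, g2, mul_zero, add_zero]
  have ff2 : B f1 f2 = 0 := by rw [← hf2, B_add_right, B_smul_right, fg, g3, mul_zero, add_zero]
  exact ⟨e2, f1, f2, ⟨hv, qe2, q1, q2, b1, b2, g2, ff2, vf2, by rw [B_comm]; exact g3⟩,
    ⟨g0, uf1, uf2⟩, ⟨g1, uf1', uf2'⟩⟩

/-- a singular vector orthogonal to `u`, `u'` -/
theorem exists_sing (hne : u ≠ u') : ∃ v, q v = 0 ∧ v ≠ 0 ∧ v ≠ u + u' ∧ B u v = 0 ∧ B u' v = 0 := by
  have hs0 : u + u' ≠ 0 := fun h => hne (eq_of_add_eq_zero h)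
  obtain ⟨p, hp⟩ : ∃ p, B (u + u') p = 1 := by
    by_contra hcon
    push Not at hcon
    exact hs0 (nondeg fun z => (z2 _).resolve_right (hcon z))
  obtain ⟨v, v0, qv, hv⟩ := exists_sing_perp (Q := q) ![u, u', p] (by rw [finrank_V]; norm_num)
  have g0 : B u v = 0 := hv 0
  have g1 : B u' v = 0 := hv 1
  have g2 : B p v = 0 := hv 2
  refine ⟨v, qv, v0, ?_, g0, g1⟩
  rintro rfl
  rw [B_comm, hp] at g2
  exact one_ne_zero g2

/-- the partner is trivial on the orthogonal complement of `u`, `u'` -/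
theorem T3.perp {a b : V ≃ₗ[ZMod 2] V} (t : T3 a b) (hu : q u = 1) (hu' : q u' = 1)
    (hne : u ≠ u') (ha : ∀ x, a x = x + (B u x • u + B u' x • u')) {x : V} (hx : B u x = 0) (hx' : B u' x = 0) :
    b x = x := by
  have ma := Om_le t.ma
  have afix : ∀ {x}, B u x = 0 → B u' x = 0 → a x = x := by
    intro x h h'
    rw [ha, h, h', zero_smul, zero_smul, add_zero, add_zero]
  have sing : ∀ {v}, q v = 0 → v ≠ 0 → v ≠ u + u' → B u v = 0 → B u' v = 0 → b v = v := by
    intro v hv v0 vu uv uv'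
    obtain ⟨e2, f1, f2, h, ⟨h1, h2, h3⟩, ⟨h1', h2', h3'⟩⟩ := exists_frame hu hu' hne hv v0 vu uv uv'
    have htr : Tr a v e2 f1 f2 := ⟨afix uv uv', afix h1 h1', afix h2 h2', afix h3 h3'⟩
    exact (t.fix h (htr.dl ma)).2.1
  obtain ⟨v, qv, v0, vu, uv, uv'⟩ := exists_sing hne
  obtain ⟨e2, f1, f2, h, ⟨h1, h2, h3⟩, ⟨h1', h2', h3'⟩⟩ := exists_frame hu hu' hne qv v0 vu uv uv'
  refine sing_induction_perp (Q := q) (x := v) (y := f1) (z := u) (w := u') (P := fun x => b x = x)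
    ⟨qv, h.p1, h.a11⟩ uv h2 uv' h2' ?_ ?_ x hx hx'
  · intro a c _ _ _ _ ha hc
    show b (a + c) = a + c
    rw [map_add, ha, hc]
  · intro z qz uz uz'
    replace uz : B u z = 0 := uz
    replace uz' : B u' z = 0 := uz'
    by_cases z0 : z = 0
    · rw [z0, map_zero]
    by_cases zu : z = u + u'
    · -- `z = (z + v) + v`
      have h3 : b (z + v) = z + v := by
        apply sing
        · rw [q_add, qz, qv, zu, B_add_left, uv, uv']; decide
        · intro h
          exact vu ((eq_of_add_eq_zero h).symm.trans zu)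
        · intro h
          rw [zu] at h
          exact v0 (add_eq_left.1 h)
        · rw [B_add_right, uz, uv, add_zero]
        · rw [B_add_right, uz', uv', add_zero]
      have h4 : b v = v := sing qv v0 vu uv uv'
      rw [map_add, h4] at h3
      exact add_right_cancel h3
    · exact sing qz z0 zu uz uz'

/-- the two reflections are determined -/
theorem eq_of_perp {v v' : V} {b : V ≃ₗ[ZMod 2] V} (hu : q u = 1) (hu' : q u' = 1) (huu : B u u' = 0)
    (hv : q v = 1) (hv' : q v' = 1) (hne : v ≠ v')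
    (hb : ∀ x, b x = x + (B v x • v + B v' x • v')) (H : ∀ x, B u x = 0 → B u' x = 0 → b x = x) :
    (v = u ∨ v = u') ∧ (v' = u ∨ v' = u') := by
  have v0 : v ≠ 0 := by
    rintro rfl
    rw [q_zero] at hv
    exact zero_ne_one hv
  have v0' : v' ≠ 0 := by
    rintro rfl
    rw [q_zero] at hv'
    exact zero_ne_one hv'
  have key : ∀ x, B u x = 0 → B u' x = 0 → B v x = 0 ∧ B v' x = 0 := by
    intro x h h'
    have h1 := H x h h'
    rw [hb] at h1
    have h2 := add_eq_left.1 h1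
    rcases z2 (B v x) with h3 | h3 <;> rcases z2 (B v' x) with h4 | h4
    · exact ⟨h3, h4⟩
    · rw [h3, h4, zero_smul, one_smul, zero_add] at h2
      exact absurd h2 v0'
    · rw [h3, h4, zero_smul, one_smul, add_zero] at h2
      exact absurd h2 v0
    · rw [h3, h4, one_smul, one_smul] at h2
      exact absurd (eq_of_add_eq_zero h2) hne
  have mem : ∀ z, q z = 1 → (∀ x, B u x = 0 → B u' x = 0 → B z x = 0) → z = u ∨ z = u' := by
    intro z hz hzx
    have hzS : z ∈ Submodule.span (ZMod 2) ({u, u'} : Set V) := by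
      by_contra hcon
      obtain ⟨x, hx, hxS⟩ := Cfsg.Agent.ClassicalGeometry.OrthAutRoot.exists_sep_sub good.nondeg hcon
      have h1 : B z x = 0 := hzx x (hxS u (Submodule.subset_span (by simp)))
        (hxS u' (Submodule.subset_span (by simp)))
      have h2 : B z x = 1 := hx
      rw [h1] at h2
      exact zero_ne_one h2
    rcases span_cases hzS with h | h | h | h
    · rw [h, q_zero] at hz
      exact absurd hz zero_ne_one
    · exact Or.inl h
    · exact Or.inr h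
    · rw [h, q_uu hu hu' huu] at hz
      exact absurd hz zero_ne_one
  exact ⟨mem v hv fun x h h' => (key x h h').1, mem v' hv' fun x h h' => (key x h h').2⟩

end Exists

/-! ### the end -/

/-- a member of a tied pair is of the second type -/
theorem T3.second {a b : V ≃ₗ[ZMod 2] V} (t : T3 a b) (x y : V) (hx : q (a x + x) = 0) (hy : q (a y + y) = 0) :
    B x (a y + y) = 0 := by
  have ma := Om_le t.ma
  by_contra hcon
  have hxy : B x (a y + y) = 1 := z2_ne hcon
  have hyx : B y (a x + x) = 1 := by rw [← BN ma t.aa, B_comm]; exact hxy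
  obtain ⟨e1, he1⟩ : ∃ e1, a x + x = e1 := ⟨_, rfl⟩
  obtain ⟨e2, he2⟩ : ∃ e2, a y + y = e2 := ⟨_, rfl⟩
  have N1 : a e1 + e1 = 0 := by rw [← he1]; exact NN t.aa x
  have N2 : a e2 + e2 = 0 := by rw [← he2]; exact NN t.aa y
  have a1 := eq_of_add_eq_zero N1
  have a2 := eq_of_add_eq_zero N2
  have x1 : B x e1 = 0 := by rw [← he1, ← qN ma, hx]
  have y2 : B y e2 = 0 := by rw [← he2, ← qN ma, hy]
  have e12 : B e1 e2 = 0 := by rw [← he1, BN ma t.aa, N2, B_zero_right]
  rw [he1] at hx hyx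
  rw [he2] at hy hxy
  have ss : ∀ c : ZMod 2, c + c = 0 := by decide
  obtain ⟨f1, hf1⟩ : ∃ f1, y + q y • e1 = f1 := ⟨_, rfl⟩
  obtain ⟨f2, hf2⟩ : ∃ f2, x + (q x • e2 + B x y • e1) = f2 := ⟨_, rfl⟩
  have h : Fr e1 e2 f1 f2 := by
    refine ⟨hx, hy, ?_, ?_, ?_, ?_, e12, ?_, ?_, ?_⟩
    · rw [← hf1, q_add, QuadraticMap.map_smul, hx, smul_zero, B_smul_right, hyx, mul_one, add_zero]
      exact ss _
    · rw [← hf2, q_add, q_add, QuadraticMap.map_smul, QuadraticMap.map_smul, hx, hy, smul_zero, smul_zero]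
      simp only [B_add_right, B_smul_right, B_smul_left, B_comm e2 e1, e12, hxy, x1]
      have : ∀ a b : ZMod 2, a + (0 + 0 + b * (a * 0)) + (a * 1 + b * 0) = 0 := by decide
      exact this _ _
    · rw [← hf1, B_add_right, B_smul_right, B_self, B_comm e1, hyx, mul_zero, add_zero]
    · rw [← hf2, B_add_right, B_add_right, B_smul_right, B_smul_right, B_self, B_comm e2 x, hxy, B_comm e2 e1, e12]
      simp
    · rw [← hf1, ← hf2]
      simp only [B_add_right, B_add_left, B_smul_right, B_smul_left, B_self, B_comm y x, hyx, y2, e12,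
        B_comm e1 x, x1]
      have : ∀ a b c : ZMod 2, a + b * 0 + (c * (0 + b * 0) + a * (1 + b * 0)) = 0 := by decide
      exact this _ _ _
    · rw [← hf2, B_add_right, B_add_right, B_smul_right, B_smul_right, B_self, B_comm e1 x, x1, e12]
      simp
    · rw [← hf1, B_add_right, B_smul_right, B_comm e2 y, y2, B_comm e2 e1, e12]
      simp
  have ax : a x = x + e1 := by
    rw [← he1, add_comm (a x), ← add_assoc, add_self, zero_add]
  have ay : a y = y + e2 := by
    rw [← he2, add_comm (a y), ← add_assoc, add_self, zero_add]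
  have af1 : a f1 = f1 + e2 := by
    rw [← hf1, map_add, map_smul, a1, ay]; abel
  have af2 : a f2 = f2 + e1 := by
    rw [← hf2, map_add, map_add, map_smul, map_smul, a1, a2, ax]; abel
  have hc : dl e1 e2 f1 f2 * a = a * dl e1 e2 f1 f2 := by
    have c1 : Commute (X e1 f2) a := by
      have h1 := X_conj ma e1 f2
      rw [a1, af2, X_add_right hx, mul_inv_eq_iff_eq_mul] at h1
      exact h1.symm
    have c2 : Commute (X e2 f1) a := by
      have h1 := X_conj ma e2 f1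
      rw [a2, af1, X_add_right hy, mul_inv_eq_iff_eq_mul] at h1
      exact h1.symm
    exact (c1.mul_left c2).eq
  have := (t.fix h hc).1.2.2.2
  rw [af2] at this
  exact h.e1_ne (add_eq_left.1 this)

/-- no tied pair -/
theorem not_T3 {a b : V ≃ₗ[ZMod 2] V} (t : T3 a b) : False := by
  obtain ⟨u, u', hu, hu', huu, hne, ha⟩ := normal t.ma t.aa t.a1 t.second
  obtain ⟨v, v', hv, hv', hvv, hne', hb⟩ := normal t.mb t.bb t.b1 t.symm.second
  obtain ⟨h1, h2⟩ := eq_of_perp hu hu' huu hv hv' hne' hb fun x hx hx' => t.perp hu hu' hne ha hx hx'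
  apply t.ne
  ext x : 1
  rw [ha, hb]
  rcases h1 with h1 | h1 <;> rcases h2 with h2 | h2
  · exact absurd (h1.trans h2.symm) hne'
  · rw [h1, h2]
  · rw [h1, h2, add_comm (B u' x • u')]
  · exact absurd (h1.trans h2.symm) hne'

theorem not_tied_Om : ¬ Tied Om := by
  rintro ⟨a, b, ha, hb, ha1, hb1, hne, hab, H⟩
  refine not_T3 (a := a) (b := b) ⟨a.2, b.2, congrArg Subtype.val ha, congrArg Subtype.val hb,
    fun h => ha1 (Subtype.ext h), fun h => hb1 (Subtype.ext h), fun h => hne (Subtype.ext h),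
    congrArg Subtype.val hab, fun x hx h3 h => ?_⟩
  have h4 := H ⟨x, hx⟩ (Odd.of_dvd_nat (by decide) (orderOf_dvd_of_pow_eq_one (n := 3) (Subtype.ext h3))) (by
    rcases h with h | h | h
    · exact Or.inl (Subtype.ext h)
    · exact Or.inr (Or.inl (Subtype.ext h))
    · exact Or.inr (Or.inr (Subtype.ext h)))
  exact ⟨congrArg Subtype.val h4.1, congrArg Subtype.val h4.2⟩

/-- **`Ω₈⁺(2)` has no tied pair** -/
theorem not_tied {F : Type*} [Field F] [Fintype F] (hF : Fintype.card F = 2) :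
    ¬ Tied (Cfsg.POmega F (Cfsg.quadFormPlus 4 F)) := by
  obtain ⟨e⟩ := exists_equiv hF
  exact fun h => not_tied_Om (h.of_equiv e)

end Cfsg.Agent.OddHalf.D9.GamO8
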