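import Cfsg.Agent.OddHalf.D9.Gamma
import Cfsg.Agent.R01.InvForm

/-!
# `¬ Tied (PSU 6 F 2)`, `|F| = 4` (helper919)
-/

set_option autoImplicit false
set_option linter.unusedSectionVars false

namespace Cfsg.Agent.OddHalf.D9.GamUSix

open Cfsg Cfsg.Agent.LieClassical.HermBasic Cfsg.Agent.ClassicalGeometry.UnitTransv
open Cfsg.Agent.SporadicStructure.UnitTwo
open Cfsg.Agent.R01.PSUSix Cfsg.Agent.R01.InvForm
open Cfsg.Agent.ClassicalGeometry.UnitAutBasic (tau pr pr_surjective)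
open Gamma Matrix

variable {F : Type*} [Field F] [Fintype F]

/-! ### diagonal elements -/

theorem herm_diag (l : Fin 6 → F) (hl : ∀ i, l i ^ 3 = 1) (x y : Fin 6 → F) :
    hermForm 6 F 2 (Matrix.diagonal l *ᵥ x) (Matrix.diagonal l *ᵥ y) = hermForm 6 F 2 x y := by
  rw [herm_def, herm_def]
  apply Finset.sum_congr rfl
  intro i _
  rw [Matrix.mulVec_diagonal, Matrix.mulVec_diagonal]
  linear_combination (x i * y i ^ 2) * hl i

/-- the diagonal element -/
def dg (l : Fin 6 → F) (hd : ∏ i, l i = 1) (hl : ∀ i, l i ^ 3 = 1) : SU 6 F 2 :=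
  mk (Matrix.diagonal l) (by rw [Matrix.det_diagonal, hd]) (herm_diag l hl)

theorem act_dg (l : Fin 6 → F) (hd : ∏ i, l i = 1) (hl : ∀ i, l i ^ 3 = 1) (x : Fin 6 → F) (i : Fin 6) :
    act (dg l hd hl) x i = l i * x i := by
  rw [dg, act_mk, Matrix.mulVec_diagonal]

theorem dg_pow_three (l : Fin 6 → F) (hd : ∏ i, l i = 1) (hl : ∀ i, l i ^ 3 = 1) :
    dg l hd hl ^ 3 = 1 := by
  apply ext_act
  intro x
  funext i
  rw [pow_succ, pow_two, act_mul, act_mul, act_dg, act_dg, act_dg, act_one]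
  linear_combination x i * hl i

/-- the permutation `x ↦ (x₄, x₅, x₀, x₁, x₂, x₃)` -/
def cyc : SU 6 F 2 :=
  mk (Matrix.of ![![0, 0, 0, 0, 1, 0], ![0, 0, 0, 0, 0, 1], ![1, 0, 0, 0, 0, 0], ![0, 1, 0, 0, 0, 0],
    ![0, 0, 1, 0, 0, 0], ![0, 0, 0, 1, 0, 0]]) (by
      simp [Matrix.det_succ_row_zero, Fin.sum_univ_succ, Fin.succAbove]
      norm_num)
    (by
      intro x y
      rw [herm_def, herm_def]
      simp [Matrix.mulVec, dotProduct, Fin.sum_univ_succ]
      ring)

theorem act_cyc (x : Fin 6 → F) : act (cyc : SU 6 F 2) x = ![x 4, x 5, x 0, x 1, x 2, x 3] := by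
  rw [cyc, act_mk]
  funext i
  fin_cases i <;> simp [Matrix.mulVec, dotProduct, Fin.sum_univ_succ]

theorem cyc_pow_three : (cyc : SU 6 F 2) ^ 3 = 1 := by
  apply ext_act
  intro x
  rw [pow_succ, pow_two, act_mul, act_mul, act_cyc, act_cyc, act_cyc, act_one]
  funext i
  fin_cases i <;> simp

theorem center_pow_three (hF : Fintype.card F = 2 ^ 2) {z : SU 6 F 2}
    (hz : z ∈ Subgroup.center (SU 6 F 2)) : z ^ 3 = 1 := by
  obtain ⟨c, hc1, hc⟩ := Cfsg.Agent.ClassicalGeometry.UnitAutBasic.exists_scalar_of_mem_center hF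
    (by norm_num) hz
  have hc' : ∀ v : Fin 6 → F, act z v = c • v := hc
  have hc0 : c ≠ 0 := (norm_iff hF).1 hc1
  have hc3 : c ^ 3 = 1 := pow_three hF hc0
  apply ext_act
  intro v
  rw [pow_succ, pow_two, act_mul, act_mul, hc', hc', hc', act_one, smul_smul, smul_smul,
    show c * c * c = c ^ 3 by ring, hc3, one_smul]

/-- an involution commuting modulo the centre with an element commutes with it -/
theorem comm_of_pr (hF : Fintype.card F = 2 ^ 2) {x d : SU 6 F 2} (hx : x * x = 1)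
    (h : pr 6 F 2 x * pr 6 F 2 d = pr 6 F 2 d * pr 6 F 2 x) : x * d = d * x := by
  have hz : (x * d)⁻¹ * (d * x) ∈ Subgroup.center (SU 6 F 2) := by
    rw [← QuotientGroup.eq]
    rw [← map_mul, ← map_mul] at h
    exact h
  have hz3 := center_pow_three hF hz
  set z := (x * d)⁻¹ * (d * x) with hzd
  have h1 : d * x = x * d * z := by rw [hzd]; group
  have hzc : ∀ g : SU 6 F 2, g * z = z * g := fun g => Subgroup.mem_center_iff.1 hz g
  have h2 : d = x * d * x * z := by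
    calc d = (d * x) * x := by rw [mul_assoc, hx, mul_one]
      _ = x * d * z * x := by rw [h1]
      _ = x * d * (x * z) := by rw [hzc x]; group
      _ = x * d * x * z := by group
  have hz2 : z * z = 1 := by
    have h3 : x * d * x = d * z := by
      calc x * d * x = x * (d * x) := by group
        _ = (x * x) * d * z := by rw [h1]; group
        _ = d * z := by rw [hx, one_mul]
    have h4 : d * (z * z) = d * 1 := by
      calc d * (z * z) = (d * z) * z := by group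
        _ = d := by rw [← h3]; exact h2.symm
        _ = d * 1 := (mul_one d).symm
    exact mul_left_cancel h4
  have hz1 : z = 1 := by
    rw [pow_succ, pow_two, hz2, one_mul] at hz3
    exact hz3
  rw [h1, hz1, mul_one]

/-! ### coordinates -/

/-- entries -/
def X (x : SU 6 F 2) (i j : Fin 6) : F := act x (Pi.single j 1) i

theorem act_eq_sum (x : SU 6 F 2) (y : Fin 6 → F) (i : Fin 6) : act x y i = ∑ j, X x i j * y j := by
  have h1 : ∀ j, X x i j = (x.1.1 : Matrix (Fin 6) (Fin 6) F) i j := by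
    intro j
    rw [X, act_def, Matrix.mulVec_single_one]
    rfl
  rw [act_def]
  simp only [Matrix.mulVec, dotProduct, h1]

/-- an element commuting with a diagonal one -/
theorem X_eq_zero {x : SU 6 F 2} {l : Fin 6 → F} {hd : ∏ i, l i = 1} {hl : ∀ i, l i ^ 3 = 1}
    (h : x * dg l hd hl = dg l hd hl * x) {i j : Fin 6} (hij : l i ≠ l j) : X x i j = 0 := by
  have h1 : act x (act (dg l hd hl) (Pi.single j 1)) i = act (dg l hd hl) (act x (Pi.single j 1)) i := by
    rw [← act_mul, ← act_mul, h]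
  have h2 : act (dg l hd hl) (Pi.single j (1 : F)) = l j • (Pi.single j (1 : F)) := by
    funext k
    rw [act_dg, Pi.smul_apply, smul_eq_mul]
    by_cases hk : k = j
    · rw [hk]
    · rw [Pi.single_eq_of_ne hk, mul_zero, mul_zero]
  rw [h2, act_smul, act_dg, Pi.smul_apply, smul_eq_mul] at h1
  have h3 : (l i - l j) * X x i j = 0 := by
    show (l i - l j) * act x (Pi.single j 1) i = 0
    linear_combination -h1
  exact (mul_eq_zero.1 h3).resolve_left (sub_ne_zero.2 hij)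

section Std

variable (hF : Fintype.card F = 2 ^ 2)

theorem pair_cases (hF : Fintype.card F = 2 ^ 2) {p q : F} (h1 : p * p + q * q = 1)
    (h2 : p * p ^ 2 + q * q ^ 2 = 1) : (p = 1 ∧ q = 0) ∨ (p = 0 ∧ q = 1) := by
  have h := two_eq_zero hF
  have h3 : (p + q + 1) * (p + q + 1) = 0 := by
    linear_combination h1 + (p * q + p + q + 1) * h
  have h4 : p + q + 1 = 0 := mul_self_eq_zero.1 h3
  have h5 : q = p + 1 := by linear_combination h4 - (p + 1) * h
  have h6 : p * q = 0 := by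
    have h7 : q = 1 - p - 0 + 0 * p := by rw [h5]; linear_combination p * h
    have h8 : (p + q) * (p * p - p * q + q * q) = 1 := by linear_combination h2
    have h9 : p + q = 1 := by linear_combination h4 - h
    rw [h9, one_mul] at h8
    linear_combination h1 - h8
  rcases mul_eq_zero.1 h6 with h7 | h7
  · exact Or.inr ⟨h7, by rw [h5, h7, zero_add]⟩
  · refine Or.inl ⟨?_, h7⟩
    rw [h7] at h4
    linear_combination h4 - h

/-- the standard transvections -/
noncomputable def S1 : SU 6 F 2 := T hF ![1, 1, 0, 0, 0, 0] (fr3_std hF).uu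
noncomputable def S2 : SU 6 F 2 := T hF ![0, 0, 1, 1, 0, 0] (fr3_std hF).vv
noncomputable def S3 : SU 6 F 2 := T hF ![0, 0, 0, 0, 1, 1] (fr3_std hF).ww

theorem act_S1 (y : Fin 6 → F) : act (S1 hF) y = ![y 1, y 0, y 2, y 3, y 4, y 5] := by
  have h := two_eq_zero hF
  rw [S1, act_T, herm_def]
  funext i
  fin_cases i <;> simp [Fin.sum_univ_succ]
  · linear_combination y 0 * h
  · linear_combination y 1 * h

theorem act_S2 (y : Fin 6 → F) : act (S2 hF) y = ![y 0, y 1, y 3, y 2, y 4, y 5] := by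
  have h := two_eq_zero hF
  rw [S2, act_T, herm_def]
  funext i
  fin_cases i <;> simp [Fin.sum_univ_succ]
  · linear_combination y 2 * h
  · linear_combination y 3 * h

theorem act_S3 (y : Fin 6 → F) : act (S3 hF) y = ![y 0, y 1, y 2, y 3, y 5, y 4] := by
  have h := two_eq_zero hF
  rw [S3, act_T, herm_def]
  funext i
  fin_cases i <;> simp [Fin.sum_univ_succ]
  · linear_combination y 4 * h
  · linear_combination y 5 * h

/-- block form -/
def Blk (x : SU 6 F 2) (s1 s2 s3 : Bool) : Prop :=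
  ∀ y : Fin 6 → F, act x y = ![if s1 then y 1 else y 0, if s1 then y 0 else y 1,
    if s2 then y 3 else y 2, if s2 then y 2 else y 3, if s3 then y 5 else y 4, if s3 then y 4 else y 5]

theorem Blk.eq {x y : SU 6 F 2} {s1 s2 s3 : Bool} (hx : Blk x s1 s2 s3) (hy : Blk y s1 s2 s3) : x = y :=
  ext_act fun z => (hx z).trans (hy z).symm

theorem blk_one : Blk (1 : SU 6 F 2) false false false := by
  intro y
  rw [act_one]
  funext i
  fin_cases i <;> simp

theorem blk_S1 : Blk (S1 hF) true false false := by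
  intro y
  rw [act_S1]
  funext i
  fin_cases i <;> simp

theorem blk_S2 : Blk (S2 hF) false true false := by
  intro y
  rw [act_S2]
  funext i
  fin_cases i <;> simp

theorem blk_S12 : Blk (S1 hF * S2 hF) true true false := by
  intro y
  rw [act_mul, act_S1, act_S2]
  funext i
  fin_cases i <;> simp

theorem blk_S123 : Blk (S1 hF * S2 hF * S3 hF) true true true := by
  intro y
  rw [act_mul, act_mul, act_S1, act_S2, act_S3]
  funext i
  fin_cases i <;> simp

theorem norm_X (x : SU 6 F 2) (j : Fin 6) : ∑ i, X x i j * X x i j ^ 2 = 1 := by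
  have h1 := herm_act x (Pi.single j (1 : F)) (Pi.single j (1 : F))
  rw [herm_def, herm_def] at h1
  rw [show ∑ i, X x i j * X x i j ^ 2 = _ from h1, Finset.sum_eq_single j]
  · simp
  · intro b _ hb
    simp [Pi.single_eq_of_ne hb]
  · simp

theorem sq_X {x : SU 6 F 2} (hx : x * x = 1) (j : Fin 6) : ∑ k, X x j k * X x k j = 1 := by
  have h1 : act x (act x (Pi.single j (1 : F))) j = 1 := by
    rw [← act_mul, hx, act_one]; simp
  rw [act_eq_sum] at h1
  exact h1

/-- a fixed coordinate -/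
theorem X_diag (hF : Fintype.card F = 2 ^ 2) {x : SU 6 F 2} (hx : x * x = 1) {j : Fin 6}
    (h : ∀ i, i ≠ j → X x i j = 0) : X x j j = 1 := by
  have h1 := sq_X hx j
  rw [Finset.sum_eq_single j] at h1
  · have h2 : (X x j j + 1) * (X x j j + 1) = 0 := by
      linear_combination h1 + (X x j j + 1) * two_eq_zero hF
    have h3 := mul_self_eq_zero.1 h2
    linear_combination h3 - two_eq_zero hF
  · intro b _ hb
    rw [h b hb, mul_zero]
  · simp

/-- a swapped pair of coordinates -/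
theorem X_pair (hF : Fintype.card F = 2 ^ 2) {x : SU 6 F 2} (hx : x * x = 1) {j k : Fin 6} (hjk : j ≠ k)
    (h : ∀ i, i ≠ j → i ≠ k → X x i j = 0) (h1 : X x j k = X x k j) :
    (X x j j = 1 ∧ X x k j = 0) ∨ (X x j j = 0 ∧ X x k j = 1) := by
  have e1 := sq_X hx j
  have e2 := norm_X x j
  have key : ∀ f : Fin 6 → F, (∀ i, i ≠ j → i ≠ k → f i = 0) → ∑ i, f i = f j + f k := by
    intro f hf
    rw [← Finset.sum_pair hjk]
    symm
    apply Finset.sum_subset (Finset.subset_univ _)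
    intro i _ hi
    simp only [Finset.mem_insert, Finset.mem_singleton, not_or] at hi
    exact hf i hi.1 hi.2
  rw [key _ (fun i hi hi' => by rw [h i hi hi', mul_zero])] at e1
  rw [key _ (fun i hi hi' => by rw [h i hi hi', zero_mul])] at e2
  apply pair_cases hF
  · rw [h1] at e1; exact e1
  · exact e2

theorem blk_of {x : SU 6 F 2} (h : ∀ i j : Fin 6, (i : ℕ) / 2 ≠ (j : ℕ) / 2 → X x i j = 0)
    (h1 : X x 0 1 = X x 1 0) (h2 : X x 1 1 = X x 0 0) (h3 : X x 2 3 = X x 3 2) (h4 : X x 3 3 = X x 2 2)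
    (h5 : X x 4 5 = X x 5 4) (h6 : X x 5 5 = X x 4 4) {s1 s2 s3 : Bool}
    (e1 : X x 0 0 = (if s1 then 0 else 1) ∧ X x 1 0 = (if s1 then 1 else 0))
    (e2 : X x 2 2 = (if s2 then 0 else 1) ∧ X x 3 2 = (if s2 then 1 else 0))
    (e3 : X x 4 4 = (if s3 then 0 else 1) ∧ X x 5 4 = (if s3 then 1 else 0)) : Blk x s1 s2 s3 := by
  have key : ∀ (y : Fin 6 → F) (i : Fin 6), act x y i = X x i 0 * y 0 + X x i 1 * y 1 + X x i 2 * y 2 +
      X x i 3 * y 3 + X x i 4 * y 4 + X x i 5 * y 5 := by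
    intro y i
    rw [act_eq_sum]
    simp only [Fin.sum_univ_succ, Fin.sum_univ_zero]
    simp
    ring
  intro y
  funext i
  rw [key]
  fin_cases i
  · show X x 0 0 * y 0 + X x 0 1 * y 1 + X x 0 2 * y 2 + X x 0 3 * y 3 + X x 0 4 * y 4 + X x 0 5 * y 5 =
      (if s1 then y 1 else y 0)
    rw [h 0 2 (by decide), h 0 3 (by decide), h 0 4 (by decide), h 0 5 (by decide), h1, e1.1, e1.2]
    cases s1 <;> simp
  · show X x 1 0 * y 0 + X x 1 1 * y 1 + X x 1 2 * y 2 + X x 1 3 * y 3 + X x 1 4 * y 4 + X x 1 5 * y 5 =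
      (if s1 then y 0 else y 1)
    rw [h 1 2 (by decide), h 1 3 (by decide), h 1 4 (by decide), h 1 5 (by decide), h2, e1.1, e1.2]
    cases s1 <;> simp
  · show X x 2 0 * y 0 + X x 2 1 * y 1 + X x 2 2 * y 2 + X x 2 3 * y 3 + X x 2 4 * y 4 + X x 2 5 * y 5 =
      (if s2 then y 3 else y 2)
    rw [h 2 0 (by decide), h 2 1 (by decide), h 2 4 (by decide), h 2 5 (by decide), h3, e2.1, e2.2]
    cases s2 <;> simp
  · show X x 3 0 * y 0 + X x 3 1 * y 1 + X x 3 2 * y 2 + X x 3 3 * y 3 + X x 3 4 * y 4 + X x 3 5 * y 5 =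
      (if s2 then y 2 else y 3)
    rw [h 3 0 (by decide), h 3 1 (by decide), h 3 4 (by decide), h 3 5 (by decide), h4, e2.1, e2.2]
    cases s2 <;> simp
  · show X x 4 0 * y 0 + X x 4 1 * y 1 + X x 4 2 * y 2 + X x 4 3 * y 3 + X x 4 4 * y 4 + X x 4 5 * y 5 =
      (if s3 then y 5 else y 4)
    rw [h 4 0 (by decide), h 4 1 (by decide), h 4 2 (by decide), h 4 3 (by decide), h5, e3.1, e3.2]
    cases s3 <;> simp
  · show X x 5 0 * y 0 + X x 5 1 * y 1 + X x 5 2 * y 2 + X x 5 3 * y 3 + X x 5 4 * y 4 + X x 5 5 * y 5 =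
      (if s3 then y 4 else y 5)
    rw [h 5 0 (by decide), h 5 1 (by decide), h 5 2 (by decide), h 5 3 (by decide), h6, e3.1, e3.2]
    cases s3 <;> simp

/-- commuting with an element permuting the coordinates -/
theorem X_comm {x s : SU 6 F 2} (hxs : x * s = s * x) {j j' : Fin 6}
    (hj : act s (Pi.single j (1 : F)) = Pi.single j' 1) {i i' : Fin 6}
    (hi : ∀ y : Fin 6 → F, act s y i' = y i) : X x i' j' = X x i j := by
  show act x (Pi.single j' 1) i' = act x (Pi.single j 1) i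
  rw [← hj, ← act_mul, hxs, act_mul, hi]

/-- the two elements of order three of the field -/
theorem exists_w (hF : Fintype.card F = 2 ^ 2) :
    ∃ w v : F, w ≠ 1 ∧ v ≠ 1 ∧ v ≠ w ∧ w ^ 3 = 1 ∧ v ^ 3 = 1 ∧ w * v = 1 ∧ w * w = v ∧ v * v = w := by
  have h2 := two_eq_zero hF
  obtain ⟨w, hw⟩ := exists_omega hF
  have h3 : w ^ 3 = 1 := by linear_combination (w - 1) * hw
  refine ⟨w, w ^ 2, ?_, ?_, ?_, h3, ?_, ?_, ?_, ?_⟩
  · rintro rfl
    apply one_ne_zero (α := F)
    linear_combination hw - h2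
  · intro h
    apply one_ne_zero (α := F)
    have h4 : w = 0 := by linear_combination hw - h - h2
    rw [h4] at h
    linear_combination -h
  · intro h
    apply one_ne_zero (α := F)
    linear_combination hw - h - w * h2
  · rw [← pow_mul, mul_comm 2 3, pow_mul, h3, one_pow]
  · linear_combination h3
  · ring
  · linear_combination w * h3

theorem dg_S1 {l : Fin 6 → F} {hd : ∏ i, l i = 1} {hl : ∀ i, l i ^ 3 = 1} (h : l 1 = l 0) :
    dg l hd hl * S1 hF = S1 hF * dg l hd hl := by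
  apply ext_act
  intro y
  funext i
  rw [act_mul, act_mul, act_dg, act_S1, act_S1, act_dg, act_dg, act_dg, act_dg, act_dg, act_dg]
  fin_cases i <;> simp [h]

theorem dg_S2 {l : Fin 6 → F} {hd : ∏ i, l i = 1} {hl : ∀ i, l i ^ 3 = 1} (h : l 3 = l 2) :
    dg l hd hl * S2 hF = S2 hF * dg l hd hl := by
  apply ext_act
  intro y
  funext i
  rw [act_mul, act_mul, act_dg, act_S2, act_S2, act_dg, act_dg, act_dg, act_dg, act_dg, act_dg]
  fin_cases i <;> simp [h]

theorem dg_S3 {l : Fin 6 → F} {hd : ∏ i, l i = 1} {hl : ∀ i, l i ^ 3 = 1} (h : l 5 = l 4) :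
    dg l hd hl * S3 hF = S3 hF * dg l hd hl := by
  apply ext_act
  intro y
  funext i
  rw [act_mul, act_mul, act_dg, act_S3, act_S3, act_dg, act_dg, act_dg, act_dg, act_dg, act_dg]
  fin_cases i <;> simp [h]

theorem cyc_S123 : (cyc : SU 6 F 2) * (S1 hF * S2 hF * S3 hF) = S1 hF * S2 hF * S3 hF * cyc := by
  apply ext_act
  intro y
  rw [act_mul cyc, act_mul (S1 hF * S2 hF * S3 hF) cyc, blk_S123 hF, blk_S123 hF, act_cyc, act_cyc]
  funext i
  fin_cases i <;> simp

theorem act_cyc_single (j : Fin 6) :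
    act (cyc : SU 6 F 2) (Pi.single j (1 : F)) = Pi.single (j + 2) 1 := by
  rw [act_cyc]
  funext i
  fin_cases j <;> fin_cases i <;> simp

/-- entries of an element commuting with a block involution -/
theorem X_blk {x s : SU 6 F 2} {s1 s2 s3 : Bool} (hs : Blk s s1 s2 s3) (hxs : x * s = s * x) :
    (s1 = true → X x 0 1 = X x 1 0 ∧ X x 1 1 = X x 0 0) ∧
    (s2 = true → X x 2 3 = X x 3 2 ∧ X x 3 3 = X x 2 2) ∧
    (s3 = true → X x 4 5 = X x 5 4 ∧ X x 5 5 = X x 4 4) := by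
  refine ⟨?_, ?_, ?_⟩
  · rintro rfl
    have hj : act s (Pi.single 0 (1 : F)) = Pi.single 1 1 := by
      rw [hs]
      funext i
      fin_cases i <;> simp
    exact ⟨X_comm hxs hj (i := 1) (i' := 0) (fun y => by rw [hs]; simp),
      X_comm hxs hj (i := 0) (i' := 1) (fun y => by rw [hs]; simp)⟩
  · rintro rfl
    have hj : act s (Pi.single 2 (1 : F)) = Pi.single 3 1 := by
      rw [hs]
      funext i
      fin_cases i <;> simp
    exact ⟨X_comm hxs hj (i := 3) (i' := 2) (fun y => by rw [hs]; simp),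
      X_comm hxs hj (i := 2) (i' := 3) (fun y => by rw [hs]; simp)⟩
  · rintro rfl
    have hj : act s (Pi.single 4 (1 : F)) = Pi.single 5 1 := by
      rw [hs]
      funext i
      fin_cases i <;> simp
    exact ⟨X_comm hxs hj (i := 5) (i' := 4) (fun y => by rw [hs]; simp),
      X_comm hxs hj (i := 4) (i' := 5) (fun y => by rw [hs]; simp)⟩

/-- a diagonal element from a list -/
theorem prod_six (l : Fin 6 → F) : ∏ i, l i = l 0 * l 1 * l 2 * l 3 * l 4 * l 5 := by
  simp only [Fin.prod_univ_succ, Fin.prod_univ_zero]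
  simp
  ring

section K

variable {x : SU 6 F 2} (hx : x * x = 1)
include hx

/-- rank three -/
theorem rank_three (hc : x * (S1 hF * S2 hF * S3 hF) = S1 hF * S2 hF * S3 hF * x)
    (H : ∀ d : SU 6 F 2, d ^ 3 = 1 → d * (S1 hF * S2 hF * S3 hF) = S1 hF * S2 hF * S3 hF * d →
      x * d = d * x) : x = 1 ∨ x = S1 hF * S2 hF * S3 hF := by
  obtain ⟨w, v, w1, v1, vw, w3, v3, wv, -, -⟩ := exists_w hF
  have hd : ∏ i, (![1, 1, w, w, v, v] : Fin 6 → F) i = 1 := by
    rw [prod_six]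
    show 1 * 1 * w * w * v * v = (1 : F)
    linear_combination (w * v + 1) * wv
  have hl : ∀ i, (![1, 1, w, w, v, v] : Fin 6 → F) i ^ 3 = 1 := by
    intro i
    fin_cases i <;> simp [w3, v3]
  have hdc : dg _ hd hl * (S1 hF * S2 hF * S3 hF) = S1 hF * S2 hF * S3 hF * dg _ hd hl := by
    have c1 : Commute (dg _ hd hl) (S1 hF) := dg_S1 hF rfl
    have c2 : Commute (dg _ hd hl) (S2 hF) := dg_S2 hF rfl
    have c3 : Commute (dg _ hd hl) (S3 hF) := dg_S3 hF rfl
    exact ((c1.mul_right c2).mul_right c3).eq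
  have hxd := H _ (dg_pow_three _ hd hl) hdc
  have hxc := H _ cyc_pow_three (cyc_S123 hF)
  have hz : ∀ i j : Fin 6, (i : ℕ) / 2 ≠ (j : ℕ) / 2 → X x i j = 0 := by
    intro i j hij
    apply X_eq_zero hxd
    fin_cases i <;> fin_cases j <;> simp at hij ⊢ <;>
      first | exact w1 | exact w1.symm | exact v1 | exact v1.symm | exact vw | exact vw.symm
  obtain ⟨h1, h2, h3⟩ := X_blk (blk_S123 hF) hc
  obtain ⟨h1, h1'⟩ := h1 rfl
  obtain ⟨h2, h2'⟩ := h2 rfl
  obtain ⟨h3, h3'⟩ := h3 rfl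
  have c : ∀ (j i i' : Fin 6), (∀ y : Fin 6 → F, act (cyc : SU 6 F 2) y i' = y i) →
      X x i' (j + 2) = X x i j := fun j i i' h => X_comm hxc (act_cyc_single j) h
  have c1 : X x 2 2 = X x 0 0 := c 0 0 2 (fun y => by rw [act_cyc]; simp)
  have c2 : X x 3 2 = X x 1 0 := c 0 1 3 (fun y => by rw [act_cyc]; simp)
  have c3 : X x 4 4 = X x 2 2 := c 2 2 4 (fun y => by rw [act_cyc]; simp)
  have c4 : X x 5 4 = X x 3 2 := c 2 3 5 (fun y => by rw [act_cyc]; simp)
  rcases X_pair hF hx (j := 0) (k := 1) (by decide) (fun i hi hi' => hz i 0 (by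
    revert hi hi'; revert i; decide)) h1 with ⟨e1, e2⟩ | ⟨e1, e2⟩
  · left
    apply Blk.eq (s1 := false) (s2 := false) (s3 := false) _ blk_one
    exact blk_of hz h1 h1' h2 h2' h3 h3' ⟨by simpa using e1, by simpa using e2⟩
      ⟨by simpa [c1] using e1, by simpa [c2] using e2⟩
      ⟨by simpa [c3, c1] using e1, by simpa [c4, c2] using e2⟩
  · right
    apply Blk.eq (s1 := true) (s2 := true) (s3 := true) _ (blk_S123 hF)
    exact blk_of hz h1 h1' h2 h2' h3 h3' ⟨by simpa using e1, by simpa using e2⟩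
      ⟨by simpa [c1] using e1, by simpa [c2] using e2⟩
      ⟨by simpa [c3, c1] using e1, by simpa [c4, c2] using e2⟩

/-- rank two -/
theorem rank_two (hc : x * (S1 hF * S2 hF) = S1 hF * S2 hF * x)
    (H : ∀ d : SU 6 F 2, d ^ 3 = 1 → d * (S1 hF * S2 hF) = S1 hF * S2 hF * d → x * d = d * x) :
    x = 1 ∨ x = S1 hF ∨ x = S2 hF ∨ x = S1 hF * S2 hF := by
  obtain ⟨w, v, w1, v1, vw, w3, v3, wv, -, -⟩ := exists_w hF
  have hd : ∏ i, (![1, 1, w, w, v, v] : Fin 6 → F) i = 1 := by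
    rw [prod_six]
    show 1 * 1 * w * w * v * v = (1 : F)
    linear_combination (w * v + 1) * wv
  have hl : ∀ i, (![1, 1, w, w, v, v] : Fin 6 → F) i ^ 3 = 1 := by
    intro i
    fin_cases i <;> simp [w3, v3]
  have hd' : ∏ i, (![1, 1, 1, 1, w, v] : Fin 6 → F) i = 1 := by
    rw [prod_six]
    show 1 * 1 * 1 * 1 * w * v = (1 : F)
    linear_combination wv
  have hl' : ∀ i, (![1, 1, 1, 1, w, v] : Fin 6 → F) i ^ 3 = 1 := by
    intro i
    fin_cases i <;> simp [w3, v3]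
  have hxd := H (dg _ hd hl) (dg_pow_three _ hd hl) (by
    have c1 : Commute (dg _ hd hl) (S1 hF) := dg_S1 hF rfl
    have c2 : Commute (dg _ hd hl) (S2 hF) := dg_S2 hF rfl
    exact (c1.mul_right c2).eq)
  have hxd' := H (dg _ hd' hl') (dg_pow_three _ hd' hl') (by
    have c1 : Commute (dg _ hd' hl') (S1 hF) := dg_S1 hF rfl
    have c2 : Commute (dg _ hd' hl') (S2 hF) := dg_S2 hF rfl
    exact (c1.mul_right c2).eq)
  have hz : ∀ i j : Fin 6, (i : ℕ) / 2 ≠ (j : ℕ) / 2 → X x i j = 0 := by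
    intro i j hij
    apply X_eq_zero hxd
    fin_cases i <;> fin_cases j <;> simp at hij ⊢ <;>
      first | exact w1 | exact w1.symm | exact v1 | exact v1.symm | exact vw | exact vw.symm
  have z54 : X x 5 4 = 0 := X_eq_zero hxd' vw
  have z45 : X x 4 5 = 0 := X_eq_zero hxd' vw.symm
  have e44 : X x 4 4 = 1 := by
    apply X_diag hF hx
    intro i hi
    by_cases h5 : i = 5
    · rw [h5]; exact z54
    · exact hz i 4 (by revert hi h5; revert i; decide)
  have e55 : X x 5 5 = 1 := by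
    apply X_diag hF hx
    intro i hi
    by_cases h5 : i = 4
    · rw [h5]; exact z45
    · exact hz i 5 (by revert hi h5; revert i; decide)
  obtain ⟨h1, h2, -⟩ := X_blk (blk_S12 hF) hc
  obtain ⟨h1, h1'⟩ := h1 rfl
  obtain ⟨h2, h2'⟩ := h2 rfl
  have h3 : X x 4 5 = X x 5 4 := by rw [z45, z54]
  have h3' : X x 5 5 = X x 4 4 := by rw [e55, e44]
  rcases X_pair hF hx (j := 0) (k := 1) (by decide) (fun i hi hi' => hz i 0 (by
    revert hi hi'; revert i; decide)) h1 with ⟨e1, e2⟩ | ⟨e1, e2⟩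
  · rcases X_pair hF hx (j := 2) (k := 3) (by decide) (fun i hi hi' => hz i 2 (by
      revert hi hi'; revert i; decide)) h2 with ⟨f1, f2⟩ | ⟨f1, f2⟩
    · left
      apply Blk.eq (s1 := false) (s2 := false) (s3 := false) _ blk_one
      exact blk_of hz h1 h1' h2 h2' h3 h3' ⟨by simpa using e1, by simpa using e2⟩
        ⟨by simpa using f1, by simpa using f2⟩ ⟨by simpa using e44, by simpa using z54⟩
    · right; right; left
      apply Blk.eq (s1 := false) (s2 := true) (s3 := false) _ (blk_S2 hF)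
      exact blk_of hz h1 h1' h2 h2' h3 h3' ⟨by simpa using e1, by simpa using e2⟩
        ⟨by simpa using f1, by simpa using f2⟩ ⟨by simpa using e44, by simpa using z54⟩
  · rcases X_pair hF hx (j := 2) (k := 3) (by decide) (fun i hi hi' => hz i 2 (by
      revert hi hi'; revert i; decide)) h2 with ⟨f1, f2⟩ | ⟨f1, f2⟩
    · right; left
      apply Blk.eq (s1 := true) (s2 := false) (s3 := false) _ (blk_S1 hF)
      exact blk_of hz h1 h1' h2 h2' h3 h3' ⟨by simpa using e1, by simpa using e2⟩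
        ⟨by simpa using f1, by simpa using f2⟩ ⟨by simpa using e44, by simpa using z54⟩
    · right; right; right
      apply Blk.eq (s1 := true) (s2 := true) (s3 := false) _ (blk_S12 hF)
      exact blk_of hz h1 h1' h2 h2' h3 h3' ⟨by simpa using e1, by simpa using e2⟩
        ⟨by simpa using f1, by simpa using f2⟩ ⟨by simpa using e44, by simpa using z54⟩

/-- rank one -/
theorem rank_one (hc : x * S1 hF = S1 hF * x)
    (H : ∀ d : SU 6 F 2, d ^ 3 = 1 → d * S1 hF = S1 hF * d → x * d = d * x) :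
    x = 1 ∨ x = S1 hF := by
  obtain ⟨w, v, w1, v1, vw, w3, v3, wv, -, -⟩ := exists_w hF
  have hd : ∏ i, (![1, 1, w, v, 1, 1] : Fin 6 → F) i = 1 := by
    rw [prod_six]
    show 1 * 1 * w * v * 1 * 1 = (1 : F)
    linear_combination wv
  have hl : ∀ i, (![1, 1, w, v, 1, 1] : Fin 6 → F) i ^ 3 = 1 := by
    intro i
    fin_cases i <;> simp [w3, v3]
  have hd' : ∏ i, (![1, 1, 1, 1, w, v] : Fin 6 → F) i = 1 := by
    rw [prod_six]
    show 1 * 1 * 1 * 1 * w * v = (1 : F)
    linear_combination wv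
  have hl' : ∀ i, (![1, 1, 1, 1, w, v] : Fin 6 → F) i ^ 3 = 1 := by
    intro i
    fin_cases i <;> simp [w3, v3]
  have hxd := H (dg _ hd hl) (dg_pow_three _ hd hl) (dg_S1 hF rfl)
  have hxd' := H (dg _ hd' hl') (dg_pow_three _ hd' hl') (dg_S1 hF rfl)
  have hz' : ∀ i j : Fin 6, i ≠ j → ¬ (i = 0 ∧ j = 1) → ¬ (i = 1 ∧ j = 0) → X x i j = 0 := by
    intro i j hij h01 h10
    by_cases h : (![1, 1, w, v, 1, 1] : Fin 6 → F) i = (![1, 1, w, v, 1, 1] : Fin 6 → F) j
    · apply X_eq_zero hxd'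
      revert hij h01 h10 h
      fin_cases i <;> fin_cases j <;> simp [w1, w1.symm, v1, v1.symm, vw, vw.symm]
    · exact X_eq_zero hxd h
  have hz : ∀ i j : Fin 6, (i : ℕ) / 2 ≠ (j : ℕ) / 2 → X x i j = 0 := by
    intro i j hij
    apply hz'
    · rintro rfl; exact hij rfl
    · rintro ⟨rfl, rfl⟩; exact hij rfl
    · rintro ⟨rfl, rfl⟩; exact hij rfl
  have ed : ∀ j : Fin 6, j ≠ 0 → j ≠ 1 → X x j j = 1 := by
    intro j h0 h1
    apply X_diag hF hx
    intro i hi
    exact hz' i j hi (fun h => h1 h.2) (fun h => h0 h.2)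
  obtain ⟨h1, -, -⟩ := X_blk (blk_S1 hF) hc
  obtain ⟨h1, h1'⟩ := h1 rfl
  have z32 : X x 3 2 = 0 := hz' _ _ (by decide) (by decide) (by decide)
  have z23 : X x 2 3 = 0 := hz' _ _ (by decide) (by decide) (by decide)
  have z54 : X x 5 4 = 0 := hz' _ _ (by decide) (by decide) (by decide)
  have z45 : X x 4 5 = 0 := hz' _ _ (by decide) (by decide) (by decide)
  have h2 : X x 2 3 = X x 3 2 := by rw [z23, z32]
  have h2' : X x 3 3 = X x 2 2 := by rw [ed 3 (by decide) (by decide), ed 2 (by decide) (by decide)]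
  have h3 : X x 4 5 = X x 5 4 := by rw [z45, z54]
  have h3' : X x 5 5 = X x 4 4 := by rw [ed 5 (by decide) (by decide), ed 4 (by decide) (by decide)]
  have f2 := ed 2 (by decide) (by decide)
  have f4 := ed 4 (by decide) (by decide)
  rcases X_pair hF hx (j := 0) (k := 1) (by decide) (fun i hi hi' => hz i 0 (by
    revert hi hi'; revert i; decide)) h1 with ⟨e1, e2⟩ | ⟨e1, e2⟩
  · left
    apply Blk.eq (s1 := false) (s2 := false) (s3 := false) _ blk_one
    exact blk_of hz h1 h1' h2 h2' h3 h3' ⟨by simpa using e1, by simpa using e2⟩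
      ⟨by simpa using f2, by simpa using z32⟩ ⟨by simpa using f4, by simpa using z54⟩
  · right
    apply Blk.eq (s1 := true) (s2 := false) (s3 := false) _ (blk_S1 hF)
    exact blk_of hz h1 h1' h2 h2' h3 h3' ⟨by simpa using e1, by simpa using e2⟩
      ⟨by simpa using f2, by simpa using z32⟩ ⟨by simpa using f4, by simpa using z54⟩

end K

/-- an involution up to conjugacy -/
theorem exists_conj {a : PSU 6 F 2} (ha : a * a = 1) (ha1 : a ≠ 1) :
    ∃ g : PSU 6 F 2, g * a * g⁻¹ = pr 6 F 2 (S1 hF) ∨ g * a * g⁻¹ = pr 6 F 2 (S1 hF * S2 hF) ∨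
      g * a * g⁻¹ = pr 6 F 2 (S1 hF * S2 hF * S3 hF) := by
  obtain ⟨x, hx, rfl⟩ := exists_lift_sq hF ha
  have conjT : ∀ (g : SU 6 F 2) (u u' : Fin 6 → F) (hu : hermForm 6 F 2 u u = 0)
      (hu' : hermForm 6 F 2 u' u' = 0) (c : F), c ≠ 0 → act g u = c • u' →
      g * T hF u hu * g⁻¹ = T hF u' hu' := by
    intro g u u' hu hu' c hc h
    have hcu : hermForm 6 F 2 (c • u') (c • u') = 0 := herm_smul_self hF hu' c
    have hgu : hermForm 6 F 2 (act g u) (act g u) = 0 := by rw [h]; exact hcu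
    rw [conj_T hF g u hu hgu, ← T_smul hF c hc u' hu' hcu]
    congr 1
  have hS := fr3_std (F := F) hF
  rcases inv_form_SU hF hx with h | ⟨u, hu, hu0, h⟩ | ⟨u, v, hf, h⟩ | ⟨u, v, w, hf, h⟩
  · exfalso; apply ha1; rw [h, map_one]
  · obtain ⟨g, c, hc, hg⟩ := exists_map hF u _ hu0 hS.u_ne hu hS.uu
    refine ⟨pr 6 F 2 g, Or.inl ?_⟩
    rw [h, ← map_inv, ← map_mul, ← map_mul, conjT g u _ hu hS.uu c hc hg]
    rfl
  · obtain ⟨g1, a, ha, hg1⟩ := exists_map hF u _ hf.u_ne hS.u_ne hf.uu hS.uu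
    have k1 : hermForm 6 F 2 (act g1 v) (act g1 v) = 0 := by rw [herm_act, hf.vv]
    have k2 : hermForm 6 F 2 (act g1 v) ![1, 1, 0, 0, 0, 0] = 0 := by
      have h3 : hermForm 6 F 2 (act g1 v) (act g1 u) = 0 := by
        rw [herm_act]; exact herm_eq_zero_swap hF hf.uv
      rw [hg1, herm_smul_right] at h3
      exact (mul_eq_zero.1 h3).resolve_left (pow_ne_zero _ ha)
    have k3 : ¬ ∃ c : F, act g1 v = c • (![1, 1, 0, 0, 0, 0] : Fin 6 → F) := by
      rintro ⟨c, hc⟩
      apply hf.not_mul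
      refine ⟨c * a⁻¹, act_injective g1 ?_⟩
      rw [hc, act_smul, hg1, smul_smul, mul_assoc, inv_mul_cancel₀ ha, mul_one]
    obtain ⟨g2, hg2, b, hb, hg2v⟩ := trans_perp hF hS.u_ne k1 hS.vv k2
      (herm_eq_zero_swap hF hS.uv) k3 hS.fr2.not_mul hS.uu
    have hg2u : act g2 ![1, 1, 0, 0, 0, 0] = ![1, 1, 0, 0, 0, 0] := act_of_mem_Ru hF hg2
    refine ⟨pr 6 F 2 (g2 * g1), Or.inr (Or.inl ?_)⟩
    have e1 := conjT (g2 * g1) u _ hf.uu hS.uu a ha (by rw [act_mul, hg1, act_smul, hg2u])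
    have e2 := conjT (g2 * g1) v _ hf.vv hS.vv b hb (by rw [act_mul, hg2v])
    rw [h, ← map_inv, ← map_mul, ← map_mul]
    congr 1
    calc g2 * g1 * (T hF u hf.uu * T hF v hf.vv) * (g2 * g1)⁻¹ =
        (g2 * g1 * T hF u hf.uu * (g2 * g1)⁻¹) * (g2 * g1 * T hF v hf.vv * (g2 * g1)⁻¹) := by group
      _ = S1 hF * S2 hF := by rw [e1, e2]; rfl
  · obtain ⟨g, a, b, c, ha, hb, hc, hgu, hgv, hgw⟩ := trans_frames_SU hF hf hS
    refine ⟨pr 6 F 2 g, Or.inr (Or.inr ?_)⟩
    rw [h, ← map_inv, ← map_mul, ← map_mul]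
    congr 1
    calc g * (T hF u hf.uu * T hF v hf.vv * T hF w hf.ww) * g⁻¹ =
        (g * T hF u hf.uu * g⁻¹) * (g * T hF v hf.vv * g⁻¹) * (g * T hF w hf.ww * g⁻¹) := by group
      _ = S1 hF * S2 hF * S3 hF := by
        rw [conjT g u _ hf.uu hS.uu a ha hgu, conjT g v _ hf.vv hS.vv b hb hgv,
          conjT g w _ hf.ww hS.ww c hc hgw]
        rfl

/-- `S2` is conjugate to `S1` -/
theorem S2_conj : ∃ g : SU 6 F 2, g * S2 hF * g⁻¹ = S1 hF := by
  have hS := fr3_std (F := F) hF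
  obtain ⟨g, c, hc, hg⟩ := exists_map hF _ _ hS.v_ne hS.u_ne hS.vv hS.uu
  refine ⟨g, ?_⟩
  have hcu := herm_smul_self hF hS.uu c
  have hgu : hermForm 6 F 2 (act g ![0, 0, 1, 1, 0, 0]) (act g ![0, 0, 1, 1, 0, 0]) = 0 := by
    rw [hg]; exact hcu
  have h1 := conj_T hF g _ hS.vv hgu
  have h2 := T_smul hF c hc _ hS.uu hcu
  unfold S1 S2
  rw [h1, ← h2]
  congr 1

/-- the odd centraliser of the involution `pr A` forces the shape -/
theorem lift_data (hF : Fintype.card F = 2 ^ 2) {A : SU 6 F 2} {b : PSU 6 F 2} (hb : b * b = 1)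
    (hab : pr 6 F 2 A * b = b * pr 6 F 2 A)
    (H : ∀ x : PSU 6 F 2, Odd (orderOf x) → x * pr 6 F 2 A = pr 6 F 2 A * x → x * b = b * x) :
    ∃ x : SU 6 F 2, x * x = 1 ∧ pr 6 F 2 x = b ∧ x * A = A * x ∧
      ∀ d : SU 6 F 2, d ^ 3 = 1 → d * A = A * d → x * d = d * x := by
  obtain ⟨x, hx, rfl⟩ := exists_lift_sq hF hb
  refine ⟨x, hx, rfl, comm_of_pr hF hx hab.symm, fun d hd hdA => ?_⟩
  apply comm_of_pr hF hx
  symm
  apply H
  · have h1 : (pr 6 F 2 d) ^ 3 = 1 := by rw [← map_pow, hd, map_one]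
    have h2 := orderOf_dvd_of_pow_eq_one h1
    exact Odd.of_dvd_nat (by decide) h2
  · rw [← map_mul, ← map_mul, hdA]

theorem core {a b : PSU 6 F 2} (ha : a * a = 1) (ha1 : a ≠ 1) (hb : b * b = 1) (hab : a * b = b * a)
    (H : ∀ x : PSU 6 F 2, Odd (orderOf x) → x * a = a * x → x * b = b * x) :
    (b = 1 ∨ b = a) ∨ (∃ g, g * b * g⁻¹ = pr 6 F 2 (S1 hF)) ∧
      ¬ ∃ g, g * a * g⁻¹ = pr 6 F 2 (S1 hF) := by
  -- conjugation
  have hH : ∀ g : PSU 6 F 2, ∀ x : PSU 6 F 2, Odd (orderOf x) → x * (g * a * g⁻¹) = g * a * g⁻¹ * x →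
      x * (g * b * g⁻¹) = g * b * g⁻¹ * x := by
    intro g x hx h
    have h1 : g⁻¹ * x * g * a = a * (g⁻¹ * x * g) := by
      calc g⁻¹ * x * g * a = g⁻¹ * (x * (g * a * g⁻¹)) * g := by group
        _ = g⁻¹ * (g * a * g⁻¹ * x) * g := by rw [h]
        _ = a * (g⁻¹ * x * g) := by group
    have h2 : orderOf (g⁻¹ * x * g) = orderOf x := by
      have := orderOf_injective (MulAut.conj g⁻¹).toMonoidHom (MulAut.conj g⁻¹).injective x
      rw [← this]
      congr 1
      simp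
    have h3 := H (g⁻¹ * x * g) (by rw [h2]; exact hx) h1
    calc x * (g * b * g⁻¹) = g * ((g⁻¹ * x * g) * b) * g⁻¹ := by group
      _ = g * (b * (g⁻¹ * x * g)) * g⁻¹ := by rw [h3]
      _ = g * b * g⁻¹ * x := by group
  have hcomm : ∀ g : PSU 6 F 2, g * a * g⁻¹ * (g * b * g⁻¹) = g * b * g⁻¹ * (g * a * g⁻¹) := by
    intro g
    calc g * a * g⁻¹ * (g * b * g⁻¹) = g * (a * b) * g⁻¹ := by group
      _ = g * (b * a) * g⁻¹ := by rw [hab]
      _ = g * b * g⁻¹ * (g * a * g⁻¹) := by group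
  have hsq : ∀ g : PSU 6 F 2, g * b * g⁻¹ * (g * b * g⁻¹) = 1 := by
    intro g
    calc g * b * g⁻¹ * (g * b * g⁻¹) = g * (b * b) * g⁻¹ := by group
      _ = 1 := by rw [hb]; group
  have back1 : ∀ g : PSU 6 F 2, g * b * g⁻¹ = 1 → b = 1 := by
    intro g h
    calc b = g⁻¹ * (g * b * g⁻¹) * g := by group
      _ = 1 := by rw [h]; group
  have backa : ∀ g : PSU 6 F 2, g * b * g⁻¹ = g * a * g⁻¹ → b = a := by
    intro g h
    calc b = g⁻¹ * (g * b * g⁻¹) * g := by group
      _ = a := by rw [h]; group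
  have r1 : (∃ g, g * a * g⁻¹ = pr 6 F 2 (S1 hF)) → b = 1 ∨ b = a := by
    rintro ⟨g, hg⟩
    obtain ⟨x, hx, hxb, hxA, hxd⟩ := lift_data hF (A := S1 hF) (hsq g) (by rw [← hg]; exact hcomm g)
      (fun x hx h => hH g x hx (by rw [hg]; exact h))
    rcases rank_one hF hx hxA hxd with h | h
    · left; apply back1 g; rw [← hxb, h, map_one]
    · right; apply backa g; rw [← hxb, h, hg]
  by_cases hr : ∃ g, g * a * g⁻¹ = pr 6 F 2 (S1 hF)
  · exact Or.inl (r1 hr)
  obtain ⟨g, hg | hg | hg⟩ := exists_conj hF ha ha1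
  · exact absurd ⟨g, hg⟩ hr
  · obtain ⟨x, hx, hxb, hxA, hxd⟩ := lift_data hF (A := S1 hF * S2 hF) (hsq g)
      (by rw [← hg]; exact hcomm g) (fun x hx h => hH g x hx (by rw [hg]; exact h))
    rcases rank_two hF hx hxA hxd with h | h | h | h
    · left; left; apply back1 g; rw [← hxb, h, map_one]
    · right; exact ⟨⟨g, by rw [← hxb, h]⟩, hr⟩
    · right
      obtain ⟨k, hk⟩ := S2_conj (F := F) hF
      refine ⟨⟨pr 6 F 2 k * g, ?_⟩, hr⟩
      calc pr 6 F 2 k * g * b * (pr 6 F 2 k * g)⁻¹ =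
          pr 6 F 2 k * (g * b * g⁻¹) * (pr 6 F 2 k)⁻¹ := by group
        _ = pr 6 F 2 (k * S2 hF * k⁻¹) := by rw [← hxb, h, map_mul, map_mul, map_inv]
        _ = pr 6 F 2 (S1 hF) := by rw [hk]
    · left; right; apply backa g; rw [← hxb, h, hg]
  · obtain ⟨x, hx, hxb, hxA, hxd⟩ := lift_data hF (A := S1 hF * S2 hF * S3 hF) (hsq g)
      (by rw [← hg]; exact hcomm g) (fun x hx h => hH g x hx (by rw [hg]; exact h))
    rcases rank_three hF hx hxA hxd with h | h
    · left; left; apply back1 g; rw [← hxb, h, map_one]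
    · left; right; apply backa g; rw [← hxb, h, hg]

/-- **`PSU 6 F 2` has no tied pair** -/
theorem not_tied (hF : Fintype.card F = 2 ^ 2) : ¬ Tied (PSU 6 F 2) := by
  rintro ⟨a, b, ha, hb, ha1, hb1, hne, hab, H⟩
  rcases core hF ha ha1 hb hab (fun x hx h => (H x hx (Or.inl h)).2) with h | ⟨h, h'⟩
  · rcases h with h | h
    · exact hb1 h
    · exact hne h.symm
  rcases core hF hb hb1 ha hab.symm (fun x hx h => (H x hx (Or.inr (Or.inl h))).1) with h2 | ⟨h2, -⟩
  · rcases h2 with h2 | h2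
    · exact ha1 h2
    · exact hne h2
  · exact h' h2

end Std

end Cfsg.Agent.OddHalf.D9.GamUSix
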