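import Cfsg.Agent.OddHalf.D9.LemmaW

/-!
# The hypothesis `hGamma` of `LemmaW.standard_list` (helper919)

`Tied X`: two commuting involutions `a ≠ b` of `X` such that for each `w ∈ {a, b, ab}` the elements of odd
order commuting with `w` commute with `a` and `b`.

`tied`: a four-group `U` of inner automorphisms of `K` with `C_K(u) ≤ N(U)` for all `u ∈ U#` gives
`Tied (K / Z(K))`. `standard_list_of_not_tied`: LEMMA W with `¬ Tied (K / Z(K))`.
-/

set_option autoImplicit false

namespace Cfsg.Agent.OddHalf.D9.Gamma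

open Subgroup

universe u

/-- two commuting involutions, tied together by the elements of odd order centralising one of them -/
def Tied (X : Type*) [Group X] : Prop :=
  ∃ a b : X, a * a = 1 ∧ b * b = 1 ∧ a ≠ 1 ∧ b ≠ 1 ∧ a ≠ b ∧ a * b = b * a ∧
    ∀ x : X, Odd (orderOf x) → (x * a = a * x ∨ x * b = b * x ∨ x * (a * b) = a * b * x) →
      x * a = a * x ∧ x * b = b * x

theorem Tied.of_equiv {X Y : Type*} [Group X] [Group Y] (e : X ≃* Y) (h : Tied X) : Tied Y := by
  obtain ⟨a, b, ha, hb, ha1, hb1, hab, hc, H⟩ := h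
  refine ⟨e a, e b, by rw [← map_mul, ha, map_one], by rw [← map_mul, hb, map_one],
    fun h => ha1 (e.injective (h.trans (map_one e).symm)),
    fun h => hb1 (e.injective (h.trans (map_one e).symm)), fun h => hab (e.injective h),
    by rw [← map_mul, hc, map_mul], ?_⟩
  intro y hy hyw
  obtain ⟨x, rfl⟩ := e.surjective y
  rw [MulEquiv.orderOf_eq e x] at hy
  have hyw' : x * a = a * x ∨ x * b = b * x ∨ x * (a * b) = a * b * x := by
    rcases hyw with h | h | h
    · exact Or.inl (e.injective (by rw [map_mul, map_mul, h]))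
    · exact Or.inr (Or.inl (e.injective (by rw [map_mul, map_mul, h])))
    · exact Or.inr (Or.inr (e.injective (by simpa only [map_mul] using h)))
  obtain ⟨h1, h2⟩ := H x hy hyw'
  exact ⟨by rw [← map_mul, h1, map_mul], by rw [← map_mul, h2, map_mul]⟩

/-- in a group of order four of involutions -/
theorem four_eq {G : Type*} [Group G] {U : Subgroup G} (hel : ∀ u ∈ U, u * u = 1)
    (hcard : Nat.card U = 4) {a b : G} (ha : a ∈ U) (hb : b ∈ U) (ha1 : a ≠ 1) (hb1 : b ≠ 1)
    (hab : a ≠ b) {z : G} (hz : z ∈ U) : z = 1 ∨ z = a ∨ z = b ∨ z = a * b := by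
  by_contra hcon
  push Not at hcon
  obtain ⟨h1, h2, h3, h4⟩ := hcon
  have hfin : Finite U := Nat.finite_of_card_ne_zero (by rw [hcard]; norm_num)
  have hne : a * b ≠ 1 := by
    intro h
    apply hab
    have h5 : a * a = a * b := by rw [hel a ha, h]
    exact mul_left_cancel h5
  have hsub : ({1, a, b, a * b, z} : Set G) ⊆ (U : Set G) := by
    intro w hw
    simp only [Set.mem_insert_iff, Set.mem_singleton_iff] at hw
    rcases hw with rfl | rfl | rfl | rfl | rfl
    · exact U.one_mem
    · exact ha
    · exact hb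
    · exact U.mul_mem ha hb
    · exact hz
  have hle := Set.ncard_le_ncard hsub (Set.toFinite _)
  have h5 : ({1, a, b, a * b, z} : Set G).ncard = 5 := by
    rw [Set.ncard_insert_of_notMem, Set.ncard_insert_of_notMem, Set.ncard_insert_of_notMem,
      Set.ncard_insert_of_notMem, Set.ncard_singleton]
    · simpa using fun hc => h4 hc.symm
    · simp only [Set.mem_insert_iff, Set.mem_singleton_iff, not_or]
      refine ⟨fun hc => ha1 ?_, fun hc => h3 hc.symm⟩
      have : 1 * b = a * b := by rw [one_mul]; exact hc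
      exact (mul_right_cancel this).symm
    · simp only [Set.mem_insert_iff, Set.mem_singleton_iff, not_or]
      refine ⟨hab, fun hc => hb1 ?_, fun hc => h2 hc.symm⟩
      have : a * 1 = a * b := by rw [mul_one]; exact hc
      exact (mul_left_cancel this).symm
    · simp only [Set.mem_insert_iff, Set.mem_singleton_iff, not_or]
      exact ⟨fun hc => ha1 hc.symm, fun hc => hb1 hc.symm, fun hc => hne hc.symm,
        fun hc => h1 hc.symm⟩
  have h6 : (U : Set G).ncard = 4 := by rw [← hcard]; rfl
  omega

/-- two different involutions of a four-group -/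
theorem exists_two {G : Type*} [Group G] {U : Subgroup G} (hcard : Nat.card U = 4) (a : G) :
    ∃ b ∈ U, b ≠ 1 ∧ b ≠ a := by
  by_contra hcon
  push Not at hcon
  have hsub : (U : Set G) ⊆ ({1, a} : Set G) := by
    intro y hy
    by_cases h1 : y = 1
    · simp [h1]
    · simp [hcon y hy h1]
  have hle : (U : Set G).ncard ≤ ({1, a} : Set G).ncard :=
    Set.ncard_le_ncard hsub (Set.toFinite _)
  have h2 : ({1, a} : Set G).ncard ≤ 2 := Set.ncard_insert_le _ _ |>.trans (by simp)
  have h3 : (U : Set G).ncard = 4 := by rw [← hcard]; rfl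
  omega

/-- an element of odd order modulo the centraliser of `v` whose square centralises `v` -/
theorem comm_of_sq {G : Type*} [Group G] {y v : G} {n : ℕ} (hn : Odd n)
    (h2 : y ^ 2 * v = v * y ^ 2) (hy : y ^ n * v = v * y ^ n) : y * v = v * y := by
  obtain ⟨k, hk⟩ := hn
  have h3 : Commute (y ^ 2) v := h2
  have h4 : Commute (y ^ n) v := hy
  have h5 : y = ((y ^ 2) ^ k)⁻¹ * y ^ n := by
    rw [hk, ← pow_mul, pow_succ, inv_mul_cancel_left]
  rw [h5]
  exact ((h3.pow_left k).inv_left.mul_left h4).eq

section Lift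

variable {G : Type*} [Group G] {K : Subgroup G}

/-- an inner involution commuting modulo the centre with an element of odd order commutes with it -/
theorem comm_of_mk {y k : K} {u c : G} (hu : u * u = 1) (huk : u = k * c)
    (hc : c ∈ centralizer (K : Set G))
    (hyk : (QuotientGroup.mk y : K ⧸ center K) * QuotientGroup.mk k =
      QuotientGroup.mk k * QuotientGroup.mk y)
    {n : ℕ} (hn : Odd n) (hy : y ^ n ∈ center K) : (y : G) * u = u * y := by
  have hcK : ∀ x : K, c * (x : G) = x * c := fun x => (mem_centralizer_iff.1 hc x x.2).symm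
  have hz : (y * k)⁻¹ * (k * y) ∈ center K := by
    rw [← QuotientGroup.eq]
    exact hyk
  set z : K := (y * k)⁻¹ * (k * y) with hzdef
  have hky : k * y = y * k * z := by rw [hzdef]; group
  have hzK : ∀ x : K, x * z = z * x := fun x => mem_center_iff.1 hz x
  have huz : u * (z : G) = z * u := by
    rw [huk]
    have h1 : (k : G) * z = z * k := by
      have := congrArg Subtype.val (hzK k)
      exact this
    calc (k : G) * c * z = k * (c * z) := by group
      _ = (k * z) * c := by rw [hcK]; group
      _ = z * (k * c) := by rw [h1]; group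
  have huy : u * y = y * u * z := by
    have h1 : (k : G) * y = y * k * z := congrArg Subtype.val hky
    have h2 : (k : G) * z = z * k := congrArg Subtype.val (hzK k)
    calc u * y = k * (c * y) := by rw [huk]; group
      _ = k * y * c := by rw [hcK]; group
      _ = y * k * (z * c) := by rw [h1]; group
      _ = y * (k * c) * z := by rw [← hcK z]; group
      _ = y * u * z := by rw [← huk]
  have hyz : (y : G) * z = z * y := congrArg Subtype.val (hzK y)
  have hui : u⁻¹ = u := inv_eq_of_mul_eq_one_left hu
  have hz2 : (z : G) * z = 1 := by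
    have h1 : u * (u * y) = y * z * z := by
      calc u * (u * y) = u * (y * u * z) := by rw [huy]
        _ = (u * y) * (u * z) := by group
        _ = y * u * z * (u * z) := by rw [huy]
        _ = y * u * (z * u) * z := by group
        _ = y * u * (u * z) * z := by rw [huz]
        _ = y * (u * u) * z * z := by group
        _ = y * z * z := by rw [hu]; group
    have h2 : u * (u * y) = y := by rw [← mul_assoc, hu, one_mul]
    have h3 : (y : G) * (z * z) = y * 1 := by rw [← mul_assoc, ← h1, h2, mul_one]
    exact mul_left_cancel h3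
  have hpow : ∀ m : ℕ, u * (y : G) ^ m = y ^ m * z ^ m * u := by
    intro m
    induction m with
    | zero => simp
    | succ m ih =>
      have hc1 : Commute (y : G) (z : G) := hyz
      calc u * (y : G) ^ (m + 1) = (u * y ^ m) * y := by rw [pow_succ]; group
        _ = y ^ m * z ^ m * (u * y) := by rw [ih]; group
        _ = y ^ m * z ^ m * (y * (u * z)) := by rw [huy]; group
        _ = y ^ m * (z ^ m * y) * (z * u) := by rw [huz]; group
        _ = y ^ m * (y * z ^ m) * (z * u) := by rw [(hc1.pow_right m).eq]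
        _ = y ^ (m + 1) * z ^ (m + 1) * u := by rw [pow_succ, pow_succ]; group
  have hyn : u * (y : G) ^ n = y ^ n * u := by
    have h1 : (k : G) * y ^ n = y ^ n * k := by
      have := congrArg Subtype.val (mem_center_iff.1 hy k)
      simpa using this
    have h2 : c * (y : G) ^ n = y ^ n * c := by
      have := hcK (y ^ n)
      simpa using this
    calc u * (y : G) ^ n = k * (c * y ^ n) := by rw [huk]; group
      _ = (k * y ^ n) * c := by rw [h2]; group
      _ = y ^ n * (k * c) := by rw [h1]; group
      _ = y ^ n * u := by rw [← huk]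
  have hzn : (z : G) ^ n = 1 := by
    have h1 := (hpow n).symm.trans hyn
    have h2 : (y : G) ^ n * (z ^ n * u) = y ^ n * (1 * u) := by
      rw [← mul_assoc, h1, one_mul]
    exact mul_right_cancel (mul_left_cancel h2)
  have hz1 : (z : G) = 1 := by
    obtain ⟨m, hm⟩ := hn
    rw [hm, pow_succ, pow_mul, pow_two, hz2, one_pow, one_mul] at hzn
    exact hzn
  rw [huy, hz1, mul_one]

/-- **the four-group is tied** -/
theorem tied {U : Subgroup G} (hel : ∀ u ∈ U, u * u = 1) (hcard : Nat.card U = 4)
    (hUC : U ⊓ centralizer (K : Set G) = ⊥)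
    (hin : ∀ u ∈ U, ∃ k ∈ K, ∃ c ∈ centralizer (K : Set G), u = k * c)
    (hN : ∀ u ∈ U, u ≠ 1 → ∀ k ∈ K, k * u = u * k → k ∈ normalizer (U : Set G)) :
    Tied (K ⧸ center K) := by
  obtain ⟨u, hu, hu1, -⟩ := exists_two hcard 1
  obtain ⟨v, hv, hv1, hvu⟩ := exists_two hcard u
  obtain ⟨k, hk, c, hc, huk⟩ := hin u hu
  obtain ⟨l, hl, d, hd, hvl⟩ := hin v hv
  have hcK : ∀ x ∈ K, c * x = x * c := fun x hx => (mem_centralizer_iff.1 hc x hx).symm
  have hdK : ∀ x ∈ K, d * x = x * d := fun x hx => (mem_centralizer_iff.1 hd x hx).symm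
  have huv : u * v = v * u := by
    have h1 := hel (u * v) (U.mul_mem hu hv)
    have h2 : (u * v)⁻¹ = u * v := inv_eq_of_mul_eq_one_left h1
    rw [← h2, mul_inv_rev, inv_eq_of_mul_eq_one_left (hel u hu),
      inv_eq_of_mul_eq_one_left (hel v hv)]
  have huv1 : u * v ≠ 1 := by
    intro h
    apply hvu
    have h5 : u * v = u * u := by rw [hel u hu, h]
    exact mul_left_cancel h5
  have notC : ∀ w ∈ U, w ≠ 1 → w ∉ centralizer (K : Set G) := by
    intro w hw hw1 hwC
    have : w ∈ U ⊓ centralizer (K : Set G) := ⟨hw, hwC⟩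
    rw [hUC] at this
    exact hw1 (mem_bot.1 this)
  -- an inner element is in the centraliser if its `K`-part is central
  have cen : ∀ (w k' c' : G) (hk' : k' ∈ K), c' ∈ centralizer (K : Set G) → w = k' * c' →
      (⟨k', hk'⟩ : K) ∈ center K → w ∈ centralizer (K : Set G) := by
    intro w k' c' hk' hc' hw hcen
    rw [mem_centralizer_iff]
    intro x hx
    have h1 : x * k' = k' * x := congrArg Subtype.val (mem_center_iff.1 hcen ⟨x, hx⟩)
    have h2 : x * c' = c' * x := mem_centralizer_iff.1 hc' x hx
    rw [hw, ← mul_assoc, h1, mul_assoc, h2, mul_assoc]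
  have hw : u * v = (k * l) * (c * d) := by
    rw [huk, hvl]
    calc k * c * (l * d) = k * (c * l) * d := by group
      _ = k * l * (c * d) := by rw [hcK l hl]; group
  have hcd : c * d ∈ centralizer (K : Set G) := mul_mem hc hd
  -- squares
  have sqc : ∀ (w k' c' : G) (hk' : k' ∈ K), c' ∈ centralizer (K : Set G) → w = k' * c' →
      w * w = 1 → (⟨k', hk'⟩ : K) * ⟨k', hk'⟩ ∈ center K := by
    intro w k' c' hk' hc' hw hww
    rw [mem_center_iff]
    intro x
    apply Subtype.ext
    show (x : G) * (k' * k') = k' * k' * x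
    have h2 : ∀ y ∈ K, y * c' = c' * y := fun y hy => mem_centralizer_iff.1 hc' y hy
    have h3 : k' * k' = (c' * c')⁻¹ := by
      rw [eq_inv_iff_mul_eq_one]
      calc k' * k' * (c' * c') = k' * (k' * c') * c' := by group
        _ = k' * (c' * k') * c' := by rw [h2 k' hk']
        _ = (k' * c') * (k' * c') := by group
        _ = 1 := by rw [← hw, hww]
    rw [h3]
    have h4 : (x : G) * (c' * c') = c' * c' * x := by
      rw [← mul_assoc, h2 x x.2, mul_assoc, h2 x x.2, mul_assoc]
    exact (show Commute (x : G) (c' * c') from h4).inv_right.eq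
  refine ⟨QuotientGroup.mk ⟨k, hk⟩, QuotientGroup.mk ⟨l, hl⟩, ?_, ?_, ?_, ?_, ?_, ?_, ?_⟩
  · rw [← QuotientGroup.mk_mul, QuotientGroup.eq_one_iff]
    exact sqc u k c hk hc huk (hel u hu)
  · rw [← QuotientGroup.mk_mul, QuotientGroup.eq_one_iff]
    exact sqc v l d hl hd hvl (hel v hv)
  · intro h
    rw [QuotientGroup.eq_one_iff] at h
    exact notC u hu hu1 (cen u k c hk hc huk h)
  · intro h
    rw [QuotientGroup.eq_one_iff] at h
    exact notC v hv hv1 (cen v l d hl hd hvl h)
  · intro h
    have h1 : (⟨k, hk⟩ : K) * ⟨l, hl⟩ ∈ center K := by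
      rw [← QuotientGroup.eq_one_iff, QuotientGroup.mk_mul, ← h, ← QuotientGroup.mk_mul,
        QuotientGroup.eq_one_iff]
      exact sqc u k c hk hc huk (hel u hu)
    exact notC (u * v) (U.mul_mem hu hv) huv1 (cen (u * v) (k * l) (c * d) (K.mul_mem hk hl) hcd hw h1)
  · rw [← QuotientGroup.mk_mul, ← QuotientGroup.mk_mul, QuotientGroup.eq, mem_center_iff]
    intro x
    apply Subtype.ext
    show (x : G) * ((k * l)⁻¹ * (l * k)) = (k * l)⁻¹ * (l * k) * x
    have h1 : (k * l)⁻¹ * (l * k) = (c * d) * (d * c)⁻¹ := by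
      rw [inv_mul_eq_iff_eq_mul, ← mul_assoc, ← mul_inv_eq_iff_eq_mul, inv_inv]
      calc l * k * (d * c) = l * (k * d) * c := by group
        _ = (l * d) * (k * c) := by rw [← hdK k hk]; group
        _ = v * u := by rw [← huk, ← hvl]
        _ = k * l * (c * d) := by rw [← huv, hw]
    rw [h1]
    have h2 : Commute (x : G) (c * d) := (mem_centralizer_iff.1 hcd x x.2)
    have h3 : Commute (x : G) (d * c) := (mem_centralizer_iff.1 (mul_mem hd hc) x x.2)
    exact (h2.mul_right h3.inv_right).eq
  · intro x hx hxw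
    obtain ⟨y, rfl⟩ := QuotientGroup.mk_surjective x
    set n := orderOf (QuotientGroup.mk y : K ⧸ center K) with hn
    have hyn : y ^ n ∈ center K := by
      rw [← QuotientGroup.eq_one_iff, QuotientGroup.mk_pow, hn, pow_orderOf_eq_one]
    -- `y` commutes with some `w ∈ U#`
    obtain ⟨w, hwU, hw1, hyw⟩ : ∃ w ∈ U, w ≠ 1 ∧ (y : G) * w = w * y := by
      rcases hxw with h | h | h
      · exact ⟨u, hu, hu1, comm_of_mk (k := ⟨k, hk⟩) (hel u hu) huk hc h hx hyn⟩
      · exact ⟨v, hv, hv1, comm_of_mk (k := ⟨l, hl⟩) (hel v hv) hvl hd h hx hyn⟩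
      · exact ⟨u * v, U.mul_mem hu hv, huv1, comm_of_mk (k := ⟨k, hk⟩ * ⟨l, hl⟩)
          (hel _ (U.mul_mem hu hv)) hw hcd (by rw [QuotientGroup.mk_mul]; exact h) hx hyn⟩
    have hyN := hN w hwU hw1 y y.2 hyw
    -- `y ^ n` centralises `U`
    have hynU : ∀ s ∈ U, (y : G) ^ n * s = s * y ^ n := by
      intro s hs
      obtain ⟨k', hk', c', hc', hsk⟩ := hin s hs
      have h1 : (k' : G) * (y : G) ^ n = y ^ n * k' := by
        have := congrArg Subtype.val (mem_center_iff.1 hyn ⟨k', hk'⟩)
        simpa using this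
      have h2 : (y : G) ^ n * c' = c' * y ^ n := by
        have := mem_centralizer_iff.1 hc' (y ^ n : K) (y ^ n).2
        simpa using this
      calc (y : G) ^ n * s = (y ^ n * k') * c' := by rw [hsk]; group
        _ = k' * (y ^ n * c') := by rw [← h1]; group
        _ = s * y ^ n := by rw [h2, hsk]; group
    -- `y` centralises `U`
    have hyU : ∀ s ∈ U, (y : G) * s = s * y := by
      intro s hs
      by_cases hs1 : s = 1
      · rw [hs1]; group
      by_cases hsw : s = w
      · rw [hsw]; exact hyw
      have hyi : ∀ x ∈ U, (y : G) * x * (y : G)⁻¹ ∈ U := fun x hx => (mem_normalizer_iff.1 hyN x).1 hx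
      have hws : w * s = s * w := by
        have h1 := hel (w * s) (U.mul_mem hwU hs)
        have h2 : (w * s)⁻¹ = w * s := inv_eq_of_mul_eq_one_left h1
        rw [← h2, mul_inv_rev, inv_eq_of_mul_eq_one_left (hel w hwU),
          inv_eq_of_mul_eq_one_left (hel s hs)]
      rcases four_eq hel hcard hwU hs hw1 hs1 (Ne.symm hsw) (hyi s hs) with h | h | h | h
      · exfalso
        apply hs1
        calc s = (y : G)⁻¹ * (y * s * (y : G)⁻¹) * y := by group
          _ = 1 := by rw [h]; group
      · exfalso
        apply hsw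
        calc s = (y : G)⁻¹ * (y * s * (y : G)⁻¹) * y := by group
          _ = (y : G)⁻¹ * (w * y) := by rw [h]; group
          _ = w := by rw [← hyw]; group
      · calc (y : G) * s = (y * s * (y : G)⁻¹) * y := by group
          _ = s * y := by rw [h]
      · apply comm_of_sq hx _ (hynU s hs)
        have h1 : (y : G) * s = w * s * y := by
          calc (y : G) * s = (y * s * (y : G)⁻¹) * y := by group
            _ = w * s * y := by rw [h]
        rw [pow_two]
        calc (y : G) * y * s = y * (y * s) := by group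
          _ = (y * w) * s * y := by rw [h1]; group
          _ = w * (y * s) * y := by rw [hyw]; group
          _ = (w * w) * s * (y * y) := by rw [h1]; group
          _ = s * (y * y) := by rw [hel w hwU, one_mul]
    -- back in the quotient
    have back : ∀ (s k' c' : G) (hk' : k' ∈ K), c' ∈ centralizer (K : Set G) → s = k' * c' →
        s ∈ U → (QuotientGroup.mk y : K ⧸ center K) * QuotientGroup.mk ⟨k', hk'⟩ =
          QuotientGroup.mk ⟨k', hk'⟩ * QuotientGroup.mk y := by
      intro s k' c' hk' hc' hsk hsU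
      rw [← QuotientGroup.mk_mul, ← QuotientGroup.mk_mul]
      congr 1
      apply Subtype.ext
      show (y : G) * k' = k' * y
      have h1 := hyU s hsU
      have h2 : (y : G) * c' = c' * y := mem_centralizer_iff.1 hc' y y.2
      have h3 : (y : G) * k' * c' = k' * y * c' := by
        calc (y : G) * k' * c' = y * s := by rw [hsk]; group
          _ = k' * (c' * y) := by rw [h1, hsk]; group
          _ = k' * y * c' := by rw [← h2]; group
      exact mul_right_cancel h3
    exact ⟨back u k c hk hc huk hu, back v l d hl hd hvl hv⟩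

end Lift

/-- LEMMA W with `¬ Tied (K / Z(K))` in place of `hGamma` -/
theorem standard_list_of_not_tied {G : Type u} [Group G] [Finite G] [IsSimpleGroup G]
    (h1179 : LemmaW.H1179.{u}) (hna : ¬ IsMulCommutative G) {K Z : Subgroup G}
    (hK : Cfsg.IsStandardSubgroup K) (hZc : Z ≤ Subgroup.centralizer (K : Set G))
    (hZn : Subgroup.normalizer (K : Set G) ≤ Subgroup.normalizer (Z : Set G))
    (hel : ∀ x ∈ Z, x * x = 1) (hcard : Nat.card Z = 4)
    (hin : ∀ u ∈ normalizer (K : Set G), u * u = 1 → (∀ z ∈ Z, u * z = z * u) →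
      ∃ k ∈ K, ∃ c ∈ centralizer (K : Set G), u = k * c)
    (hX : ¬ Tied (K ⧸ center K)) : LemmaW.List1179 G := by
  apply LemmaW.standard_list h1179 hna hK hZc hZn hel hcard
  intro U hU hU4 hUN hUC hUZ hUk
  exact hX (tied hU hU4 hUC (fun u hu => hin u (hUN hu) (hU u hu) (hUZ u hu)) hUk)

end Cfsg.Agent.OddHalf.D9.Gamma
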