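import Cfsg.Prelude.Def_Transfer
import Cfsg.Prelude.Def_Classical
import Cfsg.Prelude.Def_Exceptional
import Cfsg.Prelude.Def_Local
import Cfsg.Agent.S1754

/-!
# LEMMA W

A four-group `Z` which is TI and contains in its normaliser the centralisers of its
involutions: either `Z` is weakly closed in the centraliser of each of its involutions
(so that S1179 applies), or `Z` commutes with a conjugate `U ≠ Z`, and then every subgroup
normalised by ... satisfies `C_K(u) ≤ N_K(U)` for all `u ∈ U#`.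
-/

set_option autoImplicit false
open Cfsg

namespace Cfsg.Agent.OddHalf.D9.LemmaW

universe u

/-- A TI four-group containing in its normaliser the centralisers of its involutions. -/
structure Four {G : Type*} [Group G] (Z : Subgroup G) : Prop where
  el : ∀ x ∈ Z, x * x = 1
  card : Nat.card Z = 4
  cent : ∀ x ∈ Z, x ≠ 1 → Subgroup.centralizer ({x} : Set G) ≤ Subgroup.normalizer (Z : Set G)
  ti : ∀ g : G, ∀ x ∈ Z, x ≠ 1 → g * x * g⁻¹ ∈ Z → g ∈ Subgroup.normalizer (Z : Set G)

variable {G : Type*} [Group G]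

theorem mem_conj {Z : Subgroup G} {g x : G} :
    x ∈ Z.map (MulAut.conj g).toMonoidHom ↔ ∃ z ∈ Z, g * z * g⁻¹ = x := by
  simp [Subgroup.mem_map, MulAut.conj_apply]

theorem conj_eq_of_mem_normalizer {Z : Subgroup G} {g : G}
    (h : g ∈ Subgroup.normalizer (Z : Set G)) : Z.map (MulAut.conj g).toMonoidHom = Z := by
  ext x
  rw [mem_conj]
  rw [Subgroup.mem_normalizer_iff] at h
  constructor
  · rintro ⟨z, hz, rfl⟩
    exact (h z).mp hz
  · intro hx
    refine ⟨g⁻¹ * x * g, ?_, by group⟩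
    rw [h]
    have : g * (g⁻¹ * x * g) * g⁻¹ = x := by group
    rwa [this]

namespace Four

variable {Z : Subgroup G}

/-- `Four` is invariant under conjugation. -/
theorem conj (h : Four Z) (g : G) : Four (Z.map (MulAut.conj g).toMonoidHom) := by
  have hn : ∀ n : G, g⁻¹ * n * g ∈ Subgroup.normalizer (Z : Set G) →
      n ∈ Subgroup.normalizer ((Z.map (MulAut.conj g).toMonoidHom : Subgroup G) : Set G) := by
    intro n hn
    rw [Subgroup.mem_normalizer_iff] at hn ⊢
    have key : ∀ y : G, y ∈ Z.map (MulAut.conj g).toMonoidHom ↔ g⁻¹ * y * g ∈ Z := by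
      intro y
      rw [mem_conj]
      constructor
      · rintro ⟨z, hz, rfl⟩
        have : g⁻¹ * (g * z * g⁻¹) * g = z := by group
        rwa [this]
      · intro hy
        exact ⟨_, hy, by group⟩
    intro y
    show y ∈ Z.map (MulAut.conj g).toMonoidHom ↔ n * y * n⁻¹ ∈ Z.map (MulAut.conj g).toMonoidHom
    rw [key, key, hn]
    have : g⁻¹ * n * g * (g⁻¹ * y * g) * (g⁻¹ * n * g)⁻¹ = g⁻¹ * (n * y * n⁻¹) * g := by group
    rw [this]
  refine ⟨?_, ?_, ?_, ?_⟩
  · intro x hx
    obtain ⟨z, hz, rfl⟩ := mem_conj.mp hx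
    have := h.el z hz
    have h2 : g * z * g⁻¹ * (g * z * g⁻¹) = g * (z * z) * g⁻¹ := by group
    rw [h2, this]; group
  · rw [← h.card]
    exact Subgroup.card_map_of_injective (MulAut.conj g).injective
  · intro x hx hx1 c hc
    obtain ⟨z, hz, rfl⟩ := mem_conj.mp hx
    apply hn
    apply h.cent z hz (by rintro rfl; apply hx1; group)
    rw [Subgroup.mem_centralizer_singleton_iff] at hc ⊢
    have h1 : c * (g * z * g⁻¹) = g * z * g⁻¹ * c := hc
    calc g⁻¹ * c * g * z = g⁻¹ * (c * (g * z * g⁻¹)) * g := by group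
      _ = g⁻¹ * (g * z * g⁻¹ * c) * g := by rw [h1]
      _ = z * (g⁻¹ * c * g) := by group
  · intro c x hx hx1 hcx
    obtain ⟨z, hz, rfl⟩ := mem_conj.mp hx
    obtain ⟨z', hz', h'⟩ := mem_conj.mp hcx
    apply hn
    apply h.ti _ z hz (by rintro rfl; apply hx1; group)
    have : g⁻¹ * c * g * z * (g⁻¹ * c * g)⁻¹ = z' := by
      calc g⁻¹ * c * g * z * (g⁻¹ * c * g)⁻¹ = g⁻¹ * (c * (g * z * g⁻¹) * c⁻¹) * g := by group
        _ = g⁻¹ * (g * z' * g⁻¹) * g := by rw [h']
        _ = z' := by group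
    rwa [this]

/-- LEMMA W, the alternative to weak closure. -/
theorem alt (h : Four Z) {x : G} (hx : x ∈ Z) (hx1 : x ≠ 1) {g : G}
    (hg : Z.map (MulAut.conj g).toMonoidHom ≤ Subgroup.centralizer ({x} : Set G))
    (hne : Z.map (MulAut.conj g).toMonoidHom ≠ Z) :
    Z ⊓ Z.map (MulAut.conj g).toMonoidHom = ⊥ ∧
      ∀ u ∈ Z.map (MulAut.conj g).toMonoidHom, ∀ z ∈ Z, u * z = z * u := by
  set U : Subgroup G := Z.map (MulAut.conj g).toMonoidHom with hU
  have hUf : Four U := h.conj g
  have hbot : Z ⊓ U = ⊥ := by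
    rw [eq_bot_iff]
    rintro w ⟨hw1, hw2⟩
    rw [Subgroup.mem_bot]
    by_contra hw
    obtain ⟨z, hz, hzw⟩ := mem_conj.mp hw2
    apply hne
    apply conj_eq_of_mem_normalizer
    apply h.ti g z hz
    · rintro rfl
      apply hw
      rw [← hzw]; group
    · rw [hzw]; exact hw1
  refine ⟨hbot, ?_⟩
  have hfin : Finite Z := Nat.finite_of_card_ne_zero (by rw [h.card]; norm_num)
  have hfinU : Finite U := Nat.finite_of_card_ne_zero (by rw [hUf.card]; norm_num)
  have hUN : U ≤ Subgroup.normalizer (Z : Set G) := le_trans hg (h.cent x hx hx1)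
  -- an element `y` of `Z` outside `{1, x}`
  have hfour : ∀ {W : Subgroup G}, Nat.card W = 4 → ∀ a : G, ∃ y ∈ W, y ≠ 1 ∧ y ≠ a := by
    intro W hW a
    by_contra hcon
    push Not at hcon
    have hsub : (W : Set G) ⊆ ({1, a} : Set G) := by
      intro y hy
      by_cases h1 : y = 1
      · simp [h1]
      · simp [hcon y hy h1]
    have hle : (W : Set G).ncard ≤ ({1, a} : Set G).ncard :=
      Set.ncard_le_ncard hsub (Set.toFinite _)
    have h2 : ({1, a} : Set G).ncard ≤ 2 := Set.ncard_insert_le _ _ |>.trans (by simp)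
    have h3 : (W : Set G).ncard = 4 := by rw [← hW]; rfl
    omega
  obtain ⟨y, hy, hy1, hyx⟩ := hfour h.card x
  have hxy1 : x * y ≠ 1 := by
    intro hc
    apply hyx
    have : x * x = x * y := by rw [h.el x hx, hc]
    exact (mul_left_cancel this).symm
  have hall : ∀ z ∈ Z, z = 1 ∨ z = x ∨ z = y ∨ z = x * y := by
    intro z hz
    by_contra hcon
    push Not at hcon
    obtain ⟨h1, h2, h3, h4⟩ := hcon
    have hsub : ({1, x, y, x * y, z} : Set G) ⊆ (Z : Set G) := by
      intro w hw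
      simp only [Set.mem_insert_iff, Set.mem_singleton_iff] at hw
      rcases hw with rfl | rfl | rfl | rfl | rfl
      · exact Z.one_mem
      · exact hx
      · exact hy
      · exact Z.mul_mem hx hy
      · exact hz
    have hle := Set.ncard_le_ncard hsub (Set.toFinite _)
    have h5 : ({1, x, y, x * y, z} : Set G).ncard = 5 := by
      rw [Set.ncard_insert_of_notMem, Set.ncard_insert_of_notMem, Set.ncard_insert_of_notMem,
        Set.ncard_insert_of_notMem, Set.ncard_singleton]
      · simpa using fun hc => h4 hc.symm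
      · simp only [Set.mem_insert_iff, Set.mem_singleton_iff, not_or]
        refine ⟨fun hc => hx1 ?_, fun hc => h3 hc.symm⟩
        have : 1 * y = x * y := by rw [one_mul]; exact hc
        exact (mul_right_cancel this).symm
      · simp only [Set.mem_insert_iff, Set.mem_singleton_iff, not_or]
        refine ⟨fun hc => hyx hc.symm, fun hc => hy1 ?_, fun hc => h2 hc.symm⟩
        have : x * 1 = x * y := by rw [mul_one]; exact hc
        exact (mul_left_cancel this).symm
      · simp only [Set.mem_insert_iff, Set.mem_singleton_iff, not_or]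
        exact ⟨fun hc => hx1 hc.symm, fun hc => hy1 hc.symm, fun hc => hxy1 hc.symm,
          fun hc => h1 hc.symm⟩
    have h6 : (Z : Set G).ncard = 4 := by rw [← h.card]; rfl
    omega
  -- conjugation of `y` by elements of `U`
  have hcx : ∀ u ∈ U, u * x = x * u := by
    intro u hu
    have := hg hu
    rw [Subgroup.mem_centralizer_singleton_iff] at this
    exact this
  have hconj : ∀ u ∈ U, u * y * u⁻¹ = y ∨ u * y * u⁻¹ = x * y := by
    intro u hu
    have hmem : u * y * u⁻¹ ∈ Z := by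
      have := hUN hu
      rw [Subgroup.mem_normalizer_iff] at this
      exact (this y).mp hy
    rcases hall _ hmem with h1 | h1 | h1 | h1
    · exfalso; apply hy1
      calc y = u⁻¹ * (u * y * u⁻¹) * u := by group
        _ = 1 := by rw [h1]; group
    · exfalso; apply hyx
      calc y = u⁻¹ * (u * y * u⁻¹) * u := by group
        _ = u⁻¹ * x * u := by rw [h1]
        _ = u⁻¹ * (x * u) := by group
        _ = u⁻¹ * (u * x) := by rw [hcx u hu]
        _ = x := by group
    · exact Or.inl h1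
    · exact Or.inr h1
  -- some nontrivial `u ∈ U` commutes with `y`
  obtain ⟨u₁, hu₁, hu₁1, -⟩ := hfour hUf.card 1
  obtain ⟨u₂, hu₂, hu₂1, hu₁₂⟩ := hfour hUf.card u₁
  have hexu : ∃ u ∈ U, u ≠ 1 ∧ u * y * u⁻¹ = y := by
    rcases hconj u₁ hu₁ with h1 | h1
    · exact ⟨u₁, hu₁, hu₁1, h1⟩
    rcases hconj u₂ hu₂ with h2 | h2
    · exact ⟨u₂, hu₂, hu₂1, h2⟩
    refine ⟨u₁ * u₂, U.mul_mem hu₁ hu₂, ?_, ?_⟩
    · intro hc
      apply hu₁₂
      have h3 : u₁ * u₁ = u₁ * u₂ := by rw [hUf.el u₁ hu₁, hc]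
      exact (mul_left_cancel h3).symm
    · calc u₁ * u₂ * y * (u₁ * u₂)⁻¹ = u₁ * (u₂ * y * u₂⁻¹) * u₁⁻¹ := by group
        _ = u₁ * (x * y) * u₁⁻¹ := by rw [h2]
        _ = (u₁ * x) * y * u₁⁻¹ := by group
        _ = (x * u₁) * y * u₁⁻¹ := by rw [hcx u₁ hu₁]
        _ = x * (u₁ * y * u₁⁻¹) := by group
        _ = x * (x * y) := by rw [h1]
        _ = (x * x) * y := by group
        _ = y := by rw [h.el x hx, one_mul]
  obtain ⟨v, hv, hv1, hvy⟩ := hexu
  have hvy' : v * y = y * v := by
    calc v * y = (v * y * v⁻¹) * v := by group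
      _ = y * v := by rw [hvy]
  have hvZ : ∀ z ∈ Z, v * z = z * v := by
    intro z hz
    rcases hall z hz with rfl | rfl | rfl | rfl
    · group
    · exact hcx v hv
    · exact hvy'
    · calc v * (x * y) = (v * x) * y := by group
        _ = x * v * y := by rw [hcx v hv]
        _ = x * (v * y) := by group
        _ = x * y * v := by rw [hvy']; group
  have hZN : Z ≤ Subgroup.normalizer (U : Set G) := by
    intro z hz
    apply hUf.cent v hv hv1
    rw [Subgroup.mem_centralizer_singleton_iff]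
    exact (hvZ z hz).symm
  intro u hu z hz
  have hZ' : u * z * u⁻¹ ∈ Z := by
    have := hUN hu
    rw [Subgroup.mem_normalizer_iff] at this
    exact (this z).mp hz
  have hU' : z * u⁻¹ * z⁻¹ ∈ U := by
    have := hZN hz
    rw [Subgroup.mem_normalizer_iff] at this
    exact (this u⁻¹).mp (U.inv_mem hu)
  have hcomm : u * z * u⁻¹ * z⁻¹ ∈ Z ⊓ U :=
    ⟨Z.mul_mem hZ' (Z.inv_mem hz), by
      have : u * z * u⁻¹ * z⁻¹ = u * (z * u⁻¹ * z⁻¹) := by group
      rw [this]
      exact U.mul_mem hu hU'⟩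
  rw [hbot, Subgroup.mem_bot] at hcomm
  calc u * z = (u * z * u⁻¹ * z⁻¹) * (z * u) := by group
    _ = z * u := by rw [hcomm, one_mul]

end Four

/-- The list of S1179. -/
def List1179 (G : Type*) [Group G] : Prop :=
  (∃ (n : ℕ) (F : Type) (_ : Field F) (_ : Fintype F), 2 ≤ n ∧ CharP F 2 ∧
      Nonempty (G ≃* Matrix.ProjectiveSpecialLinearGroup (Fin n) F)) ∨
    Cfsg.IsSuzuki G ∨
    (∃ (F : Type) (_ : Field F) (_ : Fintype F) (q : ℕ), Fintype.card F = q ^ 2 ∧ Even q ∧
      4 ≤ q ∧ Nonempty (G ≃* Cfsg.PSU 3 F q)) ∨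
    (∃ n : ℕ, 6 ≤ n ∧ n ≤ 9 ∧ Nonempty (G ≃* alternatingGroup (Fin n))) ∨
    Cfsg.IsM22 G ∨ Cfsg.IsM23 G ∨ Cfsg.IsM24 G ∨ Cfsg.IsHe G

/-- S1179 as a hypothesis. -/
def H1179 : Prop :=
  ∀ (G : Type u) [Group G] [Finite G] [IsSimpleGroup G], ¬ IsMulCommutative G →
    ∀ A : Subgroup G, Cfsg.IsElementaryAbelian 2 A → A ≠ ⊥ →
      (∀ a ∈ A, a ≠ 1 → ∀ g : G, A.map (MulAut.conj g).toMonoidHom ≤
        Subgroup.centralizer ({a} : Set G) → A.map (MulAut.conj g).toMonoidHom = A) → List1179 G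


/-- LEMMA W and S1179: a TI four-group `Z` with `C_G(x) ≤ N_G(Z)` for `x ∈ Z#` in a simple group
which is not in the list of S1179 commutes with another conjugate `U` of it. -/
theorem Four.list {G : Type u} [Group G] [Finite G] [IsSimpleGroup G] (h1179 : H1179.{u})
    (hna : ¬ IsMulCommutative G) {Z : Subgroup G} (h : Four Z)
    (hG : ∀ U : Subgroup G, Four U → (∃ g : G, U = Z.map (MulAut.conj g).toMonoidHom) →
      Z ⊓ U = ⊥ → (∀ u ∈ U, ∀ z ∈ Z, u * z = z * u) → False) : List1179 G := by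
  apply h1179 G hna Z
  · refine ⟨⟨⟨fun a b => ?_⟩⟩, fun a ha => by rw [pow_two]; exact h.el a ha⟩
    ext
    have ha := h.el a a.2
    have hb := h.el b b.2
    have hab := h.el (a * b) (Z.mul_mem a.2 b.2)
    show (a : G) * b = b * a
    have hai : (a : G)⁻¹ = a := inv_eq_of_mul_eq_one_left ha
    have hbi : (b : G)⁻¹ = b := inv_eq_of_mul_eq_one_left hb
    have habi : ((a : G) * b)⁻¹ = a * b := inv_eq_of_mul_eq_one_left hab
    calc (a : G) * b = ((a : G) * b)⁻¹ := habi.symm
      _ = (b : G)⁻¹ * (a : G)⁻¹ := mul_inv_rev _ _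
      _ = b * a := by rw [hai, hbi]
  · rintro rfl
    have := h.card
    simp at this
  · intro a ha ha1 g hg
    by_contra hne
    obtain ⟨h1, h2⟩ := h.alt ha ha1 hg hne
    exact hG _ (h.conj g) ⟨g, rfl⟩ h1 h2

/-- The centre of order four of a standard subgroup is a TI four-group as in LEMMA W. -/
theorem four_of_standard {G : Type*} [Group G] [Finite G] {K Z : Subgroup G}
    (hK : Cfsg.IsStandardSubgroup K) (hZc : Z ≤ Subgroup.centralizer (K : Set G))
    (hZn : Subgroup.normalizer (K : Set G) ≤ Subgroup.normalizer (Z : Set G))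
    (hel : ∀ x ∈ Z, x * x = 1) (hcard : Nat.card Z = 4) : Four Z := by
  refine ⟨hel, hcard, ?_, ?_⟩
  · intro x hx hx1
    have hord : orderOf x = 2 := orderOf_eq_prime (by rw [pow_two]; exact hel x hx) hx1
    exact le_trans (Cfsg.Agent.S1754.result K hK x hord (hZc hx)).1 hZn
  · intro g x hx hx1 hgx
    apply hZn
    by_contra hg
    rw [hK.2.2.2] at hg
    have hodd := hK.2.1.2 g hg
    have hmem : g * x * g⁻¹ ∈ Subgroup.centralizer (K : Set G) ⊓
        (Subgroup.centralizer (K : Set G)).map (MulAut.conj g).toMonoidHom :=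
      ⟨hZc hgx, mem_conj.mpr ⟨x, hZc hx, rfl⟩⟩
    have hord : orderOf (g * x * g⁻¹) = 2 := by
      apply orderOf_eq_prime
      · rw [pow_two]; exact hel _ hgx
      · intro hc
        apply hx1
        calc x = g⁻¹ * (g * x * g⁻¹) * g := by group
          _ = 1 := by rw [hc]; group
    have hdvd : 2 ∣ Nat.card ↥(Subgroup.centralizer (K : Set G) ⊓
        (Subgroup.centralizer (K : Set G)).map (MulAut.conj g).toMonoidHom) := by
      rw [← hord]
      exact Subgroup.orderOf_dvd_natCard _ hmem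
    exact (Nat.not_even_iff_odd.mpr hodd) (even_iff_two_dvd.mpr hdvd)

/-- LEMMA W for a standard subgroup whose centre contains a characteristic four-group `Z`:
only the fact `GAMMA` about the automorphisms of `K` is used. -/
theorem standard_list {G : Type u} [Group G] [Finite G] [IsSimpleGroup G] (h1179 : H1179.{u})
    (hna : ¬ IsMulCommutative G) {K Z : Subgroup G} (hK : Cfsg.IsStandardSubgroup K)
    (hZc : Z ≤ Subgroup.centralizer (K : Set G))
    (hZn : Subgroup.normalizer (K : Set G) ≤ Subgroup.normalizer (Z : Set G))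
    (hel : ∀ x ∈ Z, x * x = 1) (hcard : Nat.card Z = 4)
    (hGamma : ∀ U : Subgroup G, (∀ u ∈ U, u * u = 1) → Nat.card U = 4 →
      U ≤ Subgroup.normalizer (K : Set G) → U ⊓ Subgroup.centralizer (K : Set G) = ⊥ →
      (∀ u ∈ U, ∀ z ∈ Z, u * z = z * u) →
      (∀ u ∈ U, u ≠ 1 → ∀ k ∈ K, k * u = u * k → k ∈ Subgroup.normalizer (U : Set G)) → False) :
    List1179 G := by
  have hF := four_of_standard hK hZc hZn hel hcard
  apply Four.list h1179 hna hF
  rintro U hU ⟨g, rfl⟩ hZU hcomm
  -- `U ≤ N(K)`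
  obtain ⟨x, hx, hx1⟩ : ∃ x ∈ Z, x ≠ 1 := by
    by_contra hcon
    push Not at hcon
    have : Z = ⊥ := by
      rw [eq_bot_iff]
      intro x hx
      exact Subgroup.mem_bot.mpr (hcon x hx)
    rw [this] at hcard
    simp at hcard
  have hord : orderOf x = 2 := orderOf_eq_prime (by rw [pow_two]; exact hel x hx) hx1
  have hUN : Z.map (MulAut.conj g).toMonoidHom ≤ Subgroup.normalizer (K : Set G) := by
    intro u hu
    apply (Cfsg.Agent.S1754.result K hK x hord (hZc hx)).1
    rw [Subgroup.mem_centralizer_singleton_iff]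
    exact hcomm u hu x hx
  refine hGamma _ hU.el hU.card hUN ?_ hcomm ?_
  · rw [eq_bot_iff]
    rintro u ⟨hu1, hu2⟩
    rw [Subgroup.mem_bot]
    by_contra hne
    obtain ⟨z, hz, hzu⟩ := mem_conj.mp hu1
    -- `u ∈ C(K) ∩ C(K)^g` has even order, so `g` normalises `K`, `Z`
    have hg : g ∈ Subgroup.normalizer (Subgroup.centralizer (K : Set G) : Set G) := by
      by_contra hg
      have hodd := hK.2.1.2 g hg
      have hmem : u ∈ Subgroup.centralizer (K : Set G) ⊓
          (Subgroup.centralizer (K : Set G)).map (MulAut.conj g).toMonoidHom :=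
        ⟨hu2, mem_conj.mpr ⟨z, hZc hz, hzu⟩⟩
      have hou : orderOf u = 2 :=
        orderOf_eq_prime (by rw [pow_two]; exact hU.el u hu1) hne
      have hdvd : 2 ∣ Nat.card ↥(Subgroup.centralizer (K : Set G) ⊓
          (Subgroup.centralizer (K : Set G)).map (MulAut.conj g).toMonoidHom) := by
        rw [← hou]
        exact Subgroup.orderOf_dvd_natCard _ hmem
      exact (Nat.not_even_iff_odd.mpr hodd) (even_iff_two_dvd.mpr hdvd)
    rw [← hK.2.2.2] at hg
    have hZZ := conj_eq_of_mem_normalizer (hZn hg)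
    rw [hZZ] at hZU hu1
    have : u ∈ (⊥ : Subgroup G) := by
      rw [← hZU]
      exact ⟨hu1, hu1⟩
    exact hne (Subgroup.mem_bot.mp this)
  · intro u hu hu1 k _ hku
    apply hU.cent u hu hu1
    rw [Subgroup.mem_centralizer_singleton_iff]
    exact hku

end Cfsg.Agent.OddHalf.D9.LemmaW
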