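import Cfsg.Agent.OddHalf.D9.MultOf
import Cfsg.Agent.KFacts.OddLift.GTwoFour

/-!
# D9: multiplier rows from odd lifts; the rows `Suz` and `G₂(4)`

`Bd.of_cov`: `Nat.card π.ker ≤ 2 ^ k` for every `Cov π` over `X` of type `P` gives `Bd (2 ^ k) P`.
-/

set_option autoImplicit false
set_option linter.style.haveILetI false

namespace Cfsg.Agent.OddHalf.D9.MultCov

open Subgroup Cfsg Cfsg.Agent.OddHalf.D9.Cut Cfsg.Agent.OddHalf.D9.MultOf
open Cfsg.Agent.KFacts.OddLift.Basic Cfsg.Agent.KFacts.OddLift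

universe u

/-- the quotient map by the centre of a quasisimple group with centre a 2-group -/
theorem cov_of {K : Type u} [Group K] (h : QsCyc K) : Cov (QuotientGroup.mk' (center K)) where
  surj := QuotientGroup.mk'_surjective _
  central := by rw [QuotientGroup.ker_mk']
  two := by rw [QuotientGroup.ker_mk']; exact h.2.2.1
  perfect := h.2.1.1.commutator_eq_top

theorem card_center_dvd {K : Type u} [Group K] (h : QsCyc K) {k : ℕ}
    (hc : Nat.card (QuotientGroup.mk' (center K)).ker ≤ 2 ^ k) : Nat.card ↥(center K) ∣ 2 ^ k := by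
  rw [QuotientGroup.ker_mk'] at hc
  haveI := h.1
  haveI : Fact (Nat.Prime 2) := ⟨Nat.prime_two⟩
  obtain ⟨n, hn⟩ := IsPGroup.iff_card.1 h.2.2.1
  rw [hn] at hc ⊢
  exact pow_dvd_pow 2 ((Nat.pow_le_pow_iff_right (by norm_num)).1 hc)

theorem Bd.of_cov {P : (X : Type u) → [Group X] → Prop} (k : ℕ)
    (h : ∀ (X : Type u) [Group X], P X → ∀ (L : Type u) [Group L] (π : L →* X), Finite L → Cov π →
      Nat.card π.ker ≤ 2 ^ k) : Bd.{u} (2 ^ k) P := fun K _ hK hP =>
  card_center_dvd hK (h _ hP K _ hK.1 (cov_of hK))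

/-- row `Suz` -/
theorem suz : Bd.{u} 2 (fun X _ => Spor.IsoSuz X) := by
  have h := Bd.of_cov (P := fun X _ => Spor.IsoSuz X) 1 fun X _ hX L _ π _ hc => by
    obtain ⟨e⟩ := hX
    exact (SuzCov.card_ker_le_two_of_iso e hc).2
  exact h

/-- row `G₂(4)` -/
theorem g24 : Bd.{u} 2 (fun X _ => XG24 X) := by
  have h := Bd.of_cov (P := fun X _ => XG24 X) 1 fun X _ hX L _ π _ hc => by
    obtain ⟨F, _, _, hF, ⟨e⟩⟩ := hX
    exact (GTwoFour.card_ker_le_two (by rw [Nat.card_eq_fintype_card]; exact hF) e hc).2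
  exact h

end Cfsg.Agent.OddHalf.D9.MultCov
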