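import Cfsg.Agent.OddHalf.D9.MultAll.Spor
import Cfsg.Agent.OddHalf.D9.MultAll.Lie
import Cfsg.Agent.OddHalf.D9.MultAll.Two
import Cfsg.Agent.OddHalf.D9.MultAll.Four

/-!
# The 2-parts of the multipliers: `Cut.Mult`

`mult_of` needs the rows which have not landed yet; `mult` will be the unconditional form.
-/

set_option autoImplicit false

namespace Cfsg.Agent.OddHalf.D9.MultAll

universe u

theorem mult_of (two : Two.Missing.{u}) : Cut.Mult.{u} :=
  MultOf.mult_of Spor.sporND Lie.lieND (Two.twoRows_of two) Four.fourRows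

end Cfsg.Agent.OddHalf.D9.MultAll
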