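import Cfsg.Agent.OddHalf.D9.M12Glue
import Cfsg.Agent.OddHalf.Front.FE
import Cfsg.Agent.OddHalf.D9.Cut

/-!
# D9: the frame `M12Glue.Amb` from `Ctx`, `Std`, `Cyc`

`amb_of`: `K` standard of maximal order, `C(K)` with cyclic Sylow 2-subgroups, `z` an involution of `Z(K)`:
`K ⊴ C(z)`, `C(K)` is a cyclic 2-group whose involution is `z`.
`row_two`: a row of D9 with `|Z(K)| = 2` from a `K`-free kill and facts on `K`.
-/

set_option autoImplicit false

namespace Cfsg.Agent.OddHalf.D9.AmbOf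

open Subgroup Cfsg Cfsg.Agent.OddHalf.Iface Cfsg.Agent.OddHalf.Front.FE Cfsg.Agent.OddHalf.D9.M12Glue

universe u

variable {G : Type u} [Group G]

theorem start_eq [Finite G] {K : Subgroup G} {t q z : G} (h : Start0 K t q) (hzK : z ∈ K)
    (hz : ∀ k ∈ K, k * z = z * k) (hz1 : z ≠ 1) (hzz : z * z = 1) : z = t :=
  h.uniq (h.cK z (h.Kt z hzK) hz) hzz hz1

theorem amb_of_start [Finite G] {K : Subgroup G} {z q : G} (h : Start0 K z q) (hzK : z ∈ K) : Amb z K := by
  have hr : ∀ r : G, (∀ k ∈ K, r * k = k * r) → r ∈ zpowers q := fun r hr =>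
    h.cK r (hr z hzK) fun x hx => (hr x hx).symm
  refine ⟨hzK, ?_, ?_, ?_, ?_⟩
  · intro x hx k hk
    exact (mem_normalizer_iff.1 (h.nK x hx) k).1 hk
  · intro r hrK
    obtain ⟨n, hn⟩ := h.pQ ⟨r, hr r hrK⟩
    exact ⟨n, congrArg Subtype.val hn⟩
  · intro r hrK hrr
    by_cases h1 : r = 1
    · exact Or.inl h1
    · exact Or.inr (h.uniq (hr r hrK) hrr h1)
  · intro r s hrK hsK
    obtain ⟨a, rfl⟩ := mem_zpowers_iff.1 (hr r hrK)
    obtain ⟨b, rfl⟩ := mem_zpowers_iff.1 (hr s hsK)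
    rw [← zpow_add, ← zpow_add, add_comm]

/-- **The frame.** -/
theorem amb_of (C : Ctx G) {K : Subgroup G} (S : Std0 G K) (hc : Cyc K) {z : G} (hzK : z ∈ K)
    (hz : ∀ k ∈ K, k * z = z * k) (hz1 : z ≠ 1) (hzz : z * z = 1) : Amb z K := by
  have := C.fin
  obtain ⟨t, q, h⟩ := exists_start0 C S hc
  obtain rfl := start_eq h hzK hz hz1 hzz
  exact amb_of_start h hzK

/-- `K` is quasisimple -/
theorem quasisimple {K : Subgroup G} (S : Std0 G K) : IsQuasisimple ↥K := S.std.1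

/-- **Rows with `|Z(K)| = 2`**: `F K z` are facts on `K` (for an involution `z ∈ Z(K)`), `kill` a contradiction at the
level of `G`. -/
theorem row_two (P : (X : Type u) → [Group X] → Prop) (F : (K : Type u) → [Group K] → K → Prop)
    (facts : ∀ (K : Type u) [Group K] [Finite K], IsQuasisimple K → Nat.card ↥(center K) = 2 →
      P (K ⧸ center K) → ∀ z : K, z ≠ 1 → z * z = 1 → (∀ y, z * y = y * z) → F K z)
    (kill : ∀ (G : Type u) [Group G], Ctx G → ∀ (K : Subgroup G) (z : G) (A : Amb z K),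
      F ↥K ⟨z, A.zK⟩ → False) : Cut.Row.{u} (fun K _ => Cut.Two P K) := by
  intro G _ C K S hc ⟨h2, hP⟩
  have := C.fin
  obtain ⟨⟨z, hz⟩, hz1, hzu⟩ := Nat.card_eq_two_iff' (1 : ↥(center ↥K)) |>.1 h2
  have hzc : ∀ y, z * y = y * z := fun y => (mem_center_iff.1 hz y).symm
  have hz1' : z ≠ 1 := fun h => hz1 (Subtype.ext h)
  have hzz : z * z = 1 := by
    by_contra hne
    have h3 := hzu (⟨z, hz⟩ * ⟨z, hz⟩) (fun h => hne (congrArg Subtype.val h))
    have h4 : z * z = z := congrArg Subtype.val h3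
    exact hz1' (mul_eq_left.1 h4)
  have A : Amb (z : G) K := amb_of C S hc z.2 (fun k hk => (congrArg Subtype.val (hzc ⟨k, hk⟩)).symm)
    (fun h => hz1' (Subtype.ext h)) (congrArg Subtype.val hzz)
  exact kill G C K z A (facts ↥K (quasisimple S) h2 hP z hz1' hzz hzc)

end Cfsg.Agent.OddHalf.D9.AmbOf
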