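import Cfsg.Agent.OddHalf.D9.Kill

/-!
# The abstract kill of a standard component with even centre, arbitrary centralizer

`K` is a component of `C_G(z)`, `z` an involution of `Z(K)`, `C = C_G(K)` ARBITRARY: `z^G ∩ C = {z}`, no nontrivial
perfect subgroup centralizes `K` and a conjugate `K^g` with `z^g ≠ z`, and the perfect subgroups of `C_G(z)` lie in `K C`.

K-facts `Facts z` (about the abstract group `K`):

* `res` : `z ∈ Pr (C_K(k))` for every noncentral `k` with `k²` central;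
* `sf`  : for these `k` a perfect normal subgroup of `Pr (C_K(k))` is `1` or `Pr (C_K(k))`;
* `NoBad z` or `PF z C`, as in `Kill`;
* `out` : for an involutory automorphism `α` which is not inner: `z ∈ Pr (C_K(α))` or there are `1 ≠ x ∈ Pr (C_K(α))`
  and `q ∈ K` with `α q = q x`.

`FrA.false`: these facts contradict the frame.
-/

set_option autoImplicit false

namespace Cfsg.Agent.OddHalf.D9.KillAny

open Subgroup Cfsg.Agent.OddHalf.D9.Kill
open scoped commutatorElement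

universe u

variable {G : Type u} [Group G]

/-! ### The product `K C` -/

/-- `K × C_G(K) → G` -/
def phi (K : Subgroup G) : ↥K × ↥(centralizer (K : Set G)) →* G :=
  MonoidHom.noncommCoprod K.subtype (centralizer (K : Set G)).subtype
    (fun k c => mem_centralizer_iff.1 c.2 k k.2)

theorem phi_apply {K : Subgroup G} (x : ↥K × ↥(centralizer (K : Set G))) : phi K x = (x.1 : G) * x.2 := rfl

theorem comm_KC {K : Subgroup G} {k c : G} (hk : k ∈ K) (hc : c ∈ centralizer (K : Set G)) : k * c = c * k :=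
  mem_centralizer_iff.1 hc k hk

/-- the kernel of `phi` is central -/
theorem ker_central {K : Subgroup G} {x : ↥K × ↥(centralizer (K : Set G))} (hx : phi K x = 1)
    (y : ↥K × ↥(centralizer (K : Set G))) : x * y = y * x := by
  obtain ⟨k, c⟩ := x
  obtain ⟨k', c'⟩ := y
  have h : (k : G) * c = 1 := hx
  have h1 : (k : G) = (c : G)⁻¹ := eq_inv_of_mul_eq_one_left h
  have h2 : (c : G) = (k : G)⁻¹ := eq_inv_of_mul_eq_one_right h
  refine Prod.ext (Subtype.ext ?_) (Subtype.ext ?_)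
  · change (k : G) * k' = k' * k
    rw [h1]
    exact (comm_KC k'.2 (inv_mem c.2)).symm
  · change (c : G) * c' = c' * c
    rw [h2]
    exact comm_KC (inv_mem k.2) c'.2

theorem commutator_central {A : Type*} [Group A] {a b s t : A} (hs : ∀ x, s * x = x * s)
    (ht : ∀ x, t * x = x * t) : ⁅a * s, b * t⁆ = ⁅a, b⁆ := by
  have hs' : ∀ x, s⁻¹ * x = x * s⁻¹ := fun x => by
    rw [inv_mul_eq_iff_eq_mul, ← mul_assoc, hs, mul_inv_cancel_right]
  have ht' : ∀ x, t⁻¹ * x = x * t⁻¹ := fun x => by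
    rw [inv_mul_eq_iff_eq_mul, ← mul_assoc, ht, mul_inv_cancel_right]
  rw [commutatorElement_def, commutatorElement_def]
  calc a * s * (b * t) * (a * s)⁻¹ * (b * t)⁻¹
      = a * (s * b) * (t * s⁻¹ * a⁻¹ * t⁻¹) * b⁻¹ := by group
    _ = a * b * s * (t * (s⁻¹ * a⁻¹) * t⁻¹) * b⁻¹ := by rw [hs]; group
    _ = a * b * s * (s⁻¹ * a⁻¹) * b⁻¹ := by rw [ht]; group
    _ = a * b * a⁻¹ * b⁻¹ := by group

/-- A perfect subgroup of the image has a perfect preimage. -/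
theorem lift_perfect {A : Type*} [Group A] {f : A →* G} (hker : ∀ x, f x = 1 → ∀ y, x * y = y * x)
    {S : Subgroup G} (hS : S ≤ f.range) (hp : ⁅S, S⁆ = S) :
    (⁅S.comap f, S.comap f⁆).map f = S ∧
      ⁅⁅S.comap f, S.comap f⁆, ⁅S.comap f, S.comap f⁆⁆ = ⁅S.comap f, S.comap f⁆ := by
  have h0 : (S.comap f).map f = S := by
    rw [map_comap_eq, inf_eq_right]; exact hS
  have h1 : (⁅S.comap f, S.comap f⁆).map f = S := by
    rw [map_commutator, h0, hp]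
  refine ⟨h1, le_antisymm (commutator_le_self _) ?_⟩
  -- every element of the preimage is `a' ζ`, `a'` in the commutator subgroup, `ζ` central
  have h2 : ∀ a ∈ S.comap f, ∃ a' ∈ ⁅S.comap f, S.comap f⁆, ∃ s : A, (∀ x, s * x = x * s) ∧ a = a' * s := by
    intro a ha
    have h3 : f a ∈ (⁅S.comap f, S.comap f⁆).map f := by rw [h1]; exact ha
    obtain ⟨a', ha', h4⟩ := h3
    refine ⟨a', ha', a'⁻¹ * a, hker _ ?_, by group⟩
    rw [map_mul, map_inv, h4, inv_mul_cancel]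
  rw [commutator_le]
  intro a ha b hb
  obtain ⟨a', ha', s, hs, rfl⟩ := h2 a ha
  obtain ⟨b', hb', t, ht, rfl⟩ := h2 b hb
  rw [commutator_central hs ht]
  exact commutator_mem_commutator ha' hb'

/-- the perfect preimage of `S` in `K × C` -/
def Lf (K S : Subgroup G) : Subgroup (↥K × ↥(centralizer (K : Set G))) := ⁅S.comap (phi K), S.comap (phi K)⁆

/-- the projection of `S` to `K` -/
def pr (K S : Subgroup G) : Subgroup ↥K := (Lf K S).map (MonoidHom.fst _ _)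

theorem map_Lf {K S : Subgroup G} (hS : S ≤ (phi K).range) (hp : ⁅S, S⁆ = S) : (Lf K S).map (phi K) = S :=
  (lift_perfect (fun _ => ker_central) hS hp).1

theorem Lf_perfect {K S : Subgroup G} (hS : S ≤ (phi K).range) (hp : ⁅S, S⁆ = S) :
    ⁅Lf K S, Lf K S⁆ = Lf K S :=
  (lift_perfect (fun _ => ker_central) hS hp).2

theorem pr_perfect {K S : Subgroup G} (hS : S ≤ (phi K).range) (hp : ⁅S, S⁆ = S) :
    ⁅pr K S, pr K S⁆ = pr K S := by
  unfold pr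
  rw [← map_commutator, Lf_perfect hS hp]

/-- `S ≤ pr S · C` -/
theorem exists_pr {K S : Subgroup G} (hS : S ≤ (phi K).range) (hp : ⁅S, S⁆ = S) {s : G} (hs : s ∈ S) :
    ∃ k ∈ pr K S, ∃ c ∈ centralizer (K : Set G), s = (k : G) * c := by
  rw [← map_Lf hS hp] at hs
  obtain ⟨t, ht, rfl⟩ := hs
  exact ⟨t.1, ⟨t, ht, rfl⟩, t.2, t.2.2, rfl⟩

theorem le_centralizer_of_pr {K S : Subgroup G} (hS : S ≤ (phi K).range) (hp : ⁅S, S⁆ = S) (h : pr K S = ⊥) :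
    S ≤ centralizer (K : Set G) := by
  intro s hs
  obtain ⟨k, hk, c, hc, rfl⟩ := exists_pr hS hp hs
  rw [h, mem_bot] at hk
  rw [hk, coe_one, one_mul]
  exact hc

/-- an element which normalizes `K` and `C` and centralizes `S` centralizes the two projections of `S` -/
theorem comm_pr {K S : Subgroup G} {x : G}
    (hK : ∀ k ∈ K, x * k * x⁻¹ ∈ K)
    (hC : ∀ c ∈ centralizer (K : Set G), x * c * x⁻¹ ∈ centralizer (K : Set G))
    (h : ∀ s ∈ S, x * s = s * x) (t : ↥K × ↥(centralizer (K : Set G))) (ht : t ∈ Lf K S) :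
    x * (t.1 : G) = t.1 * x ∧ x * (t.2 : G) = t.2 * x := by
  let X : MonoidHom G G := (MulAut.conj x).toMonoidHom
  have hX : ∀ y, X y = x * y * x⁻¹ := fun y => rfl
  -- the subgroup of the elements for which the claim holds
  let B : Subgroup (↥K × ↥(centralizer (K : Set G))) :=
    { carrier := {t | x * (t.1 : G) * x⁻¹ = t.1 ∧ x * (t.2 : G) * x⁻¹ = t.2}
      one_mem' := by simp
      mul_mem' := by
        rintro a b ⟨ha1, ha2⟩ ⟨hb1, hb2⟩
        refine ⟨?_, ?_⟩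
        · change X (a.1 * b.1) = a.1 * b.1
          rw [map_mul, hX, hX, ha1, hb1]
        · change X (a.2 * b.2) = a.2 * b.2
          rw [map_mul, hX, hX, ha2, hb2]
      inv_mem' := by
        rintro a ⟨ha1, ha2⟩
        refine ⟨?_, ?_⟩
        · change X (a.1 : G)⁻¹ = (a.1 : G)⁻¹
          rw [map_inv, hX, ha1]
        · change X (a.2 : G)⁻¹ = (a.2 : G)⁻¹
          rw [map_inv, hX, ha2] }
  have hB : Lf K S ≤ B := by
    unfold Lf
    rw [commutator_le]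
    -- for `a` in the preimage of `S`
    have key : ∀ a ∈ S.comap (phi K), ∃ r : G, (∀ k ∈ K, r * k = k * r) ∧
        (∀ c ∈ centralizer (K : Set G), r * c = c * r) ∧
        x * (a.1 : G) * x⁻¹ = a.1 * r ∧ x * (a.2 : G) * x⁻¹ = a.2 * r⁻¹ := by
      intro a ha
      have h1 : x * ((a.1 : G) * a.2) * x⁻¹ = a.1 * a.2 := by
        rw [mul_inv_eq_iff_eq_mul]
        exact h _ ha
      have h2 : x * (a.1 : G) * x⁻¹ * (x * (a.2 : G) * x⁻¹) = a.1 * a.2 := by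
        rw [← h1]; group
      set u := x * (a.1 : G) * x⁻¹ with hu
      set v := x * (a.2 : G) * x⁻¹ with hv
      have huK : u ∈ K := hK _ a.1.2
      have hvC : v ∈ centralizer (K : Set G) := hC _ a.2.2
      have h3 : (a.1 : G)⁻¹ * u = a.2 * v⁻¹ := by
        rw [inv_mul_eq_iff_eq_mul, ← mul_assoc, ← h2, mul_inv_cancel_right]
      have hrK : (a.1 : G)⁻¹ * u ∈ K := mul_mem (inv_mem a.1.2) huK
      have hrC : (a.1 : G)⁻¹ * u ∈ centralizer (K : Set G) := by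
        rw [h3]; exact mul_mem a.2.2 (inv_mem hvC)
      refine ⟨(a.1 : G)⁻¹ * u, fun k hk => (comm_KC hk hrC).symm, fun c hc => comm_KC hrK hc, by group, ?_⟩
      have h4 : ((a.1 : G)⁻¹ * u)⁻¹ = v * (a.2 : G)⁻¹ := by rw [h3]; group
      have h5 := comm_KC (inv_mem hrK) a.2.2
      rw [← h5, h4]
      group
    intro a ha b hb
    obtain ⟨r, hr1, hr2, ha1, ha2⟩ := key a ha
    obtain ⟨s, hs1, hs2, hb1, hb2⟩ := key b hb
    have hrK : ∀ k : G, k ∈ K → r * k = k * r := hr1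
    -- computation in G
    have main : ∀ {p q r s : G}, r * p = p * r → r * q = q * r → s * p = p * s → s * q = q * s →
        r * s = s * r → ⁅p * r, q * s⁆ = ⁅p, q⁆ := by
      intro p q r s h1 h2 h3 h4 h5
      have c1 : Commute r p := h1
      have c2 : Commute r q := h2
      have c3 : Commute s p := h3
      have c4 : Commute s q := h4
      have c5 : Commute r s := h5
      rw [commutatorElement_def, commutatorElement_def]
      calc p * r * (q * s) * (p * r)⁻¹ * (q * s)⁻¹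
          = p * (r * q) * (s * r⁻¹) * p⁻¹ * s⁻¹ * q⁻¹ := by group
        _ = p * q * (r * s) * r⁻¹ * p⁻¹ * s⁻¹ * q⁻¹ := by rw [h2]; group
        _ = p * q * (s * p⁻¹) * s⁻¹ * q⁻¹ := by rw [h5]; group
        _ = p * q * p⁻¹ * q⁻¹ := by rw [c3.inv_right.eq]; group
    have hrC' : r ∈ centralizer (K : Set G) := mem_centralizer_iff.2 fun k hk => (hr1 k hk).symm
    have hsC' : s ∈ centralizer (K : Set G) := mem_centralizer_iff.2 fun k hk => (hs1 k hk).symm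
    have hrs : r * s = s * r := hr2 s hsC'
    refine ⟨?_, ?_⟩
    · change X ⁅(a.1 : G), (b.1 : G)⁆ = ⁅(a.1 : G), (b.1 : G)⁆
      rw [map_commutatorElement, hX, hX, ha1, hb1]
      exact main (hr1 _ a.1.2) (hr1 _ b.1.2) (hs1 _ a.1.2) (hs1 _ b.1.2) hrs
    · change X ⁅(a.2 : G), (b.2 : G)⁆ = ⁅(a.2 : G), (b.2 : G)⁆
      rw [map_commutatorElement, hX, hX, ha2, hb2]
      have c1 : Commute r (a.2 : G) := hr2 _ a.2.2
      have c2 : Commute r (b.2 : G) := hr2 _ b.2.2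
      have c3 : Commute s (a.2 : G) := hs2 _ a.2.2
      have c4 : Commute s (b.2 : G) := hs2 _ b.2.2
      have c5 : Commute r s := hrs
      exact main c1.inv_left.eq c2.inv_left.eq c3.inv_left.eq c4.inv_left.eq c5.inv_inv.eq
  obtain ⟨h1, h2⟩ := hB ht
  rw [mul_inv_eq_iff_eq_mul] at h1 h2
  exact ⟨h1, h2⟩

theorem comm_of_pr {K S : Subgroup G} {x : G}
    (hK : ∀ k ∈ K, x * k * x⁻¹ ∈ K)
    (hC : ∀ c ∈ centralizer (K : Set G), x * c * x⁻¹ ∈ centralizer (K : Set G))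
    (h : ∀ s ∈ S, x * s = s * x) {k : ↥K} (hk : k ∈ pr K S) : x * (k : G) = k * x := by
  obtain ⟨t, ht, rfl⟩ := hk
  exact (comm_pr hK hC h t ht).1

/-- an element of `K` normalizing `S` normalizes `pr S` -/
theorem conj_pr {K S : Subgroup G} {p : ↥K} (h : ∀ s ∈ S, (p : G) * s * (p : G)⁻¹ ∈ S) {k : ↥K}
    (hk : k ∈ pr K S) : p * k * p⁻¹ ∈ pr K S := by
  obtain ⟨t, ht, rfl⟩ := hk
  let q : ↥K × ↥(centralizer (K : Set G)) := (p, 1)
  have h1 : (S.comap (phi K)).map (MulAut.conj q).toMonoidHom ≤ S.comap (phi K) := by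
    rintro _ ⟨y, hy, rfl⟩
    change phi K (q * y * q⁻¹) ∈ S
    rw [map_mul, map_mul, map_inv]
    have : phi K q = (p : G) := by
      rw [phi_apply]; simp [q]
    rw [this]
    exact h _ hy
  have h2 : q * t * q⁻¹ ∈ Lf K S := by
    have h3 : (MulAut.conj q).toMonoidHom t ∈ (Lf K S).map (MulAut.conj q).toMonoidHom := ⟨t, ht, rfl⟩
    unfold Lf at h3
    rw [map_commutator] at h3
    exact commutator_mono h1 h1 h3
  exact ⟨q * t * q⁻¹, h2, rfl⟩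

/-! ### K-facts -/

/-- The facts about `K` which do not depend on the version of (I). -/
structure Facts {K : Type u} [Group K] (z : K) : Prop where
  res : ∀ k : K, (∃ x, k * x ≠ x * k) → (∀ x, k * k * x = x * (k * k)) → z ∈ Pr (Ce k)
  sf : ∀ k : K, (∃ x, k * x ≠ x * k) → (∀ x, k * k * x = x * (k * k)) →
    ∀ N ≤ Pr (Ce k), ⁅N, N⁆ = N → (∀ p ∈ Pr (Ce k), ∀ n ∈ N, p * n * p⁻¹ ∈ N) → N = ⊥ ∨ N = Pr (Ce k)
  out : ∀ α : MulAut K, α * α = 1 → (∀ k : K, α ≠ MulAut.conj k) →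
    z ∈ Pr (Fx α) ∨ ∃ x ∈ Pr (Fx α), x ≠ 1 ∧ ∃ q : K, α q = q * x

/-! ### The frame -/

/-- The frame: `K` is a component of `C_G(z)`, `z ∈ Z(K)`. -/
structure FrA (K : Subgroup G) (z : G) : Prop where
  zz : z * z = 1
  z1 : z ≠ 1
  zK : z ∈ K
  Kz : ∀ k ∈ K, k * z = z * k
  nrm : ∀ h : G, h * z = z * h → ∀ k ∈ K, h * k * h⁻¹ ∈ K
  perf : ∀ P : Subgroup G, P ≤ Ce z → ⁅P, P⁆ = P → P ≤ (phi K).range
  iso : ∀ g : G, g * z * g⁻¹ ∈ centralizer (K : Set G) → g * z * g⁻¹ = z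
  tight : ∀ g : G, g * z * g⁻¹ ≠ z → ∀ P : Subgroup G, ⁅P, P⁆ = P → P ≤ centralizer (K : Set G) →
    (∀ p ∈ P, ∀ k ∈ K, p * (g * k * g⁻¹) = g * k * g⁻¹ * p) → P = ⊥
  ne : ∃ g : G, g * z * g⁻¹ ≠ z ∧ g * z * g⁻¹ * z = z * (g * z * g⁻¹)

namespace FrA

variable {K : Subgroup G} {z : G}

theorem nrm_inv {h : G} (hh : h * z = z * h) : h⁻¹ * z = z * h⁻¹ := by
  rw [inv_mul_eq_iff_eq_mul, ← mul_assoc, hh, mul_inv_cancel_right]

/-- `C(z)` normalizes `C(K)`. -/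
theorem nrmC (F : FrA K z) {h : G} (hh : h * z = z * h) :
    ∀ c ∈ centralizer (K : Set G), h * c * h⁻¹ ∈ centralizer (K : Set G) := by
  intro c hc
  rw [mem_centralizer_iff]
  intro k hk
  have h1 : h⁻¹ * k * h ∈ K := by
    have := F.nrm h⁻¹ (nrm_inv hh) k hk
    rwa [inv_inv] at this
  have h2 := comm_KC h1 hc
  calc k * (h * c * h⁻¹) = h * (h⁻¹ * k * h * c) * h⁻¹ := by group
    _ = h * (c * (h⁻¹ * k * h)) * h⁻¹ := by rw [h2]
    _ = h * c * h⁻¹ * k := by group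

/-- `C(K) ≤ C(z)` -/
theorem Cz (F : FrA K z) {c : G} (hc : c ∈ centralizer (K : Set G)) : c * z = z * c :=
  (comm_KC F.zK hc).symm

/-- The automorphism of `K` induced by an element of `C(z)`. -/
def act (F : FrA K z) {h : G} (hh : h * z = z * h) : MulAut ↥K where
  toFun k := ⟨h * k * h⁻¹, F.nrm h hh k k.2⟩
  invFun k := ⟨h⁻¹ * k * h, by
    have := F.nrm h⁻¹ (nrm_inv hh) k k.2
    rwa [inv_inv] at this⟩
  left_inv k := Subtype.ext (by
    change h⁻¹ * (h * k * h⁻¹) * h = k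
    group)
  right_inv k := Subtype.ext (by
    change h * (h⁻¹ * k * h) * h⁻¹ = k
    group)
  map_mul' a b := Subtype.ext (by
    change h * (a * b) * h⁻¹ = h * a * h⁻¹ * (h * b * h⁻¹)
    group)

/-- `Pr (C_K(e)) ≤ Pr (C(z) ∩ C(e))`. -/
theorem map_Pr_Fx_le (F : FrA K z) {e : G} (he : e * z = z * e) :
    (Pr (Fx (F.act he))).map K.subtype ≤ Pr (Ce z ⊓ Ce e) := by
  rw [map_Pr K.subtype_injective]
  apply Pr_mono
  rintro _ ⟨x, hx, rfl⟩
  refine ⟨F.Kz x x.2, ?_⟩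
  have h1 : e * (x : G) * e⁻¹ = x := congrArg Subtype.val hx
  change (x : G) * e = e * x
  rw [mul_inv_eq_iff_eq_mul] at h1
  exact h1.symm

theorem conj_sq (F : FrA K z) (g : G) : g * z * g⁻¹ * (g * z * g⁻¹) = 1 := by
  calc g * z * g⁻¹ * (g * z * g⁻¹) = g * (z * z) * g⁻¹ := by group
    _ = 1 := by rw [F.zz]; group

theorem conj_ne_one (F : FrA K z) (g : G) : g * z * g⁻¹ ≠ 1 := by
  intro h
  apply F.z1
  calc z = g⁻¹ * (g * z * g⁻¹) * g := by group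
    _ = 1 := by rw [h]; group

/-- If `z` lies in the perfect residue of `C(z) ∩ C(e')`, then `e` lies in the residue of `C(z) ∩ C(e)`. -/
theorem mem_of_res {g : G} (hz : z ∈ Pr (Ce z ⊓ Ce (g⁻¹ * z * g))) :
    g * z * g⁻¹ ∈ Pr (Ce z ⊓ Ce (g * z * g⁻¹)) := by
  rw [← Fr.map_conj_Pr]
  exact ⟨z, hz, rfl⟩

theorem comm_of_mem {e s : G} (hs : s ∈ Pr (Ce z ⊓ Ce e)) : e * s = s * e := by
  have h : s ∈ Ce z ⊓ Ce e := Pr_le _ hs
  exact (h.2 : s * e = e * s).symm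

theorem Pr_le_range (F : FrA K z) (e : G) : Pr (Ce z ⊓ Ce e) ≤ (phi K).range :=
  F.perf _ ((Pr_le _).trans inf_le_left) (Pr_perfect _)

/-- data of an inner conjugate: `g z g⁻¹ = k c` -/
structure Inn (K : Subgroup G) (z g : G) (k : ↥K) (c : G) : Prop where
  ne : g * z * g⁻¹ ≠ z
  comm : g * z * g⁻¹ * z = z * (g * z * g⁻¹)
  hc : c ∈ centralizer (K : Set G)
  eq : g * z * g⁻¹ = (k : G) * c

theorem exists_inn (F : FrA K z) {g : G} (hne : g * z * g⁻¹ ≠ z)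
    (h : g * z * g⁻¹ ∈ (phi K).range) : ∃ (k : ↥K) (c : G), Inn K z g k c := by
  obtain ⟨⟨k, c⟩, hx⟩ := h
  rw [phi_apply] at hx
  refine ⟨k, c, hne, ?_, c.2, hx.symm⟩
  rw [← hx]
  change (k : G) * c * z = z * (k * c)
  rw [mul_assoc, F.Cz c.2, ← mul_assoc, F.Kz k k.2, mul_assoc]

/-- `C_K(e) = C_K(k)` -/
theorem Inn.comm_iff {g : G} {k : ↥K} {c : G} (I : Inn K z g k c) (x : ↥K) :
    (x : G) * (g * z * g⁻¹) = g * z * g⁻¹ * x ↔ x ∈ Ce k := by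
  have h1 := comm_KC x.2 I.hc
  rw [I.eq]
  constructor
  · intro h
    apply Subtype.ext
    change (x : G) * k = k * x
    have h2 : (x : G) * k * c = k * x * c := by
      calc (x : G) * k * c = x * (k * c) := by group
        _ = k * c * x := h
        _ = k * x * c := by rw [mul_assoc, ← h1, mul_assoc]
    exact mul_right_cancel h2
  · intro h
    have h2 : (x : G) * k = k * x := congrArg Subtype.val h
    rw [← mul_assoc, h2, mul_assoc, h1, mul_assoc]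

theorem Inn.noncentral (F : FrA K z) {g : G} {k : ↥K} {c : G} (I : Inn K z g k c) : ∃ x, k * x ≠ x * k := by
  by_contra h
  push Not at h
  apply I.ne
  apply F.iso
  rw [I.eq]
  refine mul_mem ?_ I.hc
  rw [mem_centralizer_iff]
  intro y hy
  exact (congrArg Subtype.val (h ⟨y, hy⟩)).symm

theorem Inn.sq_central (F : FrA K z) {g : G} {k : ↥K} {c : G} (I : Inn K z g k c) (x : ↥K) :
    k * k * x = x * (k * k) := by
  have h1 := F.conj_sq g
  rw [I.eq] at h1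
  have h2 := comm_KC k.2 I.hc
  have h3 : (k : G) * k = (c * c)⁻¹ := by
    rw [eq_inv_iff_mul_eq_one]
    calc (k : G) * k * (c * c) = k * (k * c) * c := by group
      _ = k * (c * k) * c := by rw [h2]
      _ = k * c * (k * c) := by group
      _ = 1 := h1
  apply Subtype.ext
  change (k : G) * k * x = x * (k * k)
  rw [h3]
  exact (comm_KC x.2 (inv_mem (mul_mem I.hc I.hc))).symm

/-- `Pr (C_K(k)) ≤ Pr (C(z) ∩ C(e))` -/
theorem Inn.map_le (F : FrA K z) {g : G} {k : ↥K} {c : G} (I : Inn K z g k c) :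
    (Pr (Ce k)).map K.subtype ≤ Pr (Ce z ⊓ Ce (g * z * g⁻¹)) := by
  rw [map_Pr K.subtype_injective]
  apply Pr_mono
  rintro _ ⟨x, hx, rfl⟩
  exact ⟨F.Kz x x.2, (I.comm_iff x).2 hx⟩

theorem Inn.z_mem (F : FrA K z) (H : Facts (⟨z, F.zK⟩ : ↥K)) {g : G} {k : ↥K} {c : G} (I : Inn K z g k c) :
    z ∈ Pr (Ce z ⊓ Ce (g * z * g⁻¹)) :=
  I.map_le F ⟨_, H.res k (I.noncentral F) (I.sq_central F), rfl⟩

theorem ne_swap {g : G} (h : g * z * g⁻¹ ≠ z) : g⁻¹ * z * g⁻¹⁻¹ ≠ z := by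
  intro h1
  apply h
  calc g * z * g⁻¹ = g * (g⁻¹ * z * g⁻¹⁻¹) * g⁻¹ := by rw [h1]
    _ = z := by group

/-- the other conjugate is inner, too -/
theorem Inn.swap (F : FrA K z) (H : Facts (⟨z, F.zK⟩ : ↥K)) {g : G} {k : ↥K} {c : G} (I : Inn K z g k c) :
    ∃ (k' : ↥K) (c' : G), Inn K z g⁻¹ k' c' := by
  apply F.exists_inn (ne_swap I.ne)
  have h1 := mem_of_res (g := g⁻¹) (by rw [inv_inv]; exact I.z_mem F H)
  exact F.Pr_le_range _ h1

/-- the residue of `C(z) ∩ C(e)` projects into `Pr (C_K(k))` -/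
theorem Inn.pr_le (F : FrA K z) {g : G} {k : ↥K} {c : G} (I : Inn K z g k c) {S : Subgroup G}
    (hS : S ≤ Pr (Ce z ⊓ Ce (g * z * g⁻¹))) (hp : ⁅S, S⁆ = S) : pr K S ≤ Pr (Ce k) := by
  have hS' : S ≤ (phi K).range := hS.trans (F.Pr_le_range _)
  apply le_Pr _ (pr_perfect hS' hp)
  intro x hx
  rw [← I.comm_iff]
  have h1 := comm_of_pr (x := g * z * g⁻¹) (F.nrm _ I.comm) (F.nrmC I.comm)
    (fun s hs => comm_of_mem (hS hs)) hx
  exact h1.symm

/-- the perfect residue of `C_C(e)` -/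
def J (K : Subgroup G) (z g : G) : Subgroup G := Pr (centralizer (K : Set G) ⊓ Ce (g * z * g⁻¹))

theorem J_le (F : FrA K z) (g : G) : J K z g ≤ Pr (Ce z ⊓ Ce (g * z * g⁻¹)) := by
  apply Pr_mono
  rintro x ⟨h1, h2⟩
  exact ⟨F.Cz h1, h2⟩

theorem conj_J (F : FrA K z) {g h : G} (h1 : h * z = z * h) (h2 : h * (g * z * g⁻¹) = g * z * g⁻¹ * h)
    {x : G} (hx : x ∈ J K z g) : h * x * h⁻¹ ∈ J K z g := by
  have h3 : (J K z g).map (MulAut.conj h).toMonoidHom ≤ J K z g := by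
    apply le_Pr
    · rintro _ ⟨y, hy, rfl⟩
      obtain ⟨hy1, hy2⟩ := (Pr_le _) hy
      refine ⟨F.nrmC h1 y hy1, ?_⟩
      change h * y * h⁻¹ * (g * z * g⁻¹) = g * z * g⁻¹ * (h * y * h⁻¹)
      have hy3 : y * (g * z * g⁻¹) = g * z * g⁻¹ * y := hy2
      set e := g * z * g⁻¹
      have h4 : h⁻¹ * e = e * h⁻¹ := by
        rw [inv_mul_eq_iff_eq_mul, ← mul_assoc, h2, mul_inv_cancel_right]
      calc h * y * h⁻¹ * e = h * y * (h⁻¹ * e) := by group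
        _ = h * (y * e) * h⁻¹ := by rw [h4]; group
        _ = (h * e) * y * h⁻¹ := by rw [hy3]; group
        _ = e * (h * y * h⁻¹) := by rw [h2]; group
    · rw [← map_commutator]
      congr 1
      exact Pr_perfect _
  exact h3 ⟨x, hx, rfl⟩

/-- **`J = 1`** -/
theorem Inn.J_eq_bot (F : FrA K z) (H : Facts (⟨z, F.zK⟩ : ↥K)) {g : G} {k : ↥K} {c : G}
    (I : Inn K z g k c) : J K z g = ⊥ := by
  obtain ⟨k', c', I'⟩ := I.swap F H
  have hi : (g⁻¹ : G)⁻¹ = g := inv_inv g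
  -- the images under conjugation by `g⁻¹`
  set f : G →* G := (MulAut.conj g⁻¹).toMonoidHom with hf
  have hfa : ∀ x, f x = g⁻¹ * x * g := fun x => by
    change g⁻¹ * x * g⁻¹⁻¹ = _
    rw [inv_inv]
  have hL : (Pr (Ce z ⊓ Ce (g * z * g⁻¹))).map f = Pr (Ce z ⊓ Ce (g⁻¹ * z * g⁻¹⁻¹)) := by
    have := Fr.map_conj_Pr (z := z) g⁻¹
    rw [hi] at this
    rw [hi]
    exact this
  have hJp : ⁅J K z g, J K z g⁆ = J K z g := Pr_perfect _
  have hJ1 : (J K z g).map f ≤ Pr (Ce z ⊓ Ce (g⁻¹ * z * g⁻¹⁻¹)) := by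
    rw [← hL]; exact map_mono (F.J_le g)
  have hJ1p : ⁅(J K z g).map f, (J K z g).map f⁆ = (J K z g).map f := by
    rw [← map_commutator, hJp]
  have hJ1r := hJ1.trans (F.Pr_le_range _)
  -- the image of the residue of `K`
  set P := (Pr (Ce k)).map K.subtype with hP
  have hPp : ⁅P, P⁆ = P := by rw [hP, ← map_commutator, Pr_perfect]
  have hP1 : P.map f ≤ Pr (Ce z ⊓ Ce (g⁻¹ * z * g⁻¹⁻¹)) := by
    rw [← hL]; exact map_mono (I.map_le F)
  have hP1p : ⁅P.map f, P.map f⁆ = P.map f := by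
    rw [← map_commutator, hPp]
  have hP1r := hP1.trans (F.Pr_le_range _)
  -- they commute
  have hcom : ∀ x ∈ P.map f, ∀ y ∈ (J K z g).map f, x * y = y * x := by
    rintro _ ⟨x, hx, rfl⟩ _ ⟨y, hy, rfl⟩
    have hxK : x ∈ K := by
      obtain ⟨x', _, rfl⟩ := hx
      exact x'.2
    have h1 := comm_KC hxK ((Pr_le _) hy).1
    rw [← map_mul, ← map_mul, h1]
  have hJJ : ∀ x ∈ Pr (Ce z ⊓ Ce (g⁻¹ * z * g⁻¹⁻¹)), ∀ y ∈ (J K z g).map f,
      x * y * x⁻¹ ∈ (J K z g).map f := by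
    intro x hx y hy
    rw [← hL] at hx
    obtain ⟨x', hx', rfl⟩ := hx
    obtain ⟨y', hy', rfl⟩ := hy
    obtain ⟨h1, h2⟩ := (Pr_le _) hx'
    exact ⟨x' * y' * x'⁻¹, F.conj_J h1 h2 hy', by rw [map_mul, map_mul, map_inv]⟩
  have hzin : ∀ x ∈ Pr (Ce z ⊓ Ce (g⁻¹ * z * g⁻¹⁻¹)), x * z = z * x := fun x hx => ((Pr_le _) hx).1
  -- the projection of `J₁`
  have hN := I'.pr_le F hJ1 hJ1p
  rcases H.sf k' (I'.noncentral F) (I'.sq_central F) (pr K ((J K z g).map f)) hN (pr_perfect hJ1r hJ1p)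
    (by
      intro p hp n hn
      apply conj_pr _ hn
      intro s hs
      exact hJJ p (I'.map_le F ⟨p, hp, rfl⟩) s hs) with h | h
  · -- `J₁ ≤ C`
    have h1 := le_centralizer_of_pr hJ1r hJ1p h
    apply F.tight g I.ne _ hJp ((Pr_le _).trans inf_le_left)
    intro p hp x hx
    have h2 := comm_KC hx (h1 ⟨p, hp, rfl⟩)
    rw [hfa] at h2
    calc p * (g * x * g⁻¹) = g * (g⁻¹ * p * g * x) * g⁻¹ := by group
      _ = g * (x * (g⁻¹ * p * g)) * g⁻¹ := by rw [h2]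
      _ = g * x * g⁻¹ * p := by group
  · -- `N = Pr (C_K(k'))`
    exfalso
    have hcomN : ∀ x ∈ P.map f, ∀ n ∈ Pr (Ce k'), x * (n : G) = n * x := by
      intro x hx n hn
      rw [← h] at hn
      exact comm_of_pr (F.nrm _ (hzin x (hP1 hx))) (F.nrmC (hzin x (hP1 hx))) (hcom x hx) hn
    have hprP := I'.pr_le F hP1 hP1p
    have hcomP : ∀ n ∈ Pr (Ce k'), ∀ q ∈ pr K (P.map f), n * q = q * n := by
      intro n hn q hq
      apply Subtype.ext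
      have hnz : (n : G) * z = z * n := F.Kz n n.2
      exact comm_of_pr (F.nrm _ hnz) (F.nrmC hnz) (fun s hs => (hcomN s hs n hn).symm) hq
    have hbot : pr K (P.map f) = ⊥ := by
      rw [← pr_perfect hP1r hP1p, eq_bot_iff, commutator_le]
      intro a ha b hb
      rw [mem_bot, commutatorElement_eq_one_iff_mul_comm]
      exact hcomP a (hprP ha) b hb
    have h2 := le_centralizer_of_pr hP1r hP1p hbot
    apply I'.ne
    apply F.iso
    apply h2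
    refine ⟨z, ?_, by rw [hfa, hi]⟩
    exact ⟨_, H.res k (I.noncentral F) (I.sq_central F), rfl⟩

/-- the perfect residue of `C(z) ∩ C(e)` lies in `K` -/
theorem Inn.res_le (F : FrA K z) (H : Facts (⟨z, F.zK⟩ : ↥K)) {g : G} {k : ↥K} {c : G}
    (I : Inn K z g k c) : Pr (Ce z ⊓ Ce (g * z * g⁻¹)) ≤ K := by
  have hJ := I.J_eq_bot F H
  set S := Pr (Ce z ⊓ Ce (g * z * g⁻¹)) with hS
  have hSr : S ≤ (phi K).range := F.Pr_le_range _
  have hSp : ⁅S, S⁆ = S := Pr_perfect _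
  -- the projection to `C`
  have hQ : ((Lf K S).map (MonoidHom.snd _ _)).map (centralizer (K : Set G)).subtype ≤ J K z g := by
    apply le_Pr
    · rintro _ ⟨_, ⟨t, ht, rfl⟩, rfl⟩
      refine ⟨t.2.2, ?_⟩
      have h1 := (comm_pr (x := g * z * g⁻¹) (F.nrm _ I.comm) (F.nrmC I.comm)
        (fun s hs => comm_of_mem hs) t ht).2
      exact h1.symm
    · rw [← map_commutator, ← map_commutator, Lf_perfect hSr hSp]
  intro s hs
  rw [← map_Lf hSr hSp] at hs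
  obtain ⟨t, ht, rfl⟩ := hs
  have h1 : (t.2 : G) ∈ J K z g := hQ ⟨t.2, ⟨t, ht, rfl⟩, rfl⟩
  rw [hJ, mem_bot] at h1
  rw [phi_apply, h1, mul_one]
  exact t.1.2

theorem map_Pr_Ce (F : FrA K z) {f : G} (hf : f ∈ K) (hL : Pr (Ce z ⊓ Ce f) ≤ K) :
    (Pr (Ce (⟨f, hf⟩ : ↥K))).map K.subtype = Pr (Ce z ⊓ Ce f) := by
  rw [map_Pr K.subtype_injective]
  apply le_antisymm
  · apply Pr_mono
    rintro _ ⟨x, hx, rfl⟩
    exact ⟨F.Kz x x.2, congrArg Subtype.val hx⟩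
  · apply le_Pr _ (Pr_perfect _)
    intro x hx
    exact ⟨⟨x, hL hx⟩, Subtype.ext ((Pr_le _) hx).2, rfl⟩

/-- the automorphism of the residues given by conjugation with `g⁻¹` -/
theorem bad (F : FrA K z) {g : G} (hez : g * z * g⁻¹ ≠ z)
    (heK : g * z * g⁻¹ ∈ K) (heK' : g⁻¹ * z * g ∈ K)
    (hL : Pr (Ce z ⊓ Ce (g * z * g⁻¹)) ≤ K) (hL' : Pr (Ce z ⊓ Ce (g⁻¹ * z * g)) ≤ K)
    (hr : ∀ f : ↥K, f * f = 1 → f ≠ 1 → f ≠ ⟨z, F.zK⟩ → (⟨z, F.zK⟩ : ↥K) ∈ Pr (Ce f)) :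
    Bad (⟨z, F.zK⟩ : ↥K) ⟨g * z * g⁻¹, heK⟩ ⟨g⁻¹ * z * g, heK'⟩ := by
  have hne' := Fr.ne_swap hez
  have hsq' : g⁻¹ * z * g * (g⁻¹ * z * g) = 1 := by simpa using F.conj_sq g⁻¹
  have hn1' : g⁻¹ * z * g ≠ 1 := by simpa using F.conj_ne_one g⁻¹
  have hz1 : (⟨z, F.zK⟩ : ↥K) ∈ Pr (Ce (⟨g * z * g⁻¹, heK⟩ : ↥K)) :=
    hr _ (Subtype.ext (F.conj_sq g)) (fun h => F.conj_ne_one g (congrArg Subtype.val h))
      (fun h => hez (congrArg Subtype.val h))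
  have hz2 : (⟨z, F.zK⟩ : ↥K) ∈ Pr (Ce (⟨g⁻¹ * z * g, heK'⟩ : ↥K)) :=
    hr _ (Subtype.ext hsq') (fun h => hn1' (congrArg Subtype.val h)) (fun h => hne' (congrArg Subtype.val h))
  -- conjugation by `g⁻¹`
  have key : ∀ x : ↥K, x ∈ Pr (Ce (⟨g * z * g⁻¹, heK⟩ : ↥K)) →
      ∃ h : g⁻¹ * x * g ∈ K, (⟨g⁻¹ * x * g, h⟩ : ↥K) ∈ Pr (Ce (⟨g⁻¹ * z * g, heK'⟩ : ↥K)) := by
    intro x hx
    have h1 : (x : G) ∈ Pr (Ce z ⊓ Ce (g * z * g⁻¹)) := by
      rw [← F.map_Pr_Ce heK hL]; exact ⟨x, hx, rfl⟩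
    rw [← Fr.map_conj_Pr] at h1
    obtain ⟨y, hy, hyx⟩ := h1
    have h4 : g * y * g⁻¹ = x := hyx
    have h5 : g⁻¹ * x * g = y := by rw [← h4]; group
    rw [← F.map_Pr_Ce heK' hL'] at hy
    obtain ⟨y', hy', hyy⟩ := hy
    have h6 : (y' : G) = g⁻¹ * x * g := by rw [h5]; exact hyy
    refine ⟨by rw [← h6]; exact y'.2, ?_⟩
    have : (⟨g⁻¹ * x * g, by rw [← h6]; exact y'.2⟩ : ↥K) = y' := Subtype.ext h6.symm
    rw [this]; exact hy'
  have key' : ∀ x : ↥K, x ∈ Pr (Ce (⟨g⁻¹ * z * g, heK'⟩ : ↥K)) →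
      ∃ h : g * x * g⁻¹ ∈ K, (⟨g * x * g⁻¹, h⟩ : ↥K) ∈ Pr (Ce (⟨g * z * g⁻¹, heK⟩ : ↥K)) := by
    intro x hx
    have h1 : (x : G) ∈ Pr (Ce z ⊓ Ce (g⁻¹ * z * g)) := by
      rw [← F.map_Pr_Ce heK' hL']; exact ⟨x, hx, rfl⟩
    have h2 : g * x * g⁻¹ ∈ Pr (Ce z ⊓ Ce (g * z * g⁻¹)) := by
      rw [← Fr.map_conj_Pr]; exact ⟨x, h1, rfl⟩
    rw [← F.map_Pr_Ce heK hL] at h2
    obtain ⟨y', hy', hyy⟩ := h2
    have h6 : (y' : G) = g * x * g⁻¹ := hyy
    refine ⟨by rw [← h6]; exact y'.2, ?_⟩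
    have : (⟨g * x * g⁻¹, by rw [← h6]; exact y'.2⟩ : ↥K) = y' := Subtype.ext h6.symm
    rw [this]; exact hy'
  let φ : ↥(Pr (Ce (⟨g * z * g⁻¹, heK⟩ : ↥K))) ≃* ↥(Pr (Ce (⟨g⁻¹ * z * g, heK'⟩ : ↥K))) :=
    { toFun := fun x => ⟨⟨g⁻¹ * x * g, (key x x.2).choose⟩, (key x x.2).choose_spec⟩
      invFun := fun x => ⟨⟨g * x * g⁻¹, (key' x x.2).choose⟩, (key' x x.2).choose_spec⟩
      left_inv := fun x => Subtype.ext (Subtype.ext (by
        change g * (g⁻¹ * x * g) * g⁻¹ = x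
        group))
      right_inv := fun x => Subtype.ext (Subtype.ext (by
        change g⁻¹ * (g * x * g⁻¹) * g = x
        group))
      map_mul' := fun x y => Subtype.ext (Subtype.ext (by
        change g⁻¹ * (x * y) * g = g⁻¹ * x * g * (g⁻¹ * y * g)
        group)) }
  -- `e` is in its own residue (image of `z`)
  have he : (⟨g * z * g⁻¹, heK⟩ : ↥K) ∈ Pr (Ce (⟨g * z * g⁻¹, heK⟩ : ↥K)) := (key' _ hz2).choose_spec
  have he' : (⟨g⁻¹ * z * g, heK'⟩ : ↥K) ∈ Pr (Ce (⟨g⁻¹ * z * g, heK'⟩ : ↥K)) := (key _ hz1).choose_spec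
  refine ⟨he, hz1, he', hz2, φ, ?_, ?_⟩
  · apply Subtype.ext
    apply Subtype.ext
    change g⁻¹ * (g * z * g⁻¹) * g = z
    group
  · rfl

/-- **An inner conjugate lies in `K`**, with both residues. -/
theorem mem_of_inn (F : FrA K z) (H : Facts (⟨z, F.zK⟩ : ↥K)) {g : G} (hne : g * z * g⁻¹ ≠ z)
    (h : g * z * g⁻¹ ∈ (phi K).range) :
    g * z * g⁻¹ ∈ K ∧ g⁻¹ * z * g ∈ K ∧ Pr (Ce z ⊓ Ce (g * z * g⁻¹)) ≤ K ∧
      Pr (Ce z ⊓ Ce (g⁻¹ * z * g)) ≤ K := by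
  obtain ⟨k, c, I⟩ := F.exists_inn hne h
  obtain ⟨k', c', I'⟩ := I.swap F H
  have h1 := I.res_le F H
  have h2 := I'.res_le F H
  have h3 := I.z_mem F H
  have h4 := I'.z_mem F H
  rw [inv_inv] at h2 h4
  have h5 := mem_of_res h4
  have h6 := mem_of_res (g := g⁻¹) (by rw [inv_inv]; exact h3)
  rw [inv_inv] at h6
  exact ⟨h1 h5, h2 h6, h1, h2⟩

theorem mem_range_of_mem {x : G} (hx : x ∈ K) : x ∈ (phi K).range :=
  ⟨(⟨x, hx⟩, 1), by rw [phi_apply]; simp⟩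

/-- (I) ⟹ `z^G ∩ K C = {z}`. -/
theorem eq_of_mem (F : FrA K z) (H : Facts (⟨z, F.zK⟩ : ↥K)) (hI : NoBad (⟨z, F.zK⟩ : ↥K)) (g : G)
    (heK : g * z * g⁻¹ ∈ (phi K).range) : g * z * g⁻¹ = z := by
  by_contra hez
  obtain ⟨h1, h2, h3, h4⟩ := F.mem_of_inn H hez heK
  have hne' := Fr.ne_swap hez
  have hsq' : g⁻¹ * z * g * (g⁻¹ * z * g) = 1 := by simpa using F.conj_sq g⁻¹
  have hn1' : g⁻¹ * z * g ≠ 1 := by simpa using F.conj_ne_one g⁻¹
  exact hI.bad _ _ (Subtype.ext (F.conj_sq g)) (fun h => F.conj_ne_one g (congrArg Subtype.val h))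
    (fun h => hez (congrArg Subtype.val h)) (Subtype.ext hsq') (fun h => hn1' (congrArg Subtype.val h))
    (fun h => hne' (congrArg Subtype.val h)) (F.bad hez h1 h2 h3 h4 hI.res)

/-- (I') ⟹ `z^G ∩ K C = {z}`. -/
theorem eq_of_mem_pf (F : FrA K z) (H : Facts (⟨z, F.zK⟩ : ↥K)) {C : Set ↥K}
    (hI : PF (⟨z, F.zK⟩ : ↥K) C) (g : G)
    (heR : g * z * g⁻¹ ∈ (phi K).range) : g * z * g⁻¹ = z := by
  by_contra hez
  obtain ⟨heK, -, -, -⟩ := F.mem_of_inn H hez heR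
  -- all the elements of `z^G ∩ K - {z}` are in `C`
  have hC : ∀ g : G, ∀ h : g * z * g⁻¹ ∈ K, g * z * g⁻¹ ≠ z → (⟨g * z * g⁻¹, h⟩ : ↥K) ∈ C := by
    intro g h hne
    obtain ⟨h1, h2, h3, h4⟩ := F.mem_of_inn H hne (mem_range_of_mem h)
    have hne' := Fr.ne_swap hne
    have hsq' : g⁻¹ * z * g * (g⁻¹ * z * g) = 1 := by simpa using F.conj_sq g⁻¹
    have hn1' : g⁻¹ * z * g ≠ 1 := by simpa using F.conj_ne_one g⁻¹
    exact hI.bad _ _ (Subtype.ext (F.conj_sq g)) (fun h => F.conj_ne_one g (congrArg Subtype.val h))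
      (fun h => hne (congrArg Subtype.val h)) (Subtype.ext hsq') (fun h => hn1' (congrArg Subtype.val h))
      (fun h => hne' (congrArg Subtype.val h)) (F.bad hne h h2 h3 h4 hI.res)
  -- and conversely
  have hA : ∀ f : ↥K, f ∈ C → ∃ a : G, a * z * a⁻¹ = f := by
    intro f hf
    obtain ⟨k, hk⟩ := hI.conj _ (hC g heK hez) f hf
    refine ⟨k * g, ?_⟩
    have := congrArg Subtype.val hk
    rw [← this]
    change k * g * z * (k * g)⁻¹ = k * (g * z * g⁻¹) * (k : G)⁻¹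
    group
  obtain ⟨x, hx, y, hy, hyx, hxy⟩ := hI.triple
  obtain ⟨a, ha⟩ := hA x hx
  obtain ⟨b, hb⟩ := hA y hy
  obtain ⟨c, hc⟩ := hA _ hxy
  have haK : a * z * a⁻¹ ∈ K := by rw [ha]; exact x.2
  have hxz : ∀ f : ↥K, f ∈ C → (f : G) ≠ z := by
    intro f hf hfz
    obtain ⟨k, hk⟩ := hI.conj _ hf _ (hC g heK hez)
    apply hez
    have := congrArg Subtype.val hk
    change (k : G) * f * (k : G)⁻¹ = g * z * g⁻¹ at this
    rw [← this, hfz, F.Kz k k.2]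
    group
  have hane : a * z * a⁻¹ ≠ z := by rw [ha]; exact hxz x hx
  obtain ⟨-, -, hLa, hLa'⟩ := F.mem_of_inn H hane (mem_range_of_mem haK)
  -- `y₁ = a⁻¹ y a ∈ K`
  have h2 : a⁻¹ * y * a ∈ K := by
    have h1 : (y : G) ∈ Pr (Ce z ⊓ Ce (a * z * a⁻¹)) := by
      rw [← F.map_Pr_Ce haK hLa]
      have h3 : (⟨a * z * a⁻¹, haK⟩ : ↥K) = x := Subtype.ext ha
      rw [h3]
      exact ⟨y, hyx, rfl⟩
    rw [← Fr.map_conj_Pr] at h1
    obtain ⟨y', hy', hyy⟩ := h1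
    have h4 : a * y' * a⁻¹ = y := hyy
    have h5 : a⁻¹ * y * a = y' := by rw [← h4]; group
    rw [h5]
    exact hLa' hy'
  -- `y₁` and `z y₁` are conjugates of `z` in `K`
  have h3 : (a⁻¹ * b) * z * (a⁻¹ * b)⁻¹ = a⁻¹ * y * a := by
    calc (a⁻¹ * b) * z * (a⁻¹ * b)⁻¹ = a⁻¹ * (b * z * b⁻¹) * a := by group
      _ = _ := by rw [hb]
  have h4 : (a⁻¹ * c) * z * (a⁻¹ * c)⁻¹ = z * (a⁻¹ * y * a) := by
    calc (a⁻¹ * c) * z * (a⁻¹ * c)⁻¹ = a⁻¹ * (c * z * c⁻¹) * a := by group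
      _ = a⁻¹ * (x * y) * a := by rw [hc]; rfl
      _ = a⁻¹ * (a * z * a⁻¹ * y) * a := by rw [ha]
      _ = _ := by group
  have h5 : a⁻¹ * y * a ≠ z := by
    intro h
    -- `y = a z a⁻¹ = x`, `x y = 1`
    have h6 : (y : G) = a * z * a⁻¹ := by rw [← h]; group
    have h7 : (y : G) = x := by rw [h6, ha]
    apply F.conj_ne_one c
    rw [hc]
    change (x : G) * y = 1
    rw [h7, ← ha, F.conj_sq]
  have h6 : z * (a⁻¹ * y * a) ≠ z := by
    intro h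
    rw [mul_eq_left] at h
    have h7 : (y : G) = 1 := by
      calc (y : G) = a * (a⁻¹ * y * a) * a⁻¹ := by group
        _ = 1 := by rw [h]; group
    apply F.conj_ne_one b
    rw [hb, h7]
  have h7 := hC (a⁻¹ * b) (by rw [h3]; exact h2) (by rw [h3]; exact h5)
  have h8 := hC (a⁻¹ * c) (by rw [h4]; exact K.mul_mem F.zK h2) (by rw [h4]; exact h6)
  apply hI.dis _ h7
  have h9 : (⟨(a⁻¹ * b) * z * (a⁻¹ * b)⁻¹, by rw [h3]; exact h2⟩ : ↥K) * ⟨z, F.zK⟩ =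
      ⟨(a⁻¹ * c) * z * (a⁻¹ * c)⁻¹, by rw [h4]; exact K.mul_mem F.zK h2⟩ := by
    apply Subtype.ext
    change (a⁻¹ * b) * z * (a⁻¹ * b)⁻¹ * z = (a⁻¹ * c) * z * (a⁻¹ * c)⁻¹
    rw [h3, h4, F.Kz _ h2]
  rw [h9]
  exact h8

/-- Theorem B -/
theorem thmB (F : FrA K z) (hK : ∀ g : G, g * z * g⁻¹ ∈ (phi K).range → g * z * g⁻¹ = z) {g x q : G}
    (hx : x ∈ Pr (Ce z ⊓ Ce (g * z * g⁻¹))) (hx1 : x ≠ 1)
    (hq : g * z * g⁻¹ * q * (g * z * g⁻¹)⁻¹ = q * x) : False := by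
  have hxe : x * (g * z * g⁻¹) = g * z * g⁻¹ * x := ((Pr_le _) hx).2
  have h1 : q⁻¹ * (g * z * g⁻¹) * q = g * z * g⁻¹ * x := by
    rw [mul_inv_eq_iff_eq_mul] at hq
    rw [mul_assoc, hq, ← hxe]
    group
  have h2 : g⁻¹ * x * g ∈ (phi K).range := by
    have h3 : x ∈ (Pr (Ce z ⊓ Ce (g⁻¹ * z * g))).map (MulAut.conj g).toMonoidHom := by
      rw [Fr.map_conj_Pr]; exact hx
    obtain ⟨y, hy, hyx⟩ := h3
    have h4 : g * y * g⁻¹ = x := hyx
    have h5 : g⁻¹ * x * g = y := by rw [← h4]; group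
    rw [h5]
    exact F.Pr_le_range _ hy
  have h3 : (g⁻¹ * q⁻¹ * g) * z * (g⁻¹ * q⁻¹ * g)⁻¹ = z * (g⁻¹ * x * g) := by
    calc (g⁻¹ * q⁻¹ * g) * z * (g⁻¹ * q⁻¹ * g)⁻¹ = g⁻¹ * (q⁻¹ * (g * z * g⁻¹) * q) * g := by group
      _ = g⁻¹ * (g * z * g⁻¹ * x) * g := by rw [h1]
      _ = _ := by group
  have h4 := hK (g⁻¹ * q⁻¹ * g) (by rw [h3]; exact mul_mem (mem_range_of_mem F.zK) h2)
  rw [h3, mul_eq_left] at h4
  apply hx1
  calc x = g * (g⁻¹ * x * g) * g⁻¹ := by group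
    _ = 1 := by rw [h4]; group

/-- (II) and `z^G ∩ K C = {z}` contradict the frame. -/
theorem false_of_out (F : FrA K z) (hK : ∀ g : G, g * z * g⁻¹ ∈ (phi K).range → g * z * g⁻¹ = z)
    (H : Facts (⟨z, F.zK⟩ : ↥K)) : False := by
  obtain ⟨g, hne, hcomm⟩ := F.ne
  have hnK : g * z * g⁻¹ ∉ (phi K).range := fun h => hne (hK g h)
  have hnK' : g⁻¹ * z * g⁻¹⁻¹ ∉ (phi K).range := fun h => ne_swap hne (hK g⁻¹ h)
  have hee := F.conj_sq g
  -- the automorphism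
  have h1 : F.act hcomm * F.act hcomm = 1 := by
    ext k
    change g * z * g⁻¹ * (g * z * g⁻¹ * k * (g * z * g⁻¹)⁻¹) * (g * z * g⁻¹)⁻¹ = k
    calc g * z * g⁻¹ * (g * z * g⁻¹ * k * (g * z * g⁻¹)⁻¹) * (g * z * g⁻¹)⁻¹
        = (g * z * g⁻¹ * (g * z * g⁻¹)) * k * (g * z * g⁻¹ * (g * z * g⁻¹))⁻¹ := by group
      _ = k := by rw [hee]; group
  have h3 : ∀ f : ↥K, F.act hcomm ≠ MulAut.conj f := by
    intro f h
    apply hnK
    have hfe : ∀ k ∈ K, g * z * g⁻¹ * k * (g * z * g⁻¹)⁻¹ = f * k * (f : G)⁻¹ := fun k hk => by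
      have h5 := congrArg Subtype.val (DFunLike.congr_fun h ⟨k, hk⟩)
      exact h5
    refine ⟨(f, ⟨(f : G)⁻¹ * (g * z * g⁻¹), ?_⟩), ?_⟩
    · rw [mem_centralizer_iff]
      intro k hk
      have h4 := hfe k hk
      rw [mul_inv_eq_iff_eq_mul] at h4
      calc k * ((f : G)⁻¹ * (g * z * g⁻¹)) = (f : G)⁻¹ * (f * k * (f : G)⁻¹ * (g * z * g⁻¹)) := by group
        _ = (f : G)⁻¹ * (g * z * g⁻¹ * k) := by rw [← h4]
        _ = (f : G)⁻¹ * (g * z * g⁻¹) * k := by group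
    · rw [phi_apply]
      change (f : G) * ((f : G)⁻¹ * (g * z * g⁻¹)) = g * z * g⁻¹
      group
  rcases H.out (F.act hcomm) h1 h3 with h | ⟨x, hx, hx1, q, hq⟩
  · apply hnK'
    have h4 : z ∈ Pr (Ce z ⊓ Ce (g * z * g⁻¹)) := F.map_Pr_Fx_le hcomm ⟨_, h, rfl⟩
    have h5 := mem_of_res (g := g⁻¹) (by rw [inv_inv]; exact h4)
    exact F.Pr_le_range _ h5
  · have hx' : (x : G) ∈ Pr (Ce z ⊓ Ce (g * z * g⁻¹)) := F.map_Pr_Fx_le hcomm ⟨x, hx, rfl⟩
    exact F.thmB hK hx' (fun h => hx1 (Subtype.ext h)) (congrArg Subtype.val hq)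

/-- **The kill for arbitrary `C(K)`**, version (I). -/
theorem false (F : FrA K z) (H : Facts (⟨z, F.zK⟩ : ↥K)) (hI : NoBad (⟨z, F.zK⟩ : ↥K)) : False :=
  F.false_of_out (F.eq_of_mem H hI) H

/-- **The kill for arbitrary `C(K)`**, version (I'). -/
theorem false_pf (F : FrA K z) (H : Facts (⟨z, F.zK⟩ : ↥K)) {C : Set ↥K}
    (hI : PF (⟨z, F.zK⟩ : ↥K) C) : False :=
  F.false_of_out (F.eq_of_mem_pf H hI) H

end FrA

end Cfsg.Agent.OddHalf.D9.KillAny
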