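import Cfsg.Agent.OddHalf.D9.AmbOf
import Cfsg.Agent.OddHalf.D9.Kill
import Cfsg.Agent.Schreier.Basic
import Cfsg.Agent.J2Type.SimpleRed

/-!
# D9: the frame of `Kill` from `Ctx`, `Std`, `Cyc`; the rows

* `fr_of`: `K` standard of maximal order, `C(K)` with cyclic Sylow 2-subgroups, `z` an involution of `Z(K)`, `K / Z(K)`
  with the Schreier property: the frame `Kill.Fr K z`.
* `row_two`: a row of D9 with `|Z(K)| = 2` from the facts `KF` on `K`; `row_four`: with `Z(K)` of order 4.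
-/

set_option autoImplicit false

namespace Cfsg.Agent.OddHalf.D9.KillRow

open Subgroup Cfsg Cfsg.Agent.OddHalf.Iface Cfsg.Agent.OddHalf.D9.M12Glue Cfsg.Agent.OddHalf.D9.Kill
  Cfsg.Agent.Schreier.Basic
open scoped commutatorElement

universe u

/-! ### The Schreier property of a perfect central extension -/

theorem map_center {C : Type*} [Group C] (φ : MulAut C) : (center C).map φ.toMonoidHom = center C := by
  ext x
  constructor
  · rintro ⟨y, hy, rfl⟩
    rw [mem_center_iff]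
    intro g
    have h1 := mem_center_iff.1 hy (φ.symm g)
    have h2 := congrArg φ h1
    rwa [map_mul, map_mul, MulEquiv.apply_symm_apply] at h2
  · intro hx
    refine ⟨φ.symm x, ?_, MulEquiv.apply_symm_apply φ x⟩
    change φ.symm x ∈ center C
    rw [mem_center_iff]
    intro g
    apply φ.injective
    rw [map_mul, map_mul, MulEquiv.apply_symm_apply]
    exact mem_center_iff.1 hx (φ g)

/-- the action on the quotient by the centre -/
def quo (C : Type*) [Group C] : MulAut C →* MulAut (C ⧸ center C) where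
  toFun φ := QuotientGroup.congr (center C) (center C) φ (map_center φ)
  map_one' := by
    ext x
    induction x using QuotientGroup.induction_on with
    | H c => rfl
  map_mul' φ ψ := by
    ext x
    induction x using QuotientGroup.induction_on with
    | H c => rfl

theorem quo_mk {C : Type*} [Group C] (φ : MulAut C) (c : C) :
    quo C φ (QuotientGroup.mk c) = QuotientGroup.mk (φ c) := rfl

/-- the Schreier property from the quotient by the centre -/
theorem sch_of_center {C : Type*} [Group C] (hperf : commutator C = ⊤) (h : Sch (C ⧸ center C)) : Sch C := by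
  intro D hD φ hφ
  obtain ⟨y, hy⟩ := h (D.map (quo C)) (map_perfect _ hD) ⟨φ, hφ, rfl⟩
  obtain ⟨c, rfl⟩ := QuotientGroup.mk_surjective y
  have h2 : ∀ x : C, (c * x * c⁻¹)⁻¹ * φ x ∈ center C := by
    intro x
    have h3 := DFunLike.congr_fun hy (QuotientGroup.mk x)
    rw [MulAut.conj_apply, quo_mk] at h3
    rw [← QuotientGroup.eq]
    exact h3
  let δ : C →* center C :=
    { toFun := fun x => ⟨(c * x * c⁻¹)⁻¹ * φ x, h2 x⟩
      map_one' := by
        apply Subtype.ext
        simp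
      map_mul' := fun x y => by
        apply Subtype.ext
        change (c * (x * y) * c⁻¹)⁻¹ * φ (x * y) = (c * x * c⁻¹)⁻¹ * φ x * ((c * y * c⁻¹)⁻¹ * φ y)
        have h3 := mem_center_iff.1 (h2 x) (c * y * c⁻¹)⁻¹
        calc (c * (x * y) * c⁻¹)⁻¹ * φ (x * y) = (c * y * c⁻¹)⁻¹ * ((c * x * c⁻¹)⁻¹ * φ x) * φ y := by
              rw [map_mul]; group
          _ = _ := by rw [h3]; group }
  have h4 : ∀ x, δ x = 1 := by
    intro x
    have h5 : commutator C ≤ δ.ker := by
      rw [_root_.commutator_def, commutator_le]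
      intro a _ b _
      rw [MonoidHom.mem_ker, map_commutatorElement]
      exact commutatorElement_eq_one_iff_mul_comm.2 (Subtype.ext (mem_center_iff.1 (δ b).2 (δ a)))
    rw [hperf] at h5
    exact h5 (mem_top x)
  refine ⟨c, ?_⟩
  ext x
  have h5 : (c * x * c⁻¹)⁻¹ * φ x = 1 := congrArg Subtype.val (h4 x)
  rw [inv_mul_eq_one] at h5
  rw [MulAut.conj_apply, h5]

/-! ### The frame -/

variable {G : Type u} [Group G]

/-- the action of a subgroup of `C(z)` on `K` -/
def act {K P : Subgroup G} {z : G} (hK : ∀ h, h * z = z * h → ∀ k ∈ K, h * k * h⁻¹ ∈ K)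
    (hP : ∀ x ∈ P, x * z = z * x) : ↥P →* MulAut ↥K where
  toFun h :=
    { toFun := fun k => ⟨(h : G) * k * (h : G)⁻¹, hK h (hP h h.2) k k.2⟩
      invFun := fun k => ⟨(h : G)⁻¹ * k * (h : G), by
        have := hK ((h⁻¹ : ↥P) : G) (hP _ (h⁻¹).2) k k.2
        simpa using this⟩
      left_inv := fun k => Subtype.ext (by
        change (h : G)⁻¹ * ((h : G) * k * (h : G)⁻¹) * (h : G) = k
        group)
      right_inv := fun k => Subtype.ext (by
        change (h : G) * ((h : G)⁻¹ * k * (h : G)) * (h : G)⁻¹ = k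
        group)
      map_mul' := fun k k' => Subtype.ext (by
        change (h : G) * (k * k') * (h : G)⁻¹ = (h : G) * k * (h : G)⁻¹ * ((h : G) * k' * (h : G)⁻¹)
        group) }
  map_one' := by
    ext k
    change ((1 : ↥P) : G) * k * ((1 : ↥P) : G)⁻¹ = k
    simp
  map_mul' h h' := by
    ext k
    change ((h * h' : ↥P) : G) * k * ((h * h' : ↥P) : G)⁻¹ = (h : G) * ((h' : G) * k * (h' : G)⁻¹) * (h : G)⁻¹
    rw [Subgroup.coe_mul]
    group

theorem act_apply {K P : Subgroup G} {z : G} (hK : ∀ h, h * z = z * h → ∀ k ∈ K, h * k * h⁻¹ ∈ K)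
    (hP : ∀ x ∈ P, x * z = z * x) (h : ↥P) (k : ↥K) : ((act hK hP h k : ↥K) : G) = (h : G) * k * (h : G)⁻¹ := rfl

/-- perfect subgroups of `C(z)` lie in `K` -/
theorem perfect_le {K : Subgroup G} {z : G} (A : Amb z K) (hs : Sch ↥K) {P : Subgroup G}
    (hPz : ∀ x ∈ P, x * z = z * x) (hP : ⁅P, P⁆ = P) : P ≤ K := by
  have hpt : ⁅(⊤ : Subgroup ↥P), (⊤ : Subgroup ↥P)⁆ = ⊤ := by
    apply map_injective P.subtype_injective
    rw [map_commutator, ← MonoidHom.range_eq_map, range_subtype, hP]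
  have h1 : (act A.norm hPz).range ≤ (MulAut.conj : ↥K →* MulAut ↥K).range := by
    apply hs
    rw [MonoidHom.range_eq_map, ← map_commutator, hpt]
  have h2 : ∀ p ∈ P, ∃ k ∈ K, ∀ x ∈ K, (k⁻¹ * p) * x = x * (k⁻¹ * p) := by
    intro p hp
    obtain ⟨k, hk⟩ := h1 ⟨⟨p, hp⟩, rfl⟩
    refine ⟨k, k.2, fun x hx => ?_⟩
    have h3 : MulAut.conj k ⟨x, hx⟩ = act A.norm hPz ⟨p, hp⟩ ⟨x, hx⟩ := by rw [hk]
    have h4 : (k : G) * x * (k : G)⁻¹ = p * x * p⁻¹ := congrArg Subtype.val h3
    calc (k : G)⁻¹ * p * x = (k : G)⁻¹ * (p * x * p⁻¹) * p := by group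
      _ = (k : G)⁻¹ * (k * x * (k : G)⁻¹) * p := by rw [h4]
      _ = x * ((k : G)⁻¹ * p) := by group
  rw [← hP, commutator_le]
  intro p hp q hq
  obtain ⟨k, hk, hkc⟩ := h2 p hp
  obtain ⟨l, hl, hld⟩ := h2 q hq
  obtain ⟨c, hc⟩ : ∃ c, c = k⁻¹ * p := ⟨_, rfl⟩
  obtain ⟨d, hd⟩ : ∃ d, d = l⁻¹ * q := ⟨_, rfl⟩
  rw [← hc] at hkc
  rw [← hd] at hld
  have hpc : p = k * c := by rw [hc]; group
  have hqd : q = l * d := by rw [hd]; group
  have hcd := A.comm c d (fun x hx => hkc x hx) (fun x hx => hld x hx)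
  have h3 : p * q = k * l * (c * d) := by
    rw [hpc, hqd]
    calc k * c * (l * d) = k * (c * l) * d := by group
      _ = k * (l * c) * d := by rw [hkc l hl]
      _ = _ := by group
  have h4 : q * p = l * k * (c * d) := by
    rw [hpc, hqd]
    calc l * d * (k * c) = l * (d * k) * c := by group
      _ = l * (k * d) * c := by rw [hld k hk]
      _ = l * k * (d * c) := by group
      _ = _ := by rw [hcd]
  have h5 : ⁅p, q⁆ = k * l * (l * k)⁻¹ := by
    calc ⁅p, q⁆ = p * q * (q * p)⁻¹ := by rw [commutatorElement_def]; group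
      _ = _ := by rw [h3, h4]; group
  rw [h5]
  exact K.mul_mem (K.mul_mem hk hl) (K.inv_mem (K.mul_mem hl hk))

/-- an involution of a simple group commutes with another conjugate -/
theorem exists_ne [Finite G] [IsSimpleGroup G] (hna : ¬ IsMulCommutative G) {z : G} (zz : z * z = 1) (z1 : z ≠ 1) :
    ∃ g : G, g * z * g⁻¹ ≠ z ∧ g * z * g⁻¹ * z = z * (g * z * g⁻¹) := by
  by_contra hcon
  push Not at hcon
  refine Cfsg.Agent.J2Type.SimpleRed.not_isolated z
    ⟨orderOf_eq_prime (by rw [pow_two]; exact zz) z1, fun g hg => ?_⟩ ?_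
  · by_contra hne
    exact hcon g hne hg.symm
  · by_contra hcon2
    push Not at hcon2
    exact hna ⟨⟨hcon2⟩⟩

/-- **The frame.** -/
theorem fr_of_amb [Finite G] [IsSimpleGroup G] (hna : ¬ IsMulCommutative G) {K : Subgroup G} {z : G} (A : Amb z K)
    (zz : z * z = 1) (z1 : z ≠ 1) (Kz : ∀ k ∈ K, k * z = z * k) (hs : Sch ↥K) : Fr K z where
  zz := zz
  z1 := z1
  zK := A.zK
  Kz := Kz
  nrm := A.norm
  perf _ hP hPP := perfect_le A hs (fun _ hx => hP hx) hPP
  inv e _ hee he := A.one e he hee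
  ne := exists_ne hna zz z1

/-- **The frame**, from the standing hypotheses. -/
theorem fr_of (C : Ctx G) {K : Subgroup G} (S : Std0 G K) (hc : Cyc K) {z : G} (hzK : z ∈ K)
    (hz : ∀ k ∈ K, k * z = z * k) (hz1 : z ≠ 1) (hzz : z * z = 1) (hs : Sch (↥K ⧸ center ↥K)) : Fr K z := by
  have := C.fin
  have := C.simple
  exact fr_of_amb C.na (AmbOf.amb_of C S hc hzK hz hz1 hzz) hzz hz1 hz
    (sch_of_center S.std.1.1.commutator_eq_top hs)

/-! ### The rows -/

/-- The facts on `K` for the kill. -/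
def KF {K : Type u} [Group K] (z : K) : Prop := ((∃ C : Set K, PF z C) ∨ NoBad z) ∧ Outer z

theorem false_of_kf {K : Subgroup G} {z : ↥K} (F : Fr K (z : G)) (h : KF z) : False := by
  obtain ⟨⟨C, h1⟩ | h1, h2⟩ := h
  · exact F.false_pf h1 h2
  · exact F.false h1 h2

/-- the facts on the groups with `|Z(K)| = 2`, `K / Z(K)` with the property `P` -/
def Facts (P : (X : Type u) → [Group X] → Prop) : Prop :=
  ∀ (L : Type u) [Group L] [Finite L], IsQuasisimple L → Nat.card ↥(center L) = 2 → P (L ⧸ center L) →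
    ∀ c : L, c ≠ 1 → c * c = 1 → (∀ y, c * y = y * c) → KF c

/-- **Rows with `|Z(K)| = 2`.** -/
theorem row_two {P : (X : Type u) → [Group X] → Prop}
    (hs : ∀ (X : Type u) [Group X] [Finite X] [IsSimpleGroup X], ¬ IsMulCommutative X → P X → Sch X)
    (F : Facts P) : Cut.Row.{u} (fun K _ => Cut.Two P K) := by
  intro G _ C K S hc ⟨h2, hP⟩
  have := C.fin
  have := S.simple
  obtain ⟨⟨z, hz⟩, hz1, hzu⟩ := Nat.card_eq_two_iff' (1 : ↥(center ↥K)) |>.1 h2
  have hzc : ∀ y, z * y = y * z := fun y => (mem_center_iff.1 hz y).symm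
  have hz1' : z ≠ 1 := fun h => hz1 (Subtype.ext h)
  have hzz : z * z = 1 := by
    by_contra hne
    have h3 := hzu (⟨z, hz⟩ * ⟨z, hz⟩) (fun h => hne (congrArg Subtype.val h))
    have h4 : z * z = z := congrArg Subtype.val h3
    exact hz1' (mul_eq_left.1 h4)
  exact false_of_kf (fr_of C S hc z.2 (fun k hk => (congrArg Subtype.val (hzc ⟨k, hk⟩)).symm)
    (fun h => hz1' (Subtype.ext h)) (congrArg Subtype.val hzz) (hs _ S.quo_na hP))
    (F ↥K S.std.1 h2 hP z hz1' hzz hzc)

/-- **Rows with a centre of order 4.** -/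
theorem row_four {P : (X : Type u) → [Group X] → Prop}
    (hs : ∀ (X : Type u) [Group X] [Finite X] [IsSimpleGroup X], ¬ IsMulCommutative X → P X → Sch X)
    (F : ∀ (L : Type u) [Group L] [Finite L], IsQuasisimple L → Nat.card ↥(center L) = 4 → P (L ⧸ center L) →
      ∀ c : L, c ≠ 1 → c * c = 1 → (∀ y, c * y = y * c) → KF c) :
    Cut.Row.{u} (fun K _ => Nat.card ↥(center K) = 4 ∧ P (K ⧸ center K)) := by
  intro G _ C K S hc ⟨h4, hP⟩
  have := C.fin
  have := S.simple
  have hp : Fact (Nat.Prime 2) := ⟨Nat.prime_two⟩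
  obtain ⟨⟨z, hz⟩, ho⟩ := exists_prime_orderOf_dvd_card' (G := ↥(center ↥K)) 2 (by rw [h4]; norm_num)
  have hz1 : z ≠ 1 := by
    rintro rfl
    have h1 : (⟨1, hz⟩ : ↥(center ↥K)) = 1 := rfl
    rw [h1, orderOf_one] at ho
    exact absurd ho (by norm_num)
  have hzz : z * z = 1 := by
    have h1 := pow_orderOf_eq_one (⟨z, hz⟩ : ↥(center ↥K))
    rw [ho, pow_two] at h1
    exact congrArg Subtype.val h1
  have hzc : ∀ y, z * y = y * z := fun y => (mem_center_iff.1 hz y).symm
  exact false_of_kf (fr_of C S hc z.2 (fun k hk => (congrArg Subtype.val (hzc ⟨k, hk⟩)).symm)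
    (fun h => hz1 (Subtype.ext h)) (congrArg Subtype.val hzz) (hs _ S.quo_na hP))
    (F ↥K S.std.1 h4 hP z hz1 hzz hzc)

end Cfsg.Agent.OddHalf.D9.KillRow
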