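import Mathlib
import Cfsg.Prelude.Def_TwoFusion
import Cfsg.Agent.J2Type.SimpleRed

/-!
# The outer kill

`z` is an involution of `G`, `N ≤ C_G(z)` contains `z` and no other conjugate of `z`. `F` is a functor (`F a b` is a
characteristic subgroup of `C_G(a, b)`) with `F z e ≤ N` for the conjugates `e` of `z` in `C_G(z)`. If every conjugate `e ∈ C_G(z)`,
`e ∉ N`, is conjugate to `e * c` for some `1 ≠ c ∈ F z e`, then `z` is isolated.
-/

set_option autoImplicit false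

namespace Cfsg.Agent.OddHalf.D9.OutKill

open Subgroup

variable {G : Type*} [Group G]

/-- `F a b` depends only on the centraliser of `a` and `b` -/
structure Functor (F : G → G → Subgroup G) : Prop where
  symm : ∀ a b, F a b = F b a
  conj : ∀ a b g x, x ∈ F a b → g * x * g⁻¹ ∈ F (g * a * g⁻¹) (g * b * g⁻¹)

/-- the subgroup generated by the squares of the elements commuting with `a` and `b` -/
def Sq (a b : G) : Subgroup G := closure {x | ∃ y, y * a = a * y ∧ y * b = b * y ∧ y * y = x}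

theorem conj_comm {y a : G} (g : G) (h : y * a = a * y) :
    g * y * g⁻¹ * (g * a * g⁻¹) = g * a * g⁻¹ * (g * y * g⁻¹) := by
  calc g * y * g⁻¹ * (g * a * g⁻¹) = g * (y * a) * g⁻¹ := by group
    _ = g * (a * y) * g⁻¹ := by rw [h]
    _ = g * a * g⁻¹ * (g * y * g⁻¹) := by group

theorem functor_sq : Functor (Sq (G := G)) := by
  constructor
  · intro a b
    unfold Sq
    congr 1
    ext x
    constructor
    · rintro ⟨y, h1, h2, h3⟩; exact ⟨y, h2, h1, h3⟩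
    · rintro ⟨y, h1, h2, h3⟩; exact ⟨y, h2, h1, h3⟩
  · intro a b g x hx
    have h1 : Sq a b ≤ (Sq (g * a * g⁻¹) (g * b * g⁻¹)).comap (MulAut.conj g).toMonoidHom := by
      unfold Sq
      rw [closure_le]
      rintro x ⟨y, h1, h2, rfl⟩
      refine subset_closure ⟨g * y * g⁻¹, conj_comm g h1, conj_comm g h2, ?_⟩
      show g * y * g⁻¹ * (g * y * g⁻¹) = g * (y * y) * g⁻¹
      group
    exact h1 hx

/-- **OUT-KILL** -/
theorem isolated {z : G} {N : Subgroup G} {F : G → G → Subgroup G} (hF : Functor F)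
    (hz : orderOf z = 2) (hzN : z ∈ N)
    (hiso : ∀ g, g * z * g⁻¹ ∈ N → g * z * g⁻¹ = z)
    (hFN : ∀ g, g * z * g⁻¹ * z = z * (g * z * g⁻¹) → g * z * g⁻¹ ∉ N → F z (g * z * g⁻¹) ≤ N)
    (hout : ∀ g, g * z * g⁻¹ * z = z * (g * z * g⁻¹) → g * z * g⁻¹ ∉ N →
      ∃ k c, c ≠ 1 ∧ c ∈ F z (g * z * g⁻¹) ∧ k * (g * z * g⁻¹) * k⁻¹ = g * z * g⁻¹ * c) :
    Cfsg.IsIsolatedInvolution z := by
  refine ⟨hz, fun g hg => ?_⟩
  by_contra hne
  have hcom : g * z * g⁻¹ * z = z * (g * z * g⁻¹) := hg.symm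
  have h1 : g * z * g⁻¹ ∉ N := fun h => hne (hiso g h)
  -- the conjugate `e' = z ^ g⁻¹`
  have hcom' : g⁻¹ * z * g⁻¹⁻¹ * z = z * (g⁻¹ * z * g⁻¹⁻¹) := by
    have h2 := conj_comm g⁻¹ hcom
    have e1 : g⁻¹ * (g * z * g⁻¹) * g⁻¹⁻¹ = z := by group
    rw [e1] at h2
    exact h2.symm
  have h2 : g⁻¹ * z * g⁻¹⁻¹ ∉ N := by
    intro h
    have h3 := hiso g⁻¹ h
    apply hne
    have h4 : g * (g⁻¹ * z * g⁻¹⁻¹) * g⁻¹ = z := by group
    rw [h3] at h4
    exact h4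
  obtain ⟨k, c, hc1, hcF, hk⟩ := hout g⁻¹ hcom' h2
  have h3 := hF.conj _ _ g _ hcF
  have e1 : g * (g⁻¹ * z * g⁻¹⁻¹) * g⁻¹ = z := by group
  rw [e1, hF.symm] at h3
  have h4 : g * c * g⁻¹ ∈ N := hFN g hcom h1 h3
  have h5 : (g * k * g⁻¹) * z * (g * k * g⁻¹)⁻¹ = z * (g * c * g⁻¹) := by
    calc (g * k * g⁻¹) * z * (g * k * g⁻¹)⁻¹ = g * (k * (g⁻¹ * z * g⁻¹⁻¹) * k⁻¹) * g⁻¹ := by group
      _ = g * (g⁻¹ * z * g⁻¹⁻¹ * c) * g⁻¹ := by rw [hk]
      _ = z * (g * c * g⁻¹) := by group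
  have h6 := hiso (g * k * g⁻¹) (by rw [h5]; exact N.mul_mem hzN h4)
  rw [h5] at h6
  have h7 : g * c * g⁻¹ = 1 := by simpa using h6
  apply hc1
  calc c = g⁻¹ * (g * c * g⁻¹) * g := by group
    _ = 1 := by rw [h7]; group

end Cfsg.Agent.OddHalf.D9.OutKill
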