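import Mathlib
import Cfsg.Agent.OddHalf.D9.OutKill

/-!
# Double covers: a Sylow 2-subgroup in which `z` is characteristic

`J n T` is generated by the elementary abelian subgroups of order `n` of `T`. If every involution of `Z(J n T)` except `z`
is a square in `J n T`, and `z` is not, then a Sylow 2-subgroup `T` of `C_G(z)` is a Sylow 2-subgroup of `G` and no conjugate of `z`
other than `z` centralises `T`.
-/

set_option autoImplicit false

namespace Cfsg.Agent.OddHalf.D9.CharSylow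

open Subgroup

variable {G : Type*} [Group G]

/-- elementary abelian of order `n` -/
def Elem (n : ℕ) (E : Subgroup G) : Prop := Nat.card E = n ∧ ∀ x ∈ E, x * x = 1

/-- the subgroup generated by the elementary abelian subgroups of order `n` of `T` -/
def J (n : ℕ) (T : Subgroup G) : Subgroup G := closure {x | ∃ E : Subgroup G, E ≤ T ∧ Elem n E ∧ x ∈ E}

theorem J_le (n : ℕ) (T : Subgroup G) : J n T ≤ T := by
  unfold J
  rw [closure_le]
  rintro x ⟨E, hE, -, hx⟩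
  exact hE hx

theorem elem_conj {n : ℕ} {E : Subgroup G} (h : Elem n E) (g : G) :
    Elem n (E.map (MulAut.conj g).toMonoidHom) := by
  constructor
  · rw [← h.1]
    exact (Nat.card_congr (E.equivMapOfInjective _ (MulAut.conj g).injective).toEquiv).symm
  · rintro _ ⟨x, hx, rfl⟩
    show g * x * g⁻¹ * (g * x * g⁻¹) = 1
    calc g * x * g⁻¹ * (g * x * g⁻¹) = g * (x * x) * g⁻¹ := by group
      _ = 1 := by rw [h.2 x hx]; group

theorem J_conj {n : ℕ} {T : Subgroup G} {g : G} (hg : ∀ t ∈ T, g * t * g⁻¹ ∈ T) :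
    ∀ x ∈ J n T, g * x * g⁻¹ ∈ J n T := by
  intro x hx
  have h1 : J n T ≤ (J n T).comap (MulAut.conj g).toMonoidHom := by
    conv_lhs => unfold J
    rw [closure_le]
    rintro x ⟨E, hE, hel, hxE⟩
    refine subset_closure ⟨E.map (MulAut.conj g).toMonoidHom, ?_, elem_conj hel g, ⟨x, hxE, rfl⟩⟩
    rintro _ ⟨y, hy, rfl⟩
    exact hg y (hE hy)
  exact h1 hx

/-- `z` is characterised in `J n T` -/
structure Char (n : ℕ) (z : G) (T : Subgroup G) : Prop where
  zz : z * z = 1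
  z1 : z ≠ 1
  zJ : z ∈ J n T
  zc : ∀ t ∈ T, t * z = z * t
  nosq : ∀ y ∈ J n T, y * y ≠ z
  sq : ∀ e ∈ J n T, e * e = 1 → e ≠ 1 → e ≠ z → (∀ s ∈ J n T, s * e = e * s) → ∃ y ∈ J n T, y * y = e

theorem conj_mem_iff_of_finite [Finite G] {T : Subgroup G} {g : G} (hg : ∀ t ∈ T, g * t * g⁻¹ ∈ T) :
    ∀ t ∈ T, g⁻¹ * t * g ∈ T := by
  have h1 : T.map (MulAut.conj g).toMonoidHom = T := by
    apply eq_of_le_of_card_ge
    · rintro _ ⟨x, hx, rfl⟩
      exact hg x hx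
    · exact (Nat.card_congr (T.equivMapOfInjective (MulAut.conj g).toMonoidHom
        (MulAut.conj g).injective).toEquiv).le
  intro t ht
  rw [← h1] at ht
  obtain ⟨x, hx, hxt⟩ := ht
  have : g * x * g⁻¹ = t := hxt
  rw [← this]
  have e : g⁻¹ * (g * x * g⁻¹) * g = x := by group
  rw [e]; exact hx

theorem Char.fix [Finite G] {n : ℕ} {z : G} {T : Subgroup G} (h : Char n z T) {g : G}
    (hg : ∀ t ∈ T, g * t * g⁻¹ ∈ T) : g * z * g⁻¹ = z := by
  by_contra hne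
  have hgi := conj_mem_iff_of_finite hg
  have hgi' : ∀ t ∈ T, g⁻¹ * t * g⁻¹⁻¹ ∈ T := by simpa using hgi
  have hJ := J_conj (n := n) hg
  have hJi := J_conj (n := n) hgi'
  obtain ⟨y, hy, hyy⟩ := h.sq (g * z * g⁻¹) (hJ z h.zJ) (by
    calc g * z * g⁻¹ * (g * z * g⁻¹) = g * (z * z) * g⁻¹ := by group
      _ = 1 := by rw [h.zz]; group) (by
    intro h1
    apply h.z1
    calc z = g⁻¹ * (g * z * g⁻¹) * g := by group
      _ = 1 := by rw [h1]; group) hne (by
    intro s hs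
    have h1 := h.zc _ (J_le n T (hJi s hs))
    calc s * (g * z * g⁻¹) = g * ((g⁻¹ * s * g⁻¹⁻¹) * z) * g⁻¹ := by group
      _ = g * (z * (g⁻¹ * s * g⁻¹⁻¹)) * g⁻¹ := by rw [h1]
      _ = g * z * g⁻¹ * s := by group)
  refine h.nosq (g⁻¹ * y * g⁻¹⁻¹) (hJi y hy) ?_
  calc g⁻¹ * y * g⁻¹⁻¹ * (g⁻¹ * y * g⁻¹⁻¹) = g⁻¹ * (y * y) * g := by group
    _ = z := by rw [hyy]; group

/-- A Sylow 2-subgroup of `C(z)` is a Sylow 2-subgroup of `G` -/
theorem Char.sylow [Finite G] {n : ℕ} {z : G} {T : Subgroup G} (h : Char n z T) (hT : IsPGroup 2 T)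
    (hmax : ∀ P : Subgroup G, IsPGroup 2 P → (∀ t ∈ P, t * z = z * t) → T ≤ P → P = T) :
    ∀ P : Subgroup G, IsPGroup 2 P → T ≤ P → P = T := by
  haveI : Fact (Nat.Prime 2) := ⟨Nat.prime_two⟩
  intro P hP hTP
  by_contra hne
  -- normalisers grow
  have hlt : T.subgroupOf P < ⊤ := by
    rw [lt_top_iff_ne_top]
    intro htop
    exact hne (le_antisymm (subgroupOf_eq_top.mp htop) hTP)
  haveI : Finite P := inferInstance
  haveI := hP.isNilpotent
  have hNC := Group.normalizerCondition_of_isNilpotent (G := P) _ hlt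
  obtain ⟨x, hxN, hxT⟩ := SetLike.exists_of_lt hNC
  rw [mem_normalizer_iff] at hxN
  have hx : ∀ t ∈ T, (x : G) * t * (x : G)⁻¹ ∈ T := by
    intro t ht
    exact (hxN ⟨t, hTP ht⟩).mp ht
  -- every element of `N_P(T)` commutes with `z`
  set N : Subgroup G := ((normalizer ((T.subgroupOf P : Subgroup P) : Set P))).map P.subtype with hN
  have hNP : N ≤ P := by
    rintro _ ⟨y, -, rfl⟩
    exact y.2
  have h1 := hmax N (hP.to_le hNP) (by
    rintro _ ⟨y, hy, rfl⟩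
    rw [SetLike.mem_coe, mem_normalizer_iff] at hy
    have h2 := h.fix (g := (y : G)) (fun t ht => (hy ⟨t, hTP ht⟩).mp ht)
    exact mul_inv_eq_iff_eq_mul.mp h2) (by
    intro t ht
    refine ⟨⟨t, hTP ht⟩, ?_, rfl⟩
    exact le_normalizer (show (⟨t, hTP ht⟩ : P) ∈ T.subgroupOf P from ht))
  apply hxT
  show (x : G) ∈ T
  rw [← h1]
  refine ⟨x, ?_, rfl⟩
  rw [SetLike.mem_coe, mem_normalizer_iff]
  exact hxN

/-- no conjugate of `z` other than `z` centralises `T` -/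
theorem Char.eq_of_centralises [Finite G] {n : ℕ} {z : G} {T : Subgroup G} (h : Char n z T)
    (hT : IsPGroup 2 T)
    (hmax : ∀ P : Subgroup G, IsPGroup 2 P → (∀ t ∈ P, t * z = z * t) → T ≤ P → P = T)
    (g : G) (hg : ∀ t ∈ T, t * (g * z * g⁻¹) = g * z * g⁻¹ * t) : g * z * g⁻¹ = z := by
  haveI : Fact (Nat.Prime 2) := ⟨Nat.prime_two⟩
  have hsyl := h.sylow hT hmax
  set C := centralizer ({g * z * g⁻¹} : Set G) with hC
  set T' := T.map (MulAut.conj g).toMonoidHom with hT'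
  have hTC : T ≤ C := by
    intro t ht
    rw [hC, mem_centralizer_singleton_iff]
    exact hg t ht
  have hT'C : T' ≤ C := by
    rintro _ ⟨t, ht, rfl⟩
    rw [hC, mem_centralizer_singleton_iff]
    exact OutKill.conj_comm g (h.zc t ht)
  have hT'2 : IsPGroup 2 T' := hT.map _
  have hsyl' : ∀ P : Subgroup G, IsPGroup 2 P → T' ≤ P → P = T' := by
    intro P hP hle
    have h1 := hsyl (P.map (MulAut.conj g⁻¹).toMonoidHom) (hP.map _) (by
      intro t ht
      refine ⟨g * t * g⁻¹, hle ⟨t, ht, rfl⟩, ?_⟩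
      show g⁻¹ * (g * t * g⁻¹) * g⁻¹⁻¹ = t
      group)
    rw [hT', ← h1]
    ext x
    constructor
    · intro hx
      refine ⟨g⁻¹ * x * g⁻¹⁻¹, ⟨x, hx, rfl⟩, ?_⟩
      show g * (g⁻¹ * x * g⁻¹⁻¹) * g⁻¹ = x
      group
    · rintro ⟨_, ⟨y, hy, rfl⟩, rfl⟩
      have : (MulAut.conj g).toMonoidHom ((MulAut.conj g⁻¹).toMonoidHom y) = y := by
        show g * (g⁻¹ * y * g⁻¹⁻¹) * g⁻¹ = y
        group
      rw [this]; exact hy
  -- Sylow subgroups of `C`
  have mk : ∀ Q : Subgroup G, IsPGroup 2 Q → Q ≤ C →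
      (∀ P : Subgroup G, IsPGroup 2 P → Q ≤ P → P = Q) →
      ∃ S : Sylow 2 C, ((S : Subgroup C).map C.subtype) = Q := by
    intro Q hQ hQC hm
    obtain ⟨S, hS⟩ := (hQ.comap_subtype (H := Q) (K := C)).exists_le_sylow
    refine ⟨S, ?_⟩
    apply hm _ (S.isPGroup'.map _)
    intro x hx
    exact ⟨⟨x, hQC hx⟩, hS hx, rfl⟩
  obtain ⟨S, hS⟩ := mk T hT hTC hsyl
  obtain ⟨S', hS'⟩ := mk T' hT'2 hT'C hsyl'
  obtain ⟨c, hc⟩ := MulAction.exists_smul_eq C S' S
  have hcg : ∀ t ∈ T, (c : G) * g * t * ((c : G) * g)⁻¹ ∈ T := by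
    intro t ht
    have h1 : g * t * g⁻¹ ∈ T' := ⟨t, ht, rfl⟩
    rw [← hS'] at h1
    obtain ⟨s', hs', hst⟩ := h1
    have h2 : c * s' * c⁻¹ ∈ (S : Subgroup C) := by
      rw [← hc]
      exact ⟨s', hs', rfl⟩
    have h3 : (c : G) * g * t * ((c : G) * g)⁻¹ = ((c * s' * c⁻¹ : C) : G) := by
      have h4 : (s' : G) = g * t * g⁻¹ := hst
      rw [Subgroup.coe_mul, Subgroup.coe_mul, Subgroup.coe_inv, h4]
      group
    rw [h3, ← hS]
    exact ⟨_, h2, rfl⟩
  have h5 := h.fix hcg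
  have h6 : (c : G) * (g * z * g⁻¹) * (c : G)⁻¹ = z := by
    calc (c : G) * (g * z * g⁻¹) * (c : G)⁻¹ = (c : G) * g * z * ((c : G) * g)⁻¹ := by group
      _ = z := h5
  have h7 : (c : G) * (g * z * g⁻¹) = g * z * g⁻¹ * c := mem_centralizer_singleton_iff.mp c.2
  rw [h7, mul_inv_cancel_right] at h6
  exact h6

end Cfsg.Agent.OddHalf.D9.CharSylow
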