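import Mathlib
import Cfsg.Agent.OddHalf.D9.CharSylow

/-!
# Double covers as standard subgroups: the kill

`KFacts z n` collects facts about a group `K` with centre `{1, z}`. `false_of_kfacts`: a finite simple group `G` has no
subgroup `K` with `KFacts`, normal in `C_G(z)`, and such that `z` is the only involution of `C_G(K)`.
-/

set_option autoImplicit false

namespace Cfsg.Agent.OddHalf.D9.DoubleKill

open Subgroup CharSylow

/-- The facts about the double cover `K` (with centre `{1, z}`) used by `false_of_kfacts`. -/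
structure KFacts {K : Type*} [Group K] (z : K) (n : ℕ) : Prop where
  zz : z * z = 1
  z1 : z ≠ 1
  zc : ∀ y : K, y * z = z * y
  cen : ∀ x : K, (∀ y, x * y = y * x) → x = 1 ∨ x = z
  /-- (F1) -/
  nosq : ∀ y : K, y * y ≠ z
  /-- (F2) -/
  sq : ∀ S : Sylow 2 K, ∀ e ∈ S, e * e = 1 → e ≠ 1 → e ≠ z → (∀ s ∈ S, s * e = e * s) → ∃ y ∈ S, y * y = e
  /-- (F3) -/
  gen : ∀ S : Sylow 2 K, (S : Subgroup K) ≤ J n (S : Subgroup K)
  /-- (F4) -/
  fix : ∀ (S : Sylow 2 K) (A : Subgroup (MulAut K)), IsPGroup 2 A → (∀ α ∈ A, ∀ s ∈ S, α s ∈ S) →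
    (∀ s ∈ S, MulAut.conj s ∈ A) → ∀ e : K, e * e = 1 → e ≠ 1 → e ≠ z →
    ∃ k, ∀ α ∈ A, α (k * e * k⁻¹) = k * e * k⁻¹
  /-- (F5) -/
  el : ∀ A : Subgroup (MulAut K), (∀ α ∈ A, α * α = 1) → n ≤ 2 * Nat.card A →
    ∀ α ∈ A, ∃ k, α = MulAut.conj k
  /-- (F6) -/
  out : ∀ α : MulAut K, α * α = 1 → (∀ k, α ≠ MulAut.conj k) →
    ∃ k, α k * k⁻¹ ≠ 1 ∧ α k * k⁻¹ ∈ closure {x | ∃ y, α y = y ∧ y * y = x}
  /-- (F7) -/
  exp2 : ∀ α : MulAut K, ∃ k, α * α = MulAut.conj k

variable {G : Type*} [Group G]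

/-- the elements inducing inner automorphisms on `K` -/
def Nn (K : Subgroup G) : Subgroup G where
  carrier := {g | ∃ k ∈ K, ∀ x ∈ K, g * x * g⁻¹ = k * x * k⁻¹}
  mul_mem' := by
    rintro g g' ⟨k, hk, h⟩ ⟨k', hk', h'⟩
    refine ⟨k * k', K.mul_mem hk hk', fun x hx => ?_⟩
    calc g * g' * x * (g * g')⁻¹ = g * (g' * x * g'⁻¹) * g⁻¹ := by group
      _ = g * (k' * x * k'⁻¹) * g⁻¹ := by rw [h' x hx]
      _ = k * (k' * x * k'⁻¹) * k⁻¹ := h _ (K.mul_mem (K.mul_mem hk' hx) (K.inv_mem hk'))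
      _ = k * k' * x * (k * k')⁻¹ := by group
  one_mem' := ⟨1, K.one_mem, fun _ _ => rfl⟩
  inv_mem' := by
    rintro g ⟨k, hk, h⟩
    refine ⟨k⁻¹, K.inv_mem hk, fun x hx => ?_⟩
    have h1 := h (k⁻¹ * x * k) (K.mul_mem (K.mul_mem (K.inv_mem hk) hx) hk)
    have h2 : g * (k⁻¹ * x * k) * g⁻¹ = x := by rw [h1]; group
    calc g⁻¹ * x * g⁻¹⁻¹ = g⁻¹ * (g * (k⁻¹ * x * k) * g⁻¹) * g := by rw [h2, inv_inv]
      _ = k⁻¹ * x * k⁻¹⁻¹ := by group

theorem mem_Nn {K : Subgroup G} {g : G} : g ∈ Nn K ↔ ∃ k ∈ K, ∀ x ∈ K, g * x * g⁻¹ = k * x * k⁻¹ := Iff.rfl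

theorem le_Nn (K : Subgroup G) : K ≤ Nn K := fun k hk => ⟨k, hk, fun _ _ => rfl⟩

/-- the action of `C(z)` on `K` -/
def act {K : Subgroup G} {z : G} (hKn : ∀ h, h * z = z * h → ∀ k ∈ K, h * k * h⁻¹ ∈ K) :
    centralizer ({z} : Set G) →* MulAut K where
  toFun h :=
    { toFun := fun k => ⟨(h : G) * k * (h : G)⁻¹, hKn h (mem_centralizer_singleton_iff.mp h.2) k k.2⟩
      invFun := fun k => ⟨(h : G)⁻¹ * k * (h : G), by
        have := hKn ((h⁻¹ : centralizer ({z} : Set G)) : G)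
          (mem_centralizer_singleton_iff.mp (h⁻¹).2) k k.2
        simpa using this⟩
      left_inv := fun k => Subtype.ext (by
        show (h : G)⁻¹ * ((h : G) * k * (h : G)⁻¹) * (h : G) = k
        group)
      right_inv := fun k => Subtype.ext (by
        show (h : G) * ((h : G)⁻¹ * k * (h : G)) * (h : G)⁻¹ = k
        group)
      map_mul' := fun k k' => Subtype.ext (by
        show (h : G) * (k * k') * (h : G)⁻¹ = (h : G) * k * (h : G)⁻¹ * ((h : G) * k' * (h : G)⁻¹)
        group) }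
  map_one' := by
    ext k
    show ((1 : centralizer ({z} : Set G)) : G) * k * ((1 : centralizer ({z} : Set G)) : G)⁻¹ = k
    simp
  map_mul' h h' := by
    ext k
    show ((h * h' : centralizer ({z} : Set G)) : G) * k * ((h * h' : centralizer ({z} : Set G)) : G)⁻¹ =
      (h : G) * ((h' : G) * k * (h' : G)⁻¹) * (h : G)⁻¹
    rw [Subgroup.coe_mul]
    group

theorem act_apply {K : Subgroup G} {z : G} (hKn : ∀ h, h * z = z * h → ∀ k ∈ K, h * k * h⁻¹ ∈ K)
    (h : centralizer ({z} : Set G)) (k : K) : ((act hKn h k : K) : G) = (h : G) * k * (h : G)⁻¹ := rfl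

theorem mem_Nn_of_act {K : Subgroup G} {z : G} (hKn : ∀ h, h * z = z * h → ∀ k ∈ K, h * k * h⁻¹ ∈ K)
    {h : centralizer ({z} : Set G)} {k : K} (hk : act hKn h = MulAut.conj k) : (h : G) ∈ Nn K := by
  refine ⟨k, k.2, fun x hx => ?_⟩
  have h1 : (act hKn h ⟨x, hx⟩ : K) = MulAut.conj k ⟨x, hx⟩ := by rw [hk]
  exact Subtype.ext_iff.mp h1

theorem act_of_mem_Nn {K : Subgroup G} {z : G} (hKn : ∀ h, h * z = z * h → ∀ k ∈ K, h * k * h⁻¹ ∈ K)
    {h : centralizer ({z} : Set G)} (hN : (h : G) ∈ Nn K) : ∃ k : K, act hKn h = MulAut.conj k := by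
  obtain ⟨k, hk, h1⟩ := hN
  refine ⟨⟨k, hk⟩, ?_⟩
  ext x
  exact h1 x x.2

section

variable {K : Subgroup G} {z : G} {n : ℕ} (hzK : z ∈ K) (hF : KFacts (⟨z, hzK⟩ : K) n)

include hF

theorem K_le : ∀ k ∈ K, k * z = z * k := fun k hk => Subtype.ext_iff.mp (hF.zc ⟨k, hk⟩)

theorem zz : z * z = 1 := Subtype.ext_iff.mp hF.zz

theorem z1 : z ≠ 1 := fun h => hF.z1 (Subtype.ext h)

/-- an involution inducing an inner automorphism on `K` is in `K` -/
theorem mem_K (hR : ∀ r, (∀ k ∈ K, r * k = k * r) → r * r = 1 → r = 1 ∨ r = z) {e : G}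
    (he : e * e = 1) (heN : e ∈ Nn K) : e ∈ K := by
  obtain ⟨k, hk, h⟩ := heN
  have hr : ∀ x ∈ K, (k⁻¹ * e) * x = x * (k⁻¹ * e) := by
    intro x hx
    have h1 := h x hx
    calc k⁻¹ * e * x = k⁻¹ * (e * x * e⁻¹) * e := by group
      _ = k⁻¹ * (k * x * k⁻¹) * e := by rw [h1]
      _ = x * (k⁻¹ * e) := by group
  obtain ⟨r, hr'⟩ : ∃ r, r = k⁻¹ * e := ⟨_, rfl⟩
  rw [← hr'] at hr
  have hek : e = k * r := by rw [hr']; group
  have hkr := hr k hk
  have h2 : (k * k) * (r * r) = 1 := by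
    rw [← he, hek]
    calc k * k * (r * r) = k * (k * r) * r := by group
      _ = k * (r * k) * r := by rw [hkr]
      _ = k * r * (k * r) := by group
  have hkk : k * k = (r * r)⁻¹ := eq_inv_of_mul_eq_one_left h2
  have h3 : ∀ x ∈ K, k * k * x = x * (k * k) := by
    intro x hx
    rw [hkk]
    have h4 : r * r * x = x * (r * r) := by rw [mul_assoc, hr x hx, ← mul_assoc, hr x hx, mul_assoc]
    rw [inv_mul_eq_iff_eq_mul, ← mul_assoc, h4]
    group
  rcases hF.cen (⟨k, hk⟩ * ⟨k, hk⟩) (fun y => Subtype.ext (h3 y y.2)) with h4 | h4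
  · have h5 : k * k = 1 := Subtype.ext_iff.mp h4
    rw [h5, one_mul] at h2
    rcases hR r hr h2 with h6 | h6
    · rw [hek, h6, mul_one]; exact hk
    · rw [hek, h6]; exact K.mul_mem hk hzK
  · exact absurd h4 (hF.nosq _)

/-- an elementary abelian subgroup of order `n` of `C(z)` is contained in `K` -/
theorem elem_le [Finite G] (hKn : ∀ h, h * z = z * h → ∀ k ∈ K, h * k * h⁻¹ ∈ K)
    (hR : ∀ r, (∀ k ∈ K, r * k = k * r) → r * r = 1 → r = 1 ∨ r = z)
    {E : Subgroup G} (hE : Elem n E) (hEz : ∀ x ∈ E, x * z = z * x) : E ≤ K := by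
  have hEC : E ≤ centralizer ({z} : Set G) := fun x hx => mem_centralizer_singleton_iff.mpr (hEz x hx)
  set f : E →* MulAut K := (act hKn).comp (inclusion hEC) with hf
  have hker : Nat.card f.ker ≤ 2 := by
    have hsub : ∀ x : f.ker, ((x : E) : G) = 1 ∨ ((x : E) : G) = z := by
      intro x
      apply hR
      · intro k hk
        have h1 : f x = 1 := x.2
        have h2 : (f x ⟨k, hk⟩ : K) = ⟨k, hk⟩ := by rw [h1]; rfl
        have h3 : ((x : E) : G) * k * ((x : E) : G)⁻¹ = k := Subtype.ext_iff.mp h2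
        exact mul_inv_eq_iff_eq_mul.mp h3
      · exact hE.2 _ (x : E).2
    let F : f.ker → ({1, z} : Set G) := fun x => ⟨((x : E) : G), by
      rcases hsub x with h | h
      · left; exact h
      · right; exact h⟩
    have hFi : Function.Injective F := by
      intro x y hxy
      have h0 : ((x : E) : G) = ((y : E) : G) :=
        congrArg (Subtype.val : ({1, z} : Set G) → G) hxy
      exact Subtype.ext (Subtype.ext h0)
    have h1 := Nat.card_le_card_of_injective F hFi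
    refine h1.trans ?_
    rw [Nat.card_coe_set_eq]
    exact Set.ncard_insert_le _ _ |>.trans (by rw [Set.ncard_singleton])
  have hcard : n ≤ 2 * Nat.card f.range := by
    have h1 : Nat.card E = Nat.card f.ker * Nat.card f.range := by
      rw [← Subgroup.card_mul_index f.ker, index_ker]
    rw [← hE.1, h1]
    exact Nat.mul_le_mul_right _ hker
  intro x hx
  obtain ⟨k, hk⟩ := hF.el f.range (by
    rintro _ ⟨y, rfl⟩
    rw [← map_mul]
    have : y * y = 1 := Subtype.ext (hE.2 y y.2)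
    rw [this, map_one]) hcard (f ⟨x, hx⟩) ⟨_, rfl⟩
  exact mem_K hzK hF hR (hE.2 x hx) (mem_Nn_of_act hKn hk)

/-- **Kill.** -/
theorem false_of_kfacts [Finite G] [IsSimpleGroup G] (hnc : ¬ IsMulCommutative G)
    (hKn : ∀ h, h * z = z * h → ∀ k ∈ K, h * k * h⁻¹ ∈ K)
    (hR : ∀ r, (∀ k ∈ K, r * k = k * r) → r * r = 1 → r = 1 ∨ r = z) : False := by
  have hp2 : Fact (Nat.Prime 2) := ⟨Nat.prime_two⟩
  have hKz := K_le hzK hF
  have hzz := zz hzK hF
  have hz1 := z1 hzK hF
  have hKC : K ≤ centralizer ({z} : Set G) := fun k hk => mem_centralizer_singleton_iff.mpr (hKz k hk)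
  obtain ⟨T₀⟩ : Nonempty (Sylow 2 (centralizer ({z} : Set G))) := inferInstance
  set T : Subgroup G := (T₀ : Subgroup (centralizer ({z} : Set G))).map (Subgroup.subtype _) with hT
  have hTz : ∀ t ∈ T, t * z = z * t := by
    rintro _ ⟨t, -, rfl⟩
    exact mem_centralizer_singleton_iff.mp t.2
  have hT2 : IsPGroup 2 T := T₀.isPGroup'.map _
  have hmax : ∀ P : Subgroup G, IsPGroup 2 P → (∀ t ∈ P, t * z = z * t) → T ≤ P → P = T := by
    intro P hP hPz hTP
    have hPC : P ≤ centralizer ({z} : Set G) := fun p hp =>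
      mem_centralizer_singleton_iff.mpr (hPz p hp)
    have h1 := T₀.is_maximal' (hP.comap_subtype (H := P) (K := centralizer ({z} : Set G))) (by
      intro t ht
      exact hTP ⟨t, ht, rfl⟩)
    rw [hT, ← h1]
    exact (map_subgroupOf_eq_of_le hPC).symm
  -- `S = T ∩ K` is a Sylow 2-subgroup of `K`
  have hS : ∃ S : Sylow 2 K, ∀ k : K, k ∈ S ↔ (k : G) ∈ T := by
    obtain ⟨S₁⟩ : Nonempty (Sylow 2 K) := inferInstance
    have h1 : IsPGroup 2 ((S₁ : Subgroup K).map (inclusion hKC)) := S₁.isPGroup'.map _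
    obtain ⟨T₁, hT₁⟩ := h1.exists_le_sylow
    obtain ⟨c, hc⟩ := MulAction.exists_smul_eq (centralizer ({z} : Set G)) T₁ T₀
    -- conjugate of `S₁`
    have hSyl : ∃ S : Sylow 2 K, ∀ k ∈ S, (k : G) ∈ T := by
      refine ⟨S₁.mapSurjective (f := (act hKn c).toMonoidHom) (act hKn c).surjective, ?_⟩
      intro k hk
      obtain ⟨s, hs, rfl⟩ := hk
      have h2 : c * inclusion hKC s * c⁻¹ ∈ (T₀ : Subgroup (centralizer ({z} : Set G))) := by
        rw [← hc]
        exact ⟨inclusion hKC s, hT₁ ⟨s, hs, rfl⟩, rfl⟩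
      exact ⟨_, h2, rfl⟩
    obtain ⟨S, hS⟩ := hSyl
    refine ⟨S, fun k => ⟨hS k, fun hk => ?_⟩⟩
    have h3 := S.is_maximal' (hT2.comap_subtype (H := T) (K := K)) (by
      intro s hs
      exact hS s hs)
    have h4 : k ∈ T.subgroupOf K := hk
    have h5 : (T.subgroupOf K : Subgroup K) = (S : Subgroup K) := h3
    rw [h5] at h4
    exact h4
  obtain ⟨S, hS⟩ := hS
  have hJK : ∀ x ∈ J n T, x ∈ K := by
    intro x hx
    have h1 : J n T ≤ K := by
      unfold J
      rw [closure_le]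
      rintro x ⟨E, hE, hel, hxE⟩
      exact elem_le hzK hF hKn hR hel (fun y hy => hTz y (hE hy)) hxE
    exact h1 hx
  have hJS : ∀ k : K, k ∈ S → (k : G) ∈ J n T := by
    intro k hk
    have h1 : J n (S : Subgroup K) ≤ (J n T).comap K.subtype := by
      conv_lhs => unfold J
      rw [closure_le]
      rintro x ⟨E, hE, hel, hxE⟩
      refine subset_closure ⟨E.map K.subtype, ?_, ⟨?_, ?_⟩, ⟨x, hxE, rfl⟩⟩
      · rintro _ ⟨y, hy, rfl⟩
        exact (hS y).mp (hE hy)
      · rw [← hel.1]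
        exact (Nat.card_congr (E.equivMapOfInjective _ K.subtype_injective).toEquiv).symm
      · rintro _ ⟨y, hy, rfl⟩
        exact congrArg Subtype.val (hel.2 y hy)
    exact h1 (hF.gen S hk)
  have hJ_iff : ∀ k : K, (k : G) ∈ J n T ↔ k ∈ S := fun k =>
    ⟨fun hk => (hS k).mpr (J_le n T hk), hJS k⟩
  have hzT : z ∈ T := by
    have h1 : IsPGroup 2 (zpowers z) := by
      apply IsPGroup.of_card (n := 1)
      rw [Nat.card_zpowers, pow_one]
      exact orderOf_eq_prime (by rw [pow_two]; exact hzz) hz1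
    have h2 : IsPGroup 2 ↥(T ⊔ zpowers z) := by
      apply IsPGroup.to_sup_of_normal_right' hT2 h1
      intro t ht
      rw [mem_normalizer_iff]
      intro x
      have h3 : ∀ y ∈ zpowers z, t * y * t⁻¹ = y := by
        intro y hy
        obtain ⟨m, rfl⟩ := mem_zpowers_iff.mp hy
        have h4 : Commute t (z ^ m) := (show Commute t z from hTz t ht).zpow_right m
        rw [h4.eq, mul_inv_cancel_right]
      constructor
      · intro hx
        rw [h3 x hx]; exact hx
      · intro hx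
        have h4 := h3 _ hx
        have h5 : t * x * t⁻¹ = x := by
          calc t * x * t⁻¹ = t⁻¹ * (t * (t * x * t⁻¹) * t⁻¹) * t := by group
            _ = t⁻¹ * (t * x * t⁻¹) * t := by rw [h4]
            _ = x := by group
        rw [h5] at hx
        exact hx
    have h3 := hmax (T ⊔ zpowers z) h2 (by
      intro t ht
      have h4 : T ⊔ zpowers z ≤ centralizer ({z} : Set G) := by
        apply sup_le
        · intro t ht
          exact mem_centralizer_singleton_iff.mpr (hTz t ht)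
        · rw [zpowers_le]
          exact mem_centralizer_singleton_iff.mpr rfl
      exact mem_centralizer_singleton_iff.mp (h4 ht)) le_sup_left
    rw [← h3]
    exact le_sup_right (a := T) (mem_zpowers z)
  have hzS : (⟨z, hzK⟩ : K) ∈ S := (hS _).mpr hzT
  have hChar : Char n z T :=
    { zz := hzz
      z1 := hz1
      zJ := hJS _ hzS
      zc := hTz
      nosq := by
        intro y hy hyy
        exact hF.nosq ⟨y, hJK y hy⟩ (Subtype.ext hyy)
      sq := by
        intro e he hee he1 hez hcom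
        have heK := hJK e he
        obtain ⟨y, hy, hyy⟩ := hF.sq S ⟨e, heK⟩ ((hJ_iff ⟨e, heK⟩).mp he) (Subtype.ext hee)
          (fun h => he1 (Subtype.ext_iff.mp h)) (fun h => hez (Subtype.ext_iff.mp h))
          (fun s hs => Subtype.ext (hcom s (hJS s hs)))
        exact ⟨y, hJS y hy, Subtype.ext_iff.mp hyy⟩ }
  have hord : orderOf z = 2 := orderOf_eq_prime (by rw [pow_two]; exact hzz) hz1
  -- no other conjugate of `z` induces an inner automorphism
  have hiso : ∀ g, g * z * g⁻¹ ∈ Nn K → g * z * g⁻¹ = z := by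
    intro g hg
    by_contra hne
    have hee : g * z * g⁻¹ * (g * z * g⁻¹) = 1 := by
      calc g * z * g⁻¹ * (g * z * g⁻¹) = g * (z * z) * g⁻¹ := by group
        _ = 1 := by rw [hzz]; group
    have heK := mem_K hzK hF hR hee hg
    set A : Subgroup (MulAut K) := (T₀ : Subgroup (centralizer ({z} : Set G))).map (act hKn) with hA
    obtain ⟨k, hk⟩ := hF.fix S A (T₀.isPGroup'.map _) (by
        rintro _ ⟨t, ht, rfl⟩ s hs
        rw [hS]
        show (t : G) * s * (t : G)⁻¹ ∈ T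
        exact T.mul_mem (T.mul_mem ⟨t, ht, rfl⟩ ((hS s).mp hs)) (T.inv_mem ⟨t, ht, rfl⟩)) (by
        intro s hs
        obtain ⟨t, ht, hts⟩ := (hS s).mp hs
        refine ⟨t, ht, ?_⟩
        ext x
        show (t : G) * x * (t : G)⁻¹ = s * x * (s : G)⁻¹
        have : (t : G) = s := hts
        rw [this])
      ⟨g * z * g⁻¹, heK⟩ (Subtype.ext hee) (by
        intro h
        apply hz1
        have h1 : g * z * g⁻¹ = 1 := Subtype.ext_iff.mp h
        calc z = g⁻¹ * (g * z * g⁻¹) * g := by group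
          _ = 1 := by rw [h1]; group) (fun h => hne (Subtype.ext_iff.mp h))
    have hfix : ∀ t ∈ T, t * ((k : G) * g * z * ((k : G) * g)⁻¹) = (k : G) * g * z * ((k : G) * g)⁻¹ * t := by
      rintro _ ⟨t, ht, rfl⟩
      have h1 := hk (act hKn t) ⟨t, ht, rfl⟩
      have h2 : (t : G) * ((k : G) * (g * z * g⁻¹) * (k : G)⁻¹) * (t : G)⁻¹ =
          (k : G) * (g * z * g⁻¹) * (k : G)⁻¹ := Subtype.ext_iff.mp h1
      have e1 : (k : G) * g * z * ((k : G) * g)⁻¹ = (k : G) * (g * z * g⁻¹) * (k : G)⁻¹ := by group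
      rw [e1]
      exact mul_inv_eq_iff_eq_mul.mp h2
    have h3 := hChar.eq_of_centralises hT2 hmax _ hfix
    apply hne
    have h4 : g * z * g⁻¹ = (k : G)⁻¹ * z * k := by
      calc g * z * g⁻¹ = (k : G)⁻¹ * ((k : G) * g * z * ((k : G) * g)⁻¹) * k := by group
        _ = (k : G)⁻¹ * z * k := by rw [h3]
    rw [h4, mul_assoc, ← hKz k k.2]
    group
  have hiz := OutKill.isolated (F := OutKill.Sq) OutKill.functor_sq hord (le_Nn K hzK) hiso (by
      intro g _ _
      unfold OutKill.Sq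
      rw [closure_le]
      rintro _ ⟨y, hy, -, rfl⟩
      have hyC : y ∈ centralizer ({z} : Set G) := mem_centralizer_singleton_iff.mpr hy
      obtain ⟨k, hk⟩ := hF.exp2 (act hKn ⟨y, hyC⟩)
      rw [← map_mul] at hk
      exact mem_Nn_of_act hKn hk) (by
      intro g hcom hN
      have heC : g * z * g⁻¹ ∈ centralizer ({z} : Set G) := mem_centralizer_singleton_iff.mpr hcom
      have hee : g * z * g⁻¹ * (g * z * g⁻¹) = 1 := by
        calc g * z * g⁻¹ * (g * z * g⁻¹) = g * (z * z) * g⁻¹ := by group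
          _ = 1 := by rw [hzz]; group
      obtain ⟨e, he⟩ : ∃ e, e = g * z * g⁻¹ := ⟨_, rfl⟩
      rw [← he] at hcom hN heC hee ⊢
      obtain ⟨k, hk1, hk2⟩ := hF.out (act hKn ⟨e, heC⟩) (by
        rw [← map_mul]
        have : (⟨e, heC⟩ : centralizer ({z} : Set G)) * ⟨e, heC⟩ = 1 := Subtype.ext hee
        rw [this, map_one]) (by
        intro k hk
        exact hN (mem_Nn_of_act hKn hk))
      have hei : e⁻¹ = e := inv_eq_of_mul_eq_one_right hee
      refine ⟨k, ((act hKn ⟨e, heC⟩ k * k⁻¹ : K) : G), fun h => hk1 (Subtype.ext h), ?_, ?_⟩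
      · have h1 : closure {x : K | ∃ y, act hKn ⟨e, heC⟩ y = y ∧ y * y = x} ≤
            (OutKill.Sq z e).comap K.subtype := by
          rw [closure_le]
          rintro _ ⟨y, hy, rfl⟩
          refine subset_closure ⟨y, hKz y y.2, ?_, rfl⟩
          have h2 : e * (y : G) * e⁻¹ = y := Subtype.ext_iff.mp hy
          exact (mul_inv_eq_iff_eq_mul.mp h2).symm
        exact h1 hk2
      · show (k : G) * e * (k : G)⁻¹ = e * (e * k * e⁻¹ * (k : G)⁻¹)
        rw [hei]
        calc (k : G) * e * (k : G)⁻¹ = (e * e) * k * e * (k : G)⁻¹ := by rw [hee, one_mul]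
          _ = e * (e * k * e * (k : G)⁻¹) := by group)
  refine Cfsg.Agent.J2Type.SimpleRed.not_isolated z hiz ?_
  by_contra hcon
  push Not at hcon
  exact hnc ⟨⟨hcon⟩⟩

end

end Cfsg.Agent.OddHalf.D9.DoubleKill
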