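import Cfsg.Agent.OddHalf.D9.CovTwo
import Cfsg.Agent.OddHalf.D9.SquareKill

/-!
# `z^G ∩ KR = {z}` from `SquareKill` (row `2.M₂₂`)

`Fr.inner_of`: in the frame `Fr K q z` the facts `InFacts z` (N1–N5) give `z^G ∩ KR = {z}`.
-/

set_option autoImplicit false

namespace Cfsg.Agent.OddHalf.D9.CovTwoSmall

open Subgroup Cfsg.Agent.OddHalf.D9.CovTwo Cfsg.Agent.OddHalf.D9.SquareKill

universe u

variable {G : Type u} [Group G] {K : Subgroup G} {q z : G}

theorem KR_le_Nn (F : Fr K q z) {h : G} (hh : KR K q h) : h ∈ DoubleKill.Nn K := by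
  obtain ⟨k, hk, r, hr, rfl⟩ := hh
  refine ⟨k, hk, fun x hx => ?_⟩
  have h1 := F.kr hx hr
  calc k * r * x * (k * r)⁻¹ = k * (r * x) * r⁻¹ * k⁻¹ := by group
    _ = k * (x * r) * r⁻¹ * k⁻¹ := by rw [h1]
    _ = k * x * k⁻¹ := by group

theorem cent_iff (F : Fr K q z) (r : G) : r ∈ centralizer (K : Set G) ↔ r ∈ zpowers q := by
  rw [mem_centralizer_iff]
  constructor
  · intro h
    exact F.cK r (h z F.zK).symm h
  · intro h x hx
    exact F.QK r h x hx

theorem isPGroup (F : Fr K q z) : IsPGroup 2 (centralizer (K : Set G)) := by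
  have h : centralizer (K : Set G) = zpowers q := by
    ext r
    exact cent_iff F r
  rw [h]
  exact F.pQ

theorem uniq [Finite G] (F : Fr K q z) : ∀ r, (∀ k ∈ K, r * k = k * r) → r * r = 1 → r = 1 ∨ r = z := by
  intro r hr hrr
  by_cases h1 : r = 1
  · exact Or.inl h1
  · right
    refine F.uniq ?_ hrr h1
    rw [← cent_iff F, mem_centralizer_iff]
    intro x hx
    exact (hr x hx).symm

/-- **`z^G ∩ KR = {z}`** -/
theorem inner_of [Finite G] (F : Fr K q z) (hF : InFacts (⟨z, F.zK⟩ : ↥K)) (g : G)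
    (hg : KR K q (g * z * g⁻¹)) : g * z * g⁻¹ = z :=
  eq_of_mem_Nn F.zK hF (fun _ hh _ hk => F.nrm hh hk) (isPGroup F) (uniq F) g (KR_le_Nn F hg)

/-- the row from `InFacts`, `OutTwo`, `OutSq` -/
theorem false_of [Finite G] (F : Fr K q z) (hO : OutTwo ↥K) (hF : InFacts (⟨z, F.zK⟩ : ↥K))
    (hII : OutSq (⟨z, F.zK⟩ : ↥K)) (hne : ∃ g : G, g * z * g⁻¹ ≠ z ∧ g * z * g⁻¹ * z = z * (g * z * g⁻¹)) :
    False :=
  F.false_of_inner hO (inner_of F hF) hII hne

end Cfsg.Agent.OddHalf.D9.CovTwoSmall
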