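import Cfsg.Agent.OddHalf.D9.M12Glue
import Cfsg.Agent.OddHalf.D9.Cut
import Cfsg.Agent.OddHalf.Front.FE

/-!
# D9, double covers: the starting position from `Iface`

`K` standard with centre of order 2 and `C(K)` with cyclic Sylow 2-subgroups: the central involution `z` of `K` is
the only involution of `C(K)`, `C(K) = ⟨q⟩` is a cyclic 2-group, `C(z) ≤ N(K)`.
-/

set_option autoImplicit false

namespace Cfsg.Agent.OddHalf.D9.Amb

open Subgroup Cfsg Cfsg.Agent.OddHalf.Iface Cfsg.Agent.OddHalf.Front.FE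

universe u

variable {G : Type u} [Group G]

/-- `K` is perfect -/
theorem commutator_eq_top {K : Subgroup G} (S : Std0 G K) : commutator ↥K = ⊤ :=
  S.std.1.1.commutator_eq_top

/-- **The starting position for a double cover.** -/
theorem exists_start (C : Ctx G) {K : Subgroup G} (S : Std0 G K) (hc : Cyc K)
    (h2 : Nat.card ↥(center ↥K) = 2) :
    ∃ (z : ↥K) (q : G), Start0 K (z : G) q ∧ z ∈ center ↥K ∧ z ≠ 1 ∧
      (∀ r : G, (∀ k ∈ K, r * k = k * r) → r ∈ zpowers q) := by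
  haveI := C.fin
  obtain ⟨t, q, H⟩ := exists_start0 C S hc
  haveI hnt : Nontrivial ↥(center ↥K) := by
    rw [← Finite.one_lt_card_iff_nontrivial, h2]
    exact one_lt_two
  obtain ⟨z, hz1⟩ := exists_ne (1 : ↥(center ↥K))
  have hzz : z * z = 1 := by
    have h := pow_card_eq_one' (x := z)
    rwa [h2, pow_two] at h
  have hzK : ∀ k ∈ K, ((z : ↥K) : G) * k = k * (z : ↥K) := fun k hk => by
    have := mem_center_iff.mp z.2 ⟨k, hk⟩
    exact (congrArg Subtype.val this).symm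
  have hzt : ((z : ↥K) : G) * t = t * (z : ↥K) := H.Kt _ (z : ↥K).2
  have hzQ : ((z : ↥K) : G) ∈ zpowers q := H.cK _ hzt fun x hx => (hzK x hx).symm
  have hz : ((z : ↥K) : G) = t := H.uniq hzQ (by
    have := congrArg (fun x : ↥(center ↥K) => (((x : ↥K)) : G)) hzz
    exact this) (by
    intro h
    exact hz1 (Subtype.ext (Subtype.ext h)))
  refine ⟨z, q, ?_, z.2, ?_, ?_⟩
  · rw [hz]; exact H
  · intro h
    exact hz1 (Subtype.ext h)
  · intro r hr
    refine H.cK r ?_ fun x hx => (hr x hx).symm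
    rw [← hz]
    exact hr _ (z : ↥K).2

/-- `Amb` of the row `2.M12`. -/
theorem exists_amb (C : Ctx G) {K : Subgroup G} (S : Std0 G K) (hc : Cyc K)
    (h2 : Nat.card ↥(center ↥K) = 2) :
    ∃ z : ↥K, z ∈ center ↥K ∧ z ≠ 1 ∧ M12Glue.Amb (z : G) K := by
  haveI := C.fin
  obtain ⟨z, q, H, hz, hz1, hr⟩ := exists_start C S hc h2
  refine ⟨z, hz, hz1, z.2, ?_, ?_, ?_, ?_⟩
  · intro h hh k hk
    exact (mem_normalizer_iff.1 (H.nK h hh) k).1 hk
  · intro r hrK
    obtain ⟨n, hn⟩ := H.pQ ⟨r, hr r hrK⟩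
    exact ⟨n, congrArg Subtype.val hn⟩
  · intro r hrK hrr
    by_cases h1 : r = 1
    · exact Or.inl h1
    · exact Or.inr (H.uniq (hr r hrK) hrr h1)
  · intro r s hrK hsK
    obtain ⟨a, rfl⟩ := mem_zpowers_iff.1 (hr r hrK)
    obtain ⟨b, rfl⟩ := mem_zpowers_iff.1 (hr s hsK)
    rw [← zpow_add, ← zpow_add, add_comm]

/-- the facts on `2.M12` needed for the row -/
def Facts : Prop :=
  ∀ (L : Type u) [Group L], Finite L → commutator L = ⊤ → Nat.card ↥(center L) = 2 →
    Spor.IsoM12 (L ⧸ center L) → ∀ c ∈ center L, c ≠ 1 → M12Glue.KFacts L c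

/-- **D9, row `2.M12`**, from the facts on the group `2.M12`. -/
theorem row (F : Facts.{u}) : Cut.Row.{u} (fun K _ => Cut.Two (fun X _ => Spor.IsoM12 X) K) := by
  intro G _ C K S hc h
  haveI := C.fin
  haveI := C.simple
  obtain ⟨z, hz, hz1, A⟩ := exists_amb C S hc h.1
  exact M12Glue.kill C.na A (F ↥K inferInstance (commutator_eq_top S) h.1 h.2 _ hz hz1)

end Cfsg.Agent.OddHalf.D9.Amb
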