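import Cfsg.Agent.OddHalf.D9.L34.Row
import Cfsg.Agent.OddHalf.D9.Co1.Final
import Cfsg.Agent.OddHalf.D9.TwoM12.Row
import Cfsg.Agent.OddHalf.D9.FFour.Main
import Cfsg.Agent.OddHalf.D9.Plug.RowJ2
import Cfsg.Agent.OddHalf.D9.G24.Row
import Cfsg.Agent.OddHalf.D9.G24.OutMain
import Cfsg.Agent.OddHalf.D9.Suz.Row
import Cfsg.Agent.OddHalf.D9.M22.RowFour
import Cfsg.Agent.OddHalf.D9.M22.EDataM22
import Cfsg.Agent.OddHalf.D9.M22.RowTwo
import Cfsg.Agent.OddHalf.D9.M22.PDataM22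
import Cfsg.Agent.OddHalf.D9.EEight.RowFinal
import Cfsg.Agent.OddHalf.D9.Ru.RowFin
import Cfsg.Agent.OddHalf.D9.MultAll
import Cfsg.Agent.OddHalf.D9.Plug.Ru

/-!
# ODD half, node D9: assembly

The rows which are proved are plugged in here.
-/

set_option autoImplicit false

namespace Cfsg.Agent.OddHalf.D9.Final

open Subgroup Cfsg Cfsg.Agent.OddHalf.Iface Cfsg.Agent.OddHalf.D9.Cut

universe u

/-- All rows of `Cut.Rows` except `2.Ru`. -/
theorem rows_of (ru : Row.{u} (fun K _ => Two (fun X _ => Spor.IsoRu X) K)) : Rows.{u} where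
  l34 := L34.Row.row
  o82 := EEight.RowFinal.row
  g24 := G24.Row.row G24.OutL.autL_sg
  f42 := FFour.Main.f42
  m12 := TwoM12.row
  j2 := Plug.RowJ2.row
  suz := SuzRow.row
  ru := ru
  co1 := Co1.Final.row
  m22 := M22.RowTwo.row M22.PDataM22.exists_pdata
  m22four := M22.RowFour.row M22.EDataM22.exists_edata

/-- **All rows of `Cut.Rows`**. -/
theorem rows : Rows.{u} := rows_of Ru.RowFin.row

/-- **D9** from the multiplier facts. -/
theorem d9_of (M : Mult.{u}) : Iface.D9.{u} := d9_of_rows M rows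

/-- The multiplier facts. -/
theorem mult : Mult.{u} := MultAll.mult_of ⟨Plug.Ru.field⟩

/-- **Node D9.** -/
theorem d9 : Iface.D9.{u} := d9_of mult

end Cfsg.Agent.OddHalf.D9.Final
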