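import Mathlib

/-!
# Transfer of an arbitrary element: only fixed cosets count

`G` finite, `H ≤ G`, `φ : H →* A`, `x : G` such that every `g⁻¹ x^k g ∈ H` with `1 ≠ k ∣ orderOf x` lies in
the kernel of `φ`. Then the transfer of `φ` at `x` is the product over the cosets fixed by `x`; and if `D` is a
`2`-subgroup of `C_G(x)` containing `x` and the values have square one, only the cosets fixed by `D` count.
-/

set_option autoImplicit false

namespace Cfsg.Agent.OddHalf.D9.TransferGen

open MulAction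

variable {G : Type*} [Group G]

/-- The value of `φ` at the coset `q`. -/
noncomputable def val {A : Type*} [CommGroup A] (H : Subgroup G) (φ : H →* A) (x : G) (q : G ⧸ H) : A := by
  classical
  exact if h : q.out⁻¹ * x * q.out ∈ H then φ ⟨q.out⁻¹ * x * q.out, h⟩ else 1

theorem val_mk {A : Type*} [CommGroup A] (H : Subgroup G) (φ : H →* A) (x g : G)
    (h : g⁻¹ * x * g ∈ H) : val H φ x (g : G ⧸ H) = φ ⟨g⁻¹ * x * g, h⟩ := by
  classical
  obtain ⟨k, hk⟩ : ∃ k ∈ H, (g : G ⧸ H).out = g * k := by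
    refine ⟨g⁻¹ * (g : G ⧸ H).out, ?_, by group⟩
    rw [← QuotientGroup.eq, QuotientGroup.out_eq']
  have h1 : (g : G ⧸ H).out⁻¹ * x * (g : G ⧸ H).out = k⁻¹ * (g⁻¹ * x * g) * k := by
    rw [hk.2]; group
  have h2 : (g : G ⧸ H).out⁻¹ * x * (g : G ⧸ H).out ∈ H := by
    rw [h1]; exact H.mul_mem (H.mul_mem (H.inv_mem hk.1) h) hk.1
  unfold val
  rw [dif_pos h2]
  have h3 : (⟨(g : G ⧸ H).out⁻¹ * x * (g : G ⧸ H).out, h2⟩ : H) =
      (⟨k, hk.1⟩ : H)⁻¹ * ⟨g⁻¹ * x * g, h⟩ * ⟨k, hk.1⟩ := Subtype.ext h1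
  rw [h3, map_mul, map_mul, map_inv, mul_comm (φ ⟨k, hk.1⟩)⁻¹, inv_mul_cancel_right]

/-- The coset `gH` is fixed by `x` iff `g⁻¹ x g ∈ H`. -/
theorem smul_mk_eq (H : Subgroup G) (x g : G) :
    x • (g : G ⧸ H) = (g : G ⧸ H) ↔ g⁻¹ * x * g ∈ H := by
  rw [MulAction.Quotient.smul_mk, smul_eq_mul, eq_comm, QuotientGroup.eq, mul_assoc]

open Classical in
/-- The transfer at `x` is the product over the fixed cosets. -/
theorem transfer_eq {A : Type*} [CommGroup A] [Finite G] (H : Subgroup G) (φ : H →* A) (x : G)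
    [Fintype (G ⧸ H)]
    (hx : ∀ k, k ∣ orderOf x → k ≠ 1 → ∀ g : G, ∀ h : g⁻¹ * x ^ k * g ∈ H, φ ⟨g⁻¹ * x ^ k * g, h⟩ = 1) :
    MonoidHom.transfer φ x = ∏ q ∈ Finset.univ.filter (fun q : G ⧸ H => x • q = q), val H φ x q := by
  have : Fintype (Quotient (orbitRel (Subgroup.zpowers x) (G ⧸ H))) := Fintype.ofFinite _
  rw [MonoidHom.transfer_eq_prod_quotient_orbitRel_zpowers_quot]
  symm
  -- fixed points correspond to the orbits with one element
  have hfixp : ∀ q : G ⧸ H, x • q = q → ∀ y ∈ Subgroup.zpowers x, y • q = q := by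
    intro q hq y hy
    have : Subgroup.zpowers x ≤ stabilizer G q := by
      rw [Subgroup.zpowers_le]; exact hq
    exact this hy
  have hone : ∀ q : Quotient (orbitRel (Subgroup.zpowers x) (G ⧸ H)),
      ¬ x • q.out = q.out →
      φ ⟨q.out.out⁻¹ * x ^ Function.minimalPeriod (x • ·) q.out * q.out.out,
            QuotientGroup.out_conj_pow_minimalPeriod_mem H x q.out⟩ = 1 := by
    intro q hq
    have h1 : Function.minimalPeriod (x • ·) q.out ≠ 1 := by
      intro h
      rw [Function.minimalPeriod_eq_one_iff_isFixedPt] at h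
      exact hq h
    have h0 : Function.minimalPeriod (x • ·) q.out ∣ orderOf x := by
      apply Function.IsPeriodicPt.minimalPeriod_dvd (n := orderOf x)
      change (x • ·)^[orderOf x] q.out = q.out
      rw [smul_iterate, pow_orderOf_eq_one]
      exact one_smul G q.out
    exact hx _ h0 h1 _ _
  rw [← Finset.prod_filter_mul_prod_filter_not Finset.univ
    (fun q : Quotient (orbitRel (Subgroup.zpowers x) (G ⧸ H)) => x • q.out = q.out)]
  rw [Finset.prod_eq_one (s := Finset.univ.filter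
    (fun q : Quotient (orbitRel (Subgroup.zpowers x) (G ⧸ H)) => ¬ x • q.out = q.out))
    (fun q hq => hone q (Finset.mem_filter.1 hq).2), mul_one]
  refine Finset.prod_bij (fun q _ => (Quotient.mk'' q : Quotient (orbitRel (Subgroup.zpowers x) (G ⧸ H))))
    ?_ ?_ ?_ ?_
  · intro q hq
    have hq' := (Finset.mem_filter.1 hq).2
    rw [Finset.mem_filter]
    refine ⟨Finset.mem_univ _, ?_⟩
    have h1 : (Quotient.mk'' q : Quotient (orbitRel (Subgroup.zpowers x) (G ⧸ H))).out = q := by
      have := Quotient.exact (Quotient.out_eq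
        (Quotient.mk'' q : Quotient (orbitRel (Subgroup.zpowers x) (G ⧸ H))))
      obtain ⟨⟨y, hy⟩, h⟩ := this
      rw [← h]
      exact hfixp q hq' y hy
    rw [h1]; exact hq'
  · intro q hq r hr h
    have hr' := (Finset.mem_filter.1 hr).2
    obtain ⟨⟨y, hy⟩, h⟩ := Quotient.exact h
    rw [← h]
    exact hfixp r hr' y hy
  · intro q hq
    exact ⟨q.out, Finset.mem_filter.2 ⟨Finset.mem_univ _, (Finset.mem_filter.1 hq).2⟩, Quotient.out_eq q⟩
  · intro q hq
    have hq' := (Finset.mem_filter.1 hq).2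
    have h1 : (Quotient.mk'' q : Quotient (orbitRel (Subgroup.zpowers x) (G ⧸ H))).out = q := by
      have := Quotient.exact (Quotient.out_eq
        (Quotient.mk'' q : Quotient (orbitRel (Subgroup.zpowers x) (G ⧸ H))))
      obtain ⟨⟨y, hy⟩, h⟩ := this
      rw [← h]
      exact hfixp q hq' y hy
    have h2 : Function.minimalPeriod (x • ·) q = 1 :=
      Function.minimalPeriod_eq_one_iff_isFixedPt.2 hq'
    have h3 : q.out⁻¹ * x * q.out ∈ H := by
      rw [← smul_mk_eq, QuotientGroup.out_eq']; exact hq'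
    unfold val
    rw [dif_pos h3]
    congr 1
    apply Subtype.ext
    simp only [h1, h2, pow_one]

theorem val_smul {A : Type*} [CommGroup A] (H : Subgroup G) (φ : H →* A) {x c : G}
    (hc : c * x = x * c) {q : G ⧸ H} (hq : x • q = q) : val H φ x (c • q) = val H φ x q := by
  obtain ⟨g, rfl⟩ := QuotientGroup.mk_surjective q
  have h := (smul_mk_eq H x g).1 hq
  have h1 : (c * g)⁻¹ * x * (c * g) = g⁻¹ * x * g := by
    calc (c * g)⁻¹ * x * (c * g) = g⁻¹ * (c⁻¹ * (x * c)) * g := by group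
      _ = g⁻¹ * (c⁻¹ * (c * x)) * g := by rw [hc]
      _ = g⁻¹ * x * g := by group
  have h2 : (c * g)⁻¹ * x * (c * g) ∈ H := by rw [h1]; exact h
  rw [MulAction.Quotient.smul_mk, smul_eq_mul, val_mk H φ x _ h2, val_mk H φ x _ h]
  congr 1
  exact Subtype.ext h1

open Classical in
/-- A `2`-group acting on a finite set with an invariant function whose values have square one: only the
fixed points count. -/
theorem prod_fixed {P X A : Type*} [Group P] [MulAction P X] [CommGroup A] [Finite P]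
    (hP : IsPGroup 2 P) (s : Finset X) (hs : ∀ (p : P) (x : X), x ∈ s → p • x ∈ s) (f : X → A)
    (hf : ∀ (p : P) (x : X), x ∈ s → f (p • x) = f x) (h2 : ∀ x ∈ s, f x ^ 2 = 1) :
    ∏ x ∈ s, f x = ∏ x ∈ s.filter (fun x => ∀ p : P, p • x = x), f x := by
  have : Fact (Nat.Prime 2) := ⟨Nat.prime_two⟩
  rw [← Finset.prod_filter_mul_prod_filter_not s (fun x => ∀ p : P, p • x = x)]
  conv_rhs => rw [← mul_one (∏ x ∈ s.filter (fun x => ∀ p : P, p • x = x), f x)]
  congr 1
  set s' := s.filter (fun x => ¬ ∀ p : P, p • x = x) with hs'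
  have hs'm : ∀ (p : P) (x : X), x ∈ s' → p • x ∈ s' := by
    intro p x hx
    rw [hs', Finset.mem_filter] at hx ⊢
    refine ⟨hs p x hx.1, fun h => hx.2 fun r => ?_⟩
    have h1 : p • x = x := by
      have := h p⁻¹
      rw [inv_smul_smul] at this
      exact this.symm
    have h2 := h r
    rwa [h1] at h2
  rw [Finset.prod_comp (fun a => a) f]
  apply Finset.prod_eq_one
  intro a ha
  obtain ⟨x0, hx0, rfl⟩ := Finset.mem_image.1 ha
  set F : Finset X := s'.filter (fun x => f x = f x0) with hF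
  have hsub : ∀ x ∈ s', x ∈ s := fun x hx => (Finset.mem_filter.1 hx).1
  have hFm : ∀ (p : P) (x : X), x ∈ F → p • x ∈ F := by
    intro p x hx
    rw [hF, Finset.mem_filter] at hx ⊢
    exact ⟨hs'm p x hx.1, by rw [hf p x (hsub x hx.1)]; exact hx.2⟩
  let act : MulAction P F :=
    { smul := fun p x => ⟨p • (x : X), hFm p x x.2⟩
      one_smul := fun x => Subtype.ext (one_smul P (x : X))
      mul_smul := fun p q x => Subtype.ext (mul_smul p q (x : X)) }
  have h3 := hP.card_modEq_card_fixedPoints F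
  have h4 : MulAction.fixedPoints P F = ∅ := by
    rw [Set.eq_empty_iff_forall_notMem]
    intro x hx
    have hx2 := (Finset.mem_filter.1 (Finset.mem_filter.1 x.2).1).2
    exact hx2 fun p => congrArg Subtype.val (hx p)
  have h40 : Nat.card (MulAction.fixedPoints P F) = 0 := by
    rw [h4]; simp
  rw [h40] at h3
  have h5 : Even F.card := by
    rw [Nat.even_iff]
    have h6 : Nat.card F = F.card := by simp
    rw [h6] at h3
    exact h3
  obtain ⟨k, hk⟩ := h5
  have h7 : (s'.filter (fun x => f x = f x0)).card = k + k := hk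
  rw [h7, ← two_mul, pow_mul, h2 x0 (hsub x0 hx0), one_pow]

open Classical in
/-- **Transfer at `x` with a `2`-group `D` centralizing `x`**: only the cosets fixed by `D` count. -/
theorem transfer_eq_D {A : Type*} [CommGroup A] [Finite G] (H : Subgroup G) (φ : H →* A) (x : G)
    [Fintype (G ⧸ H)]
    (hx : ∀ k, k ∣ orderOf x → k ≠ 1 → ∀ g : G, ∀ h : g⁻¹ * x ^ k * g ∈ H, φ ⟨g⁻¹ * x ^ k * g, h⟩ = 1)
    (D : Subgroup G) (hD : IsPGroup 2 D) (hxD : x ∈ D) (hDx : ∀ d ∈ D, d * x = x * d) :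
    MonoidHom.transfer φ x =
      ∏ q ∈ Finset.univ.filter (fun q : G ⧸ H => ∀ d ∈ D, d • q = q), val H φ x q := by
  rw [transfer_eq H φ x hx]
  have hact : ∀ (d : D) (q : G ⧸ H), d • q = (d : G) • q := fun _ _ => rfl
  rw [prod_fixed hD (Finset.univ.filter (fun q : G ⧸ H => x • q = q)) ?_ (val H φ x) ?_ ?_]
  · apply Finset.prod_congr _ (fun _ _ => rfl)
    ext q
    simp only [Finset.mem_filter, Finset.mem_univ, true_and]
    constructor
    · rintro ⟨-, h⟩ d hd
      exact h ⟨d, hd⟩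
    · intro h
      exact ⟨h x hxD, fun d => h d d.2⟩
  · intro d q hq
    rw [Finset.mem_filter] at hq ⊢
    refine ⟨Finset.mem_univ _, ?_⟩
    rw [hact, ← mul_smul, ← hDx d d.2, mul_smul, hq.2]
  · intro d q hq
    rw [hact]
    exact val_smul H φ (hDx d d.2) (Finset.mem_filter.1 hq).2
  · intro q hq
    obtain ⟨g, rfl⟩ := QuotientGroup.mk_surjective q
    have h := (smul_mk_eq H x g).1 (Finset.mem_filter.1 hq).2
    rw [val_mk H φ x g h, ← map_pow]
    have h1 : g⁻¹ * x ^ 2 * g ∈ H := by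
      have : g⁻¹ * x ^ 2 * g = (g⁻¹ * x * g) * (g⁻¹ * x * g) := by rw [pow_two]; group
      rw [this]; exact H.mul_mem h h
    have h2 : φ ⟨g⁻¹ * x ^ 2 * g, h1⟩ = 1 := by
      obtain ⟨m, hm⟩ := (IsPGroup.iff_orderOf.1 hD) ⟨x, hxD⟩
      rw [Subgroup.orderOf_mk] at hm
      rcases Nat.eq_zero_or_pos m with rfl | hm0
      · have hx1 : x = 1 := by
          rw [pow_zero, orderOf_eq_one_iff] at hm; exact hm
        have h3 : (⟨g⁻¹ * x ^ 2 * g, h1⟩ : H) = 1 := by
          apply Subtype.ext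
          change g⁻¹ * x ^ 2 * g = 1
          rw [hx1]; group
        rw [h3, map_one]
      · refine hx 2 ?_ (by decide) g h1
        rw [hm]
        exact dvd_pow_self 2 (by omega)
    rw [← h2]
    congr 1
    apply Subtype.ext
    rw [Subgroup.coe_pow]
    change (g⁻¹ * x * g) ^ 2 = g⁻¹ * x ^ 2 * g
    rw [pow_two, pow_two]; group

end Cfsg.Agent.OddHalf.D9.TransferGen
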