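import Cfsg.Agent.OddHalf.D9.TransferGen

/-!
# Parity of the outer conjugates of `z`

`H = C_G(z)`, `l : H →* ℤˣ`. For a conjugate `a = g z g⁻¹` and `y ∈ C_G(a)` put
`Lam l a y := l (g⁻¹ y g)`. If `G` has no subgroup of index two, then for every `x` (no power `x^k`, `1 ≠ k ∣ orderOf x`,
has a conjugate in `H` outside `ker l`) and every `2`-subgroup `D ≤ C_G(x)` with `x ∈ D` the number of
conjugates `a` of `z` in `C_G(D)` with `Lam l a x = -1` is even.
-/

set_option autoImplicit false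

namespace Cfsg.Agent.OddHalf.D9.Outer

open MulAction Subgroup Cfsg.Agent.OddHalf.D9.TransferGen

variable {G : Type*} [Group G]

/-- The value of the conjugate character. -/
noncomputable def Lam {z : G} (l : centralizer ({z} : Set G) →* ℤˣ) (a y : G) : ℤˣ := by
  classical
  exact if h : ∃ g : G, g * z * g⁻¹ = a ∧ g⁻¹ * y * g ∈ centralizer ({z} : Set G) then
    l ⟨h.choose⁻¹ * y * h.choose, h.choose_spec.2⟩ else 1

theorem Lam_eq {z : G} (l : centralizer ({z} : Set G) →* ℤˣ) {a y g : G} (hg : g * z * g⁻¹ = a)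
    (hy : g⁻¹ * y * g ∈ centralizer ({z} : Set G)) : Lam l a y = l ⟨g⁻¹ * y * g, hy⟩ := by
  classical
  have h : ∃ g : G, g * z * g⁻¹ = a ∧ g⁻¹ * y * g ∈ centralizer ({z} : Set G) := ⟨g, hg, hy⟩
  unfold Lam
  rw [dif_pos h]
  set c := h.choose with hc
  have h1 : c * z * c⁻¹ = a := h.choose_spec.1
  have hk : c⁻¹ * g ∈ centralizer ({z} : Set G) := by
    rw [mem_centralizer_singleton_iff]
    have h2 : z = c⁻¹ * (g * z * g⁻¹) * c := by rw [hg, ← h1]; group
    calc c⁻¹ * g * z = c⁻¹ * (g * z * g⁻¹) * c * (c⁻¹ * g) := by group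
      _ = z * (c⁻¹ * g) := by rw [← h2]
  have h3 : (⟨g⁻¹ * y * g, hy⟩ : centralizer ({z} : Set G)) =
      (⟨c⁻¹ * g, hk⟩)⁻¹ * ⟨c⁻¹ * y * c, h.choose_spec.2⟩ * ⟨c⁻¹ * g, hk⟩ := by
    apply Subtype.ext
    change g⁻¹ * y * g = (c⁻¹ * g)⁻¹ * (c⁻¹ * y * c) * (c⁻¹ * g)
    group
  rw [h3, map_mul, map_mul, map_inv, mul_comm (l ⟨c⁻¹ * g, hk⟩)⁻¹, inv_mul_cancel_right]

theorem conj_mem {z a y g : G} (hg : g * z * g⁻¹ = a) (hy : y * a = a * y) :
    g⁻¹ * y * g ∈ centralizer ({z} : Set G) := by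
  rw [mem_centralizer_singleton_iff]
  calc g⁻¹ * y * g * z = g⁻¹ * (y * (g * z * g⁻¹)) * g := by group
    _ = g⁻¹ * (y * a) * g := by rw [hg]
    _ = g⁻¹ * (a * y) * g := by rw [hy]
    _ = g⁻¹ * (g * z * g⁻¹ * y) * g := by rw [hg]
    _ = z * (g⁻¹ * y * g) := by group

theorem Lam_self {z : G} (l : centralizer ({z} : Set G) →* ℤˣ) {y : G}
    (hy : y ∈ centralizer ({z} : Set G)) : Lam l z y = l ⟨y, hy⟩ := by
  have h : (1 : G)⁻¹ * y * 1 ∈ centralizer ({z} : Set G) := by simpa using hy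
  rw [Lam_eq l (g := 1) (by group) h]
  congr 1
  apply Subtype.ext
  simp

theorem Lam_mul {z : G} (l : centralizer ({z} : Set G) →* ℤˣ) {a y y' : G} (ha : IsConj z a)
    (hy : y * a = a * y) (hy' : y' * a = a * y') : Lam l a (y * y') = Lam l a y * Lam l a y' := by
  obtain ⟨g, hg⟩ := isConj_iff.1 ha
  have h1 := conj_mem hg hy
  have h2 := conj_mem hg hy'
  have h3 : g⁻¹ * (y * y') * g ∈ centralizer ({z} : Set G) := by
    have : g⁻¹ * (y * y') * g = (g⁻¹ * y * g) * (g⁻¹ * y' * g) := by group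
    rw [this]; exact mul_mem h1 h2
  rw [Lam_eq l hg h1, Lam_eq l hg h2, Lam_eq l hg h3, ← map_mul]
  congr 1
  apply Subtype.ext
  change g⁻¹ * (y * y') * g = (g⁻¹ * y * g) * (g⁻¹ * y' * g)
  group

/-- Equivariance. -/
theorem Lam_conj {z : G} (l : centralizer ({z} : Set G) →* ℤˣ) {a y : G} (ha : IsConj z a)
    (hy : y * a = a * y) (c : G) : Lam l (c * a * c⁻¹) (c * y * c⁻¹) = Lam l a y := by
  obtain ⟨g, hg⟩ := isConj_iff.1 ha
  have h1 := conj_mem hg hy
  have h2 : (c * g)⁻¹ * (c * y * c⁻¹) * (c * g) = g⁻¹ * y * g := by group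
  have h3 : (c * g)⁻¹ * (c * y * c⁻¹) * (c * g) ∈ centralizer ({z} : Set G) := by rw [h2]; exact h1
  rw [Lam_eq l hg h1, Lam_eq l (a := c * a * c⁻¹) (g := c * g) (by rw [← hg]; group) h3]
  congr 1
  exact Subtype.ext h2

theorem Lam_one_of_comm {z : G} (l : centralizer ({z} : Set G) →* ℤˣ) {a : G} (ha : IsConj z a)
    (hz : l ⟨z, mem_centralizer_singleton_iff.2 rfl⟩ = 1) : Lam l a a = 1 := by
  obtain ⟨g, hg⟩ := isConj_iff.1 ha
  have h1 : g⁻¹ * a * g = z := by rw [← hg]; group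
  have h2 : g⁻¹ * a * g ∈ centralizer ({z} : Set G) := by
    rw [h1]; exact mem_centralizer_singleton_iff.2 rfl
  rw [Lam_eq l hg h2, ← hz]
  congr 1
  exact Subtype.ext h1

/-- The set of conjugates of `z` centralizing `D` at which `x` has the sign `-1`. -/
def Neg {z : G} (l : centralizer ({z} : Set G) →* ℤˣ) (D : Subgroup G) (x : G) : Set G :=
  {a | IsConj z a ∧ (∀ d ∈ D, d * a = a * d) ∧ Lam l a x = -1}

open Classical in
/-- **Parity**: the transfer to `G` of `l`, at `x`. -/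
theorem transfer_neg [Finite G] {z : G} (l : centralizer ({z} : Set G) →* ℤˣ) (x : G)
    (hx : ∀ k, k ∣ orderOf x → k ≠ 1 → ∀ g : G, ∀ h : g⁻¹ * x ^ k * g ∈ centralizer ({z} : Set G),
      l ⟨g⁻¹ * x ^ k * g, h⟩ = 1)
    (D : Subgroup G) (hD : IsPGroup 2 D) (hxD : x ∈ D) (hDx : ∀ d ∈ D, d * x = x * d) :
    MonoidHom.transfer l x = (-1) ^ (Neg l D x).ncard := by
  have : Fintype (G ⧸ centralizer ({z} : Set G)) := Fintype.ofFinite _
  rw [transfer_eq_D (centralizer ({z} : Set G)) l x hx D hD hxD hDx]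
  set s := Finset.univ.filter (fun q : G ⧸ centralizer ({z} : Set G) => ∀ d ∈ D, d • q = q) with hs
  have h1 : ∀ q : G ⧸ centralizer ({z} : Set G), val (centralizer ({z} : Set G)) l x q =
      if val (centralizer ({z} : Set G)) l x q = -1 then -1 else 1 := by
    intro q
    split_ifs with h
    · exact h
    · rcases Int.units_eq_one_or (val (centralizer ({z} : Set G)) l x q) with h' | h'
      · exact h'
      · exact absurd h' h
  rw [Finset.prod_congr rfl (fun q _ => h1 q), Finset.prod_ite, Finset.prod_const_one, mul_one,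
    Finset.prod_const]
  congr 1
  rw [← Set.ncard_coe_finset]
  refine Set.ncard_congr (fun q _ => q.out * z * q.out⁻¹) ?_ ?_ ?_
  · intro q hq
    rw [Finset.mem_coe, Finset.mem_filter, hs, Finset.mem_filter] at hq
    obtain ⟨⟨-, hq1⟩, hq2⟩ := hq
    have hd : ∀ d ∈ D, q.out⁻¹ * d * q.out ∈ centralizer ({z} : Set G) := by
      intro d hd
      rw [← smul_mk_eq, QuotientGroup.out_eq']
      exact hq1 d hd
    refine ⟨isConj_iff.2 ⟨q.out, rfl⟩, ?_, ?_⟩
    · intro d hd'
      have := mem_centralizer_singleton_iff.1 (hd d hd')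
      calc d * (q.out * z * q.out⁻¹) = q.out * (q.out⁻¹ * d * q.out * z) * q.out⁻¹ := by group
        _ = q.out * (z * (q.out⁻¹ * d * q.out)) * q.out⁻¹ := by rw [this]
        _ = q.out * z * q.out⁻¹ * d := by group
    · rw [Lam_eq l rfl (hd x hxD), ← hq2]
      unfold val
      rw [dif_pos (hd x hxD)]
  · intro q r hq hr h
    have h2 : q.out * z * q.out⁻¹ = r.out * z * r.out⁻¹ := h
    have h3 : r.out⁻¹ * q.out ∈ centralizer ({z} : Set G) := by
      rw [mem_centralizer_singleton_iff]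
      calc r.out⁻¹ * q.out * z = r.out⁻¹ * (q.out * z * q.out⁻¹) * q.out := by group
        _ = r.out⁻¹ * (r.out * z * r.out⁻¹) * q.out := by rw [h2]
        _ = z * (r.out⁻¹ * q.out) := by group
    rw [← QuotientGroup.out_eq' q, ← QuotientGroup.out_eq' r]
    exact (QuotientGroup.eq.2 h3).symm
  · rintro a ⟨ha, hc, hL⟩
    obtain ⟨g, hg⟩ := isConj_iff.1 ha
    have hd : ∀ d ∈ D, g⁻¹ * d * g ∈ centralizer ({z} : Set G) := fun d hd => conj_mem hg (hc d hd)
    refine ⟨(g : G ⧸ centralizer ({z} : Set G)), ?_, ?_⟩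
    · rw [Finset.mem_coe, Finset.mem_filter, hs, Finset.mem_filter]
      refine ⟨⟨Finset.mem_univ _, fun d hd' => (smul_mk_eq _ d g).2 (hd d hd')⟩, ?_⟩
      rw [val_mk _ _ _ _ (hd x hxD), ← hL, Lam_eq l hg (hd x hxD)]
    · have h2 : g⁻¹ * (g : G ⧸ centralizer ({z} : Set G)).out ∈ centralizer ({z} : Set G) := by
        rw [← QuotientGroup.eq, QuotientGroup.out_eq']
      have h3 := mem_centralizer_singleton_iff.1 h2
      set o := (g : G ⧸ centralizer ({z} : Set G)).out with ho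
      change o * z * o⁻¹ = a
      rw [← hg]
      calc o * z * o⁻¹ = g * (g⁻¹ * o * z) * o⁻¹ := by group
        _ = g * (z * (g⁻¹ * o)) * o⁻¹ := by rw [h3]
        _ = g * z * g⁻¹ := by group

theorem hom_units_eq_one [Finite G] (hG : ∀ N : Subgroup G, N.index ≠ 2) (f : G →* ℤˣ) (x : G) :
    f x = 1 := by
  by_contra h
  apply hG f.ker
  rw [Subgroup.index_ker]
  have h1 : f x = -1 := (Int.units_eq_one_or (f x)).resolve_left h
  have h2 : f.range = ⊤ := by
    rw [eq_top_iff]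
    intro y _
    rcases Int.units_eq_one_or y with rfl | rfl
    · exact one_mem _
    · exact ⟨x, h1⟩
  rw [h2]
  simp [Nat.card_eq_fintype_card]

/-- If `G` has no subgroup of index `2`, the number of conjugates `a` of `z` in `C_G(D)` with
`Lam l a x = -1` is even. -/
theorem even_neg [Finite G] (hG : ∀ N : Subgroup G, N.index ≠ 2) {z : G}
    (l : centralizer ({z} : Set G) →* ℤˣ) (x : G)
    (hx : ∀ k, k ∣ orderOf x → k ≠ 1 → ∀ g : G, ∀ h : g⁻¹ * x ^ k * g ∈ centralizer ({z} : Set G),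
      l ⟨g⁻¹ * x ^ k * g, h⟩ = 1)
    (D : Subgroup G) (hD : IsPGroup 2 D) (hxD : x ∈ D) (hDx : ∀ d ∈ D, d * x = x * d) :
    Even (Neg l D x).ncard := by
  have h1 := transfer_neg l x hx D hD hxD hDx
  rw [hom_units_eq_one hG] at h1
  by_contra h2
  rw [Nat.not_even_iff_odd] at h2
  rw [h2.neg_one_pow] at h1
  exact absurd h1 (by decide)

/-- The conjugates of `z` different from `z` that centralize `D`. -/
def Out (z : G) (D : Subgroup G) : Set G :=
  {a | IsConj z a ∧ a ≠ z ∧ ∀ d ∈ D, d * a = a * d}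

/-- **Pairs**: suppose `l x = -1` and for every conjugate `e ≠ z` of `z` in `C_G(D)` also `e z` is
conjugate to `z`, and exactly one of the signs at `e`, `e z` is `-1`. Then the number of these `e` is
`2` modulo `4`. -/
theorem ncard_out_mod_four [Finite G] (hG : ∀ N : Subgroup G, N.index ≠ 2) {z : G} (hz : z * z = 1)
    (l : centralizer ({z} : Set G) →* ℤˣ) (x : G) (hxz : x ∈ centralizer ({z} : Set G))
    (hlx : l ⟨x, hxz⟩ = -1)
    (hx : ∀ k, k ∣ orderOf x → k ≠ 1 → ∀ g : G, ∀ h : g⁻¹ * x ^ k * g ∈ centralizer ({z} : Set G),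
      l ⟨g⁻¹ * x ^ k * g, h⟩ = 1)
    (D : Subgroup G) (hD : IsPGroup 2 D) (hxD : x ∈ D) (hDx : ∀ d ∈ D, d * x = x * d)
    (hDz : ∀ d ∈ D, d * z = z * d)
    (hpair : ∀ e ∈ Out z D, IsConj z (e * z) ∧ Lam l e x * Lam l (e * z) x = -1) :
    (Out z D).ncard % 4 = 2 := by
  classical
  have h1 := even_neg hG l x hx D hD hxD hDx
  -- the involution `e ↦ e z` of `Out z D`
  have hz1 : ∀ e ∈ Out z D, e * z ∈ Out z D := by
    intro e he
    refine ⟨(hpair e he).1, ?_, ?_⟩
    · intro h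
      have h2 : e = 1 := by
        have := congrArg (· * z) h
        simp only [mul_assoc, hz, mul_one] at this
        exact this
      have h3 : z = 1 := by
        have := he.1
        rw [h2] at this
        obtain ⟨g, hg⟩ := isConj_iff.1 this
        calc z = g⁻¹ * (g * z * g⁻¹) * g := by group
          _ = 1 := by rw [hg]; group
      exact he.2.1 (h2.trans h3.symm)
    · intro d hd
      calc d * (e * z) = d * e * z := by group
        _ = e * d * z := by rw [he.2.2 d hd]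
        _ = e * (d * z) := by group
        _ = e * (z * d) := by rw [hDz d hd]
        _ = e * z * d := by group
  set P : Set G := {e ∈ Out z D | Lam l e x = -1} with hP
  set Q : Set G := {e ∈ Out z D | Lam l e x = 1} with hQ
  have hPQ : P.ncard = Q.ncard := by
    refine Set.ncard_congr (fun e _ => e * z) ?_ ?_ ?_
    · rintro e ⟨he, hL⟩
      refine ⟨hz1 e he, ?_⟩
      have := (hpair e he).2
      rw [hL] at this
      rcases Int.units_eq_one_or (Lam l (e * z) x) with h | h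
      · exact h
      · rw [h] at this; exact absurd this (by decide)
    · intro e f _ _ h
      exact mul_right_cancel h
    · rintro e ⟨he, hL⟩
      refine ⟨e * z, ⟨hz1 e he, ?_⟩, ?_⟩
      · have := (hpair e he).2
        rw [hL, one_mul] at this
        exact this
      · simp only [mul_assoc, hz, mul_one]
  have hunion : Out z D = P ∪ Q := by
    ext e
    constructor
    · intro he
      rcases Int.units_eq_one_or (Lam l e x) with h | h
      · exact Or.inr ⟨he, h⟩
      · exact Or.inl ⟨he, h⟩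
    · rintro (h | h)
      · exact h.1
      · exact h.1
  have hdisj : Disjoint P Q := by
    rw [Set.disjoint_left]
    rintro e ⟨_, h⟩ ⟨_, h'⟩
    rw [h] at h'
    exact absurd h' (by decide)
  have hfin : ∀ s : Set G, s.Finite := fun s => Set.toFinite s
  have h2 : (Out z D).ncard = P.ncard + Q.ncard := by
    rw [hunion]; exact Set.ncard_union_eq hdisj (hfin _) (hfin _)
  -- `Neg = {z} ∪ P`
  have h3 : Neg l D x = insert z P := by
    ext e
    constructor
    · rintro ⟨he, hc, hL⟩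
      by_cases h : e = z
      · exact Or.inl h
      · exact Or.inr ⟨⟨he, h, hc⟩, hL⟩
    · rintro (h | h)
      · rw [h]
        exact ⟨IsConj.refl z, hDz, by rw [Lam_self l hxz]; exact hlx⟩
      · exact ⟨h.1.1, h.1.2.2, h.2⟩
  have h4 : z ∉ P := fun h => h.1.2.1 rfl
  rw [h3, Set.ncard_insert_of_notMem h4 (hfin _)] at h1
  have h5 : P.ncard % 2 = 1 := by
    rcases h1 with ⟨k, hk⟩
    omega
  omega

/-- The hypothesis `hx` for an element of order `4` whose square is not conjugate to `z`, if all the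
involutions of `C(z)` outside `ker l` are conjugate to `z`. -/
theorem hx_of_four {z : G} (l : centralizer ({z} : Set G) →* ℤˣ)
    (hl : ∀ y : centralizer ({z} : Set G), orderOf y = 2 → l y = -1 → IsConj z (y : G)) {x : G}
    (h4 : orderOf x = 4) (hx2 : ¬ IsConj z (x ^ 2)) :
    ∀ k, k ∣ orderOf x → k ≠ 1 → ∀ g : G, ∀ h : g⁻¹ * x ^ k * g ∈ centralizer ({z} : Set G),
      l ⟨g⁻¹ * x ^ k * g, h⟩ = 1 := by
  intro k hk hk1 g h
  rw [h4] at hk
  have hk' : k = 2 ∨ k = 4 := by
    have : k ≤ 4 := Nat.le_of_dvd (by decide) hk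
    interval_cases k <;> simp_all
  rcases hk' with rfl | rfl
  · by_contra hne
    have h1 := (Int.units_eq_one_or (l ⟨g⁻¹ * x ^ 2 * g, h⟩)).resolve_left hne
    have h2 : orderOf (x ^ 2) = 2 := by
      rw [orderOf_pow' x (by decide), h4]; decide
    have h3 : orderOf (⟨g⁻¹ * x ^ 2 * g, h⟩ : centralizer ({z} : Set G)) = 2 := by
      rw [Subgroup.orderOf_mk]
      have h5 : SemiconjBy g⁻¹ (x ^ 2) (g⁻¹ * x ^ 2 * g) := by
        change g⁻¹ * x ^ 2 = g⁻¹ * x ^ 2 * g * g⁻¹
        group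
      rw [← SemiconjBy.orderOf_eq _ h5, h2]
    apply hx2
    have h4 := hl _ h3 h1
    refine h4.trans (isConj_iff.2 ⟨g, ?_⟩)
    change g * (g⁻¹ * x ^ 2 * g) * g⁻¹ = x ^ 2
    group
  · have : x ^ 4 = 1 := by rw [← h4]; exact pow_orderOf_eq_one x
    have h1 : (⟨g⁻¹ * x ^ 4 * g, h⟩ : centralizer ({z} : Set G)) = 1 := by
      apply Subtype.ext
      change g⁻¹ * x ^ 4 * g = 1
      rw [this]; group
    rw [h1, map_one]

end Cfsg.Agent.OddHalf.D9.Outer
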