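import Mathlib
import Cfsg.Agent.OddHalf.D9.DoubleKill
import Cfsg.Agent.Lib.ProductSet

/-!
# Double covers as standard subgroups: the kill for arbitrary `C_G(K)`

`CFacts z m`: facts about a group `K` with centre `{1, z}` in which the centralizer of a noncentral involution is a Sylow
2-subgroup. `false_of_pt`: a finite simple group has no subgroup `K` with `CFacts`, normal in `C_G(z)`, such that
`C_G(v) ≤ C_G(z)` for the involutions `v` of `C_G(K)` and `z` is its only conjugate in `C_G(K)`. There is no hypothesis on the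
2-rank of `C_G(K)`.
-/

set_option autoImplicit false

namespace Cfsg.Agent.OddHalf.D9.AnyC

open Subgroup CharSylow DoubleKill
open scoped commutatorElement Pointwise

/-- The facts about the double cover `K` (with centre `{1, z}`). -/
structure CFacts {K : Type*} [Group K] (z : K) (m : ℕ) : Prop where
  m0 : 0 < m
  zz : z * z = 1
  z1 : z ≠ 1
  zc : ∀ y : K, y * z = z * y
  cen : ∀ x : K, (∀ y, x * y = y * x) → x = 1 ∨ x = z
  nosq : ∀ y : K, y * y ≠ z
  syl : ∀ k : K, k * k = 1 → k ≠ 1 → k ≠ z → ∃ S : Sylow 2 K, ∀ x, x ∈ S ↔ x * k = k * x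
  nof : ∀ k x : K, k * k = 1 → k ≠ 1 → k ≠ z → x * k * x⁻¹ ≠ k * z
  derz : ∀ S : Sylow 2 K, z ∈ ⁅(S : Subgroup K), (S : Subgroup K)⁆
  der : ∀ S : Sylow 2 K, ∀ e ∈ ⁅(S : Subgroup K), (S : Subgroup K)⁆, e ≠ 1 → e ≠ z → ∃ y ∈ S, y * y = e
  gen : ∀ S : Sylow 2 K, (S : Subgroup K) ≤ J (2 * m) (S : Subgroup K)
  elc : ∀ A : Subgroup (MulAut K), (∀ α ∈ A, α * α = 1) → Nat.card A ≤ m
  el : ∀ A : Subgroup (MulAut K), (∀ α ∈ A, α * α = 1) → m ≤ Nat.card A → ∀ α ∈ A, ∃ k, α = MulAut.conj k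
  outr : ∀ α : MulAut K, α * α = 1 → (∀ k, α ≠ MulAut.conj k) → ∃ r, α r = r ∧ ∀ n : ℕ, r ^ (2 ^ n) ≠ 1
  out : ∀ α : MulAut K, α * α = 1 → (∀ k, α ≠ MulAut.conj k) →
    ∃ k, α k * k⁻¹ ≠ 1 ∧ α k * k⁻¹ ∈ closure {x | ∃ y, α y = y ∧ y * y = x}
  exp2 : ∀ α : MulAut K, ∃ k, α * α = MulAut.conj k

variable {G : Type*} [Group G]

/-- the product of two commuting subgroups -/
def prd (A B : Subgroup G) (h : ∀ a ∈ A, ∀ b ∈ B, a * b = b * a) : Subgroup G where
  carrier := {x | ∃ a ∈ A, ∃ b ∈ B, x = a * b}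
  mul_mem' := by
    rintro _ _ ⟨a, ha, b, hb, rfl⟩ ⟨a', ha', b', hb', rfl⟩
    refine ⟨a * a', A.mul_mem ha ha', b * b', B.mul_mem hb hb', ?_⟩
    calc a * b * (a' * b') = a * (b * a') * b' := by group
      _ = a * (a' * b) * b' := by rw [h a' ha' b hb]
      _ = a * a' * (b * b') := by group
  one_mem' := ⟨1, A.one_mem, 1, B.one_mem, by rw [one_mul]⟩
  inv_mem' := by
    rintro _ ⟨a, ha, b, hb, rfl⟩
    refine ⟨a⁻¹, A.inv_mem ha, b⁻¹, B.inv_mem hb, ?_⟩
    rw [h a ha b hb, mul_inv_rev]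

theorem mem_prd {A B : Subgroup G} {h : ∀ a ∈ A, ∀ b ∈ B, a * b = b * a} {x : G} :
    x ∈ prd A B h ↔ ∃ a ∈ A, ∃ b ∈ B, x = a * b := Iff.rfl

theorem left_le_prd {A B : Subgroup G} (h : ∀ a ∈ A, ∀ b ∈ B, a * b = b * a) : A ≤ prd A B h :=
  fun a ha => ⟨a, ha, 1, B.one_mem, by rw [mul_one]⟩

theorem right_le_prd {A B : Subgroup G} (h : ∀ a ∈ A, ∀ b ∈ B, a * b = b * a) : B ≤ prd A B h :=
  fun b hb => ⟨1, A.one_mem, b, hb, by rw [one_mul]⟩

theorem card_prd {A B : Subgroup G} (h : ∀ a ∈ A, ∀ b ∈ B, a * b = b * a) :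
    Nat.card (prd A B h) * Nat.card (A ⊓ B : Subgroup G) = Nat.card A * Nat.card B := by
  rw [← Cfsg.Agent.Lib.ProductSet.card_mul_card_inf A B]
  congr 1
  have h1 : ((A : Set G) * (B : Set G) : Set G) = ((prd A B h : Subgroup G) : Set G) := by
    ext x
    rw [Set.mem_mul]
    constructor
    · rintro ⟨a, ha, b, hb, rfl⟩
      exact ⟨a, ha, b, hb, rfl⟩
    · rintro ⟨a, ha, b, hb, rfl⟩
      exact ⟨a, ha, b, hb, rfl⟩
  rw [h1]
  rfl

/-- `K` is normal in `C(z)`, the centralizers of the involutions of `C(K)` are contained in `C(z)`. -/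
structure Pt (K : Subgroup G) (z : G) (m : ℕ) : Prop where
  zK : z ∈ K
  facts : CFacts (⟨z, zK⟩ : K) m
  nrm : ∀ h, h * z = z * h → ∀ k ∈ K, h * k * h⁻¹ ∈ K
  C1 : ∀ v, v * v = 1 → v ≠ 1 → (∀ k ∈ K, v * k = k * v) → ∀ g, g * v = v * g → g * z = z * g

namespace Pt

variable {K : Subgroup G} {z : G} {m : ℕ}

theorem zc (h : Pt K z m) : ∀ k ∈ K, k * z = z * k := fun k hk => congrArg Subtype.val (h.facts.zc ⟨k, hk⟩)

theorem zz (h : Pt K z m) : z * z = 1 := congrArg Subtype.val h.facts.zz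

theorem z1 (h : Pt K z m) : z ≠ 1 := fun h1 => h.facts.z1 (Subtype.ext h1)

theorem cen (h : Pt K z m) {x : G} (hx : x ∈ K) (hc : ∀ y ∈ K, x * y = y * x) : x = 1 ∨ x = z := by
  rcases h.facts.cen ⟨x, hx⟩ (fun y => Subtype.ext (hc y y.2)) with h1 | h1
  · exact Or.inl (congrArg Subtype.val h1)
  · exact Or.inr (congrArg Subtype.val h1)

/-- an involution inducing an inner automorphism -/
theorem decomp (h : Pt K z m) {e : G} (he : e * e = 1) (heN : e ∈ Nn K) :
    ∃ k ∈ K, ∃ c, e = k * c ∧ (∀ x ∈ K, c * x = x * c) ∧ k * k = 1 ∧ c * c = 1 := by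
  obtain ⟨k, hk, h0⟩ := heN
  have hr : ∀ x ∈ K, (k⁻¹ * e) * x = x * (k⁻¹ * e) := by
    intro x hx
    have h1 := h0 x hx
    calc k⁻¹ * e * x = k⁻¹ * (e * x * e⁻¹) * e := by group
      _ = k⁻¹ * (k * x * k⁻¹) * e := by rw [h1]
      _ = x * (k⁻¹ * e) := by group
  obtain ⟨r, hr'⟩ : ∃ r, r = k⁻¹ * e := ⟨_, rfl⟩
  rw [← hr'] at hr
  have hek : e = k * r := by rw [hr']; group
  have hkr := hr k hk
  have h2 : (k * k) * (r * r) = 1 := by
    rw [← he, hek]
    calc k * k * (r * r) = k * (k * r) * r := by group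
      _ = k * (r * k) * r := by rw [hkr]
      _ = k * r * (k * r) := by group
  have hkk : k * k = (r * r)⁻¹ := eq_inv_of_mul_eq_one_left h2
  have h3 : ∀ x ∈ K, k * k * x = x * (k * k) := by
    intro x hx
    rw [hkk]
    have h4 : r * r * x = x * (r * r) := by rw [mul_assoc, hr x hx, ← mul_assoc, hr x hx, mul_assoc]
    rw [inv_mul_eq_iff_eq_mul, ← mul_assoc, h4]
    group
  have h5 : k * k = 1 := by
    rcases h.cen (K.mul_mem hk hk) h3 with h4 | h4
    · exact h4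
    · exact absurd (Subtype.ext h4) (h.facts.nosq ⟨k, hk⟩)
  rw [h5, one_mul] at h2
  exact ⟨k, hk, r, hek, hr, h5, h2⟩

end Pt

/-- commutation with `k c`, `c` centralizing `K` -/
theorem cent_iff {K : Subgroup G} {e k c : G} (he : e = k * c) (hc : ∀ x ∈ K, c * x = x * c) {x : G} (hx : x ∈ K) :
    x * e = e * x ↔ x * k = k * x := by
  rw [he, mul_assoc, hc x hx, ← mul_assoc, ← mul_assoc]
  exact mul_left_inj c

/-- Two points, `z` and `a`. -/
structure Pair (K : Subgroup G) (z : G) (L : Subgroup G) (a : G) (m : ℕ) : Prop where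
  hK : Pt K z m
  hL : Pt L a m
  com : a * z = z * a
  aK : ¬ ∀ k ∈ K, a * k = k * a
  zL : ¬ ∀ l ∈ L, z * l = l * z
  XC : ∀ v, v * v = 1 → v ≠ 1 → (∀ k ∈ K, v * k = k * v) → (∀ k ∈ L, v * k = k * v) → False
  aN : a ∈ Nn K
  zN : z ∈ Nn L

namespace Pair

variable {K : Subgroup G} {z : G} {L : Subgroup G} {a : G} {m : ℕ}

theorem symm (p : Pair K z L a m) : Pair L a K z m where
  hK := p.hL
  hL := p.hK
  com := p.com.symm
  aK := p.zL
  zL := p.aK
  XC := fun v h1 h2 h3 h4 => p.XC v h1 h2 h4 h3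
  aN := p.zN
  zN := p.aN

/-- `a = k c` -/
theorem exists_dec (p : Pair K z L a m) : ∃ k ∈ K, ∃ c, a = k * c ∧ (∀ x ∈ K, c * x = x * c) ∧ k * k = 1 ∧
    c * c = 1 ∧ k ≠ 1 ∧ k ≠ z := by
  obtain ⟨k, hk, c, h1, h2, h3, h4⟩ := p.hK.decomp p.hL.zz p.aN
  refine ⟨k, hk, c, h1, h2, h3, h4, ?_, ?_⟩
  · rintro rfl
    apply p.aK
    intro x hx
    rw [h1, one_mul, h2 x hx]
  · rintro rfl
    apply p.aK
    intro x hx
    rw [h1, mul_assoc, h2 x hx, ← mul_assoc, ← mul_assoc, p.hK.zc x hx]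

theorem exists_sylow (p : Pair K z L a m) : ∃ S : Sylow 2 K, ∀ x : K, x ∈ S ↔ (x : G) * a = a * x := by
  obtain ⟨k, hk, c, h1, h2, h3, h4, h5, h6⟩ := p.exists_dec
  obtain ⟨S, hS⟩ := p.hK.facts.syl ⟨k, hk⟩ (Subtype.ext h3) (fun h => h5 (congrArg Subtype.val h))
    (fun h => h6 (congrArg Subtype.val h))
  refine ⟨S, fun x => ?_⟩
  rw [hS, cent_iff h1 h2 x.2]
  exact ⟨fun h => congrArg Subtype.val h, fun h => Subtype.ext h⟩

theorem isPGroup_S (p : Pair K z L a m) : IsPGroup 2 (K ⊓ centralizer ({a} : Set G) : Subgroup G) := by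
  obtain ⟨S, hS⟩ := p.exists_sylow
  have h1 : (K ⊓ centralizer ({a} : Set G) : Subgroup G) = (S : Subgroup K).map K.subtype := by
    ext x
    constructor
    · rintro ⟨hx, hxa⟩
      exact ⟨⟨x, hx⟩, (hS ⟨x, hx⟩).2 (mem_centralizer_singleton_iff.1 hxa), rfl⟩
    · rintro ⟨y, hy, rfl⟩
      exact ⟨y.2, mem_centralizer_singleton_iff.2 ((hS y).1 hy)⟩
  rw [h1]
  exact S.isPGroup'.map _

/-- the 2-group `C_K(a) C_L(z)` -/
def P (K : Subgroup G) (z : G) (L : Subgroup G) (a : G) : Subgroup G :=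
  (K ⊓ centralizer ({a} : Set G)) ⊔ (L ⊓ centralizer ({z} : Set G))

theorem P_symm (K : Subgroup G) (z : G) (L : Subgroup G) (a : G) : P L a K z = P K z L a := sup_comm _ _

theorem P_le (p : Pair K z L a m) : P K z L a ≤ centralizer ({a} : Set G) ⊓ centralizer ({z} : Set G) := by
  apply sup_le
  · rintro x ⟨hx, hxa⟩
    exact ⟨hxa, mem_centralizer_singleton_iff.2 (p.hK.zc x hx)⟩
  · rintro x ⟨hx, hxz⟩
    exact ⟨mem_centralizer_singleton_iff.2 (p.hL.zc x hx), hxz⟩

theorem comm_a (p : Pair K z L a m) {x : G} (hx : x ∈ P K z L a) : x * a = a * x :=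
  mem_centralizer_singleton_iff.1 (p.P_le hx).1

theorem comm_z (p : Pair K z L a m) {x : G} (hx : x ∈ P K z L a) : x * z = z * x :=
  mem_centralizer_singleton_iff.1 (p.P_le hx).2

theorem isPGroup_P (p : Pair K z L a m) : IsPGroup 2 (P K z L a) := by
  apply IsPGroup.to_sup_of_normal_left' p.isPGroup_S p.symm.isPGroup_S
  rintro x ⟨hx, hxz⟩
  have hxa : x * a = a * x := p.hL.zc x hx
  have hxz' : x * z = z * x := mem_centralizer_singleton_iff.1 hxz
  have key : ∀ g : G, g * z = z * g → g * a = a * g → ∀ y ∈ (K ⊓ centralizer ({a} : Set G) : Subgroup G),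
      g * y * g⁻¹ ∈ (K ⊓ centralizer ({a} : Set G) : Subgroup G) := by
    intro g hgz hga y hy
    refine ⟨p.hK.nrm g hgz y hy.1, mem_centralizer_singleton_iff.2 ?_⟩
    have hya : y * a = a * y := mem_centralizer_singleton_iff.1 hy.2
    have hga' : g⁻¹ * a = a * g⁻¹ := by
      rw [inv_mul_eq_iff_eq_mul, ← mul_assoc, hga, mul_inv_cancel_right]
    calc g * y * g⁻¹ * a = g * y * (g⁻¹ * a) := by group
      _ = g * (y * a) * g⁻¹ := by rw [hga']; group
      _ = (g * a) * y * g⁻¹ := by rw [hya]; group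
      _ = a * (g * y * g⁻¹) := by rw [hga]; group
  rw [mem_normalizer_iff]
  intro y
  refine ⟨key x hxz' hxa y, fun hy => ?_⟩
  have h1 := key x⁻¹ (by rw [inv_mul_eq_iff_eq_mul, ← mul_assoc, hxz', mul_inv_cancel_right])
    (by rw [inv_mul_eq_iff_eq_mul, ← mul_assoc, hxa, mul_inv_cancel_right]) _ hy
  have h2 : x⁻¹ * (x * y * x⁻¹) * x⁻¹⁻¹ = y := by group
  rwa [h2] at h1

/-- an involution of `C(K)` commuting with `a` induces an inner automorphism on `L` -/
theorem mem_Nn (p : Pair K z L a m) {v : G} (hv : v * v = 1) (hv1 : v ≠ 1) (hvK : ∀ k ∈ K, v * k = k * v)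
    (hva : v * a = a * v) : v ∈ Nn L := by
  by_contra hN
  have hvC : v ∈ centralizer ({a} : Set G) := mem_centralizer_singleton_iff.2 hva
  obtain ⟨r, hr, hr2⟩ := p.hL.facts.outr (act p.hL.nrm ⟨v, hvC⟩) (by
    rw [← map_mul]
    have : (⟨v, hvC⟩ : centralizer ({a} : Set G)) * ⟨v, hvC⟩ = 1 := Subtype.ext hv
    rw [this, map_one]) (fun k hk => hN (mem_Nn_of_act p.hL.nrm hk))
  have h1 : v * (r : G) * v⁻¹ = r := Subtype.ext_iff.mp hr
  have h2 : (r : G) * v = v * r := (mul_inv_eq_iff_eq_mul.mp h1).symm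
  have h3 := p.hK.C1 v hv hv1 hvK r h2
  obtain ⟨n, hn⟩ := p.symm.isPGroup_S ⟨(r : G), r.2, mem_centralizer_singleton_iff.2 h3⟩
  apply hr2 n
  apply Subtype.ext
  rw [Subgroup.coe_pow]
  exact congrArg Subtype.val hn

/-- an involution of `C(K)` commuting with `a` acts on `L` as an element of `Z(C_L(z))` -/
theorem exists_k (p : Pair K z L a m) {v : G} (hv : v * v = 1) (hv1 : v ≠ 1) (hvK : ∀ k ∈ K, v * k = k * v)
    (hva : v * a = a * v) : ∃ k ∈ L, (∀ x ∈ L, v * x * v⁻¹ = k * x * k⁻¹) ∧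
      k * z = z * k ∧ ∀ x ∈ L, x * z = z * x → x * k = k * x := by
  obtain ⟨k, hk, c, h1, h2, h3, h4⟩ := p.hL.decomp hv (p.mem_Nn hv hv1 hvK hva)
  have h5 : k ≠ 1 := by
    rintro rfl
    apply p.XC v hv hv1 hvK
    intro x hx
    rw [h1, one_mul, h2 x hx]
  have h6 : k ≠ a := by
    rintro rfl
    apply p.XC v hv hv1 hvK
    intro x hx
    rw [h1, mul_assoc, h2 x hx, ← mul_assoc, ← mul_assoc, p.hL.zc x hx]
  obtain ⟨Sv, hSv⟩ := p.hL.facts.syl ⟨k, hk⟩ (Subtype.ext h3) (fun h => h5 (congrArg Subtype.val h))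
    (fun h => h6 (congrArg Subtype.val h))
  obtain ⟨Sz, hSz⟩ := p.symm.exists_sylow
  have hle : (Sv : Subgroup L) ≤ (Sz : Subgroup L) := by
    intro x hx
    have h7 : (x : G) * k = k * x := congrArg Subtype.val ((hSv x).1 hx)
    exact (hSz x).2 (p.hK.C1 v hv hv1 hvK x ((cent_iff h1 h2 x.2).2 h7))
  have heq : (Sz : Subgroup L) = (Sv : Subgroup L) := Sv.is_maximal' Sz.isPGroup' hle
  refine ⟨k, hk, ?_, ?_, ?_⟩
  · intro x hx
    rw [h1]
    calc k * c * x * (k * c)⁻¹ = k * (c * x * c⁻¹) * k⁻¹ := by group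
      _ = k * x * k⁻¹ := by rw [h2 x hx, mul_inv_cancel_right]
  · have h7 : (⟨k, hk⟩ : L) ∈ (Sz : Subgroup L) := by
      rw [heq]
      exact (hSv _).2 rfl
    exact (hSz _).1 h7
  · intro x hx hxz
    have h7 : (⟨x, hx⟩ : L) ∈ (Sz : Subgroup L) := (hSz ⟨x, hx⟩).2 hxz
    rw [heq] at h7
    exact congrArg Subtype.val ((hSv _).1 h7)

/-- an element of `P` which centralizes `K` and `L` is trivial -/
theorem eq_one (p : Pair K z L a m) {w : G} (hw : w ∈ P K z L a) (hwK : ∀ k ∈ K, w * k = k * w)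
    (hwL : ∀ k ∈ L, w * k = k * w) : w = 1 := by
  by_contra hne
  obtain ⟨n, hn⟩ := p.isPGroup_P ⟨w, hw⟩
  have hn' : w ^ (2 ^ n) = 1 := congrArg Subtype.val hn
  -- the smallest exponent
  classical
  have hex : ∃ n : ℕ, w ^ (2 ^ n) = 1 := ⟨n, hn'⟩
  have h1 := Nat.find_spec hex
  have h0 : Nat.find hex ≠ 0 := by
    intro h
    rw [h, pow_zero, pow_one] at h1
    exact hne h1
  obtain ⟨k, hk⟩ := Nat.exists_eq_succ_of_ne_zero h0
  have h2 : w ^ (2 ^ k) ≠ 1 := Nat.find_min hex (by rw [hk]; exact Nat.lt_succ_self k)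
  refine p.XC (w ^ (2 ^ k)) ?_ h2 ?_ ?_
  · rw [← pow_add, ← two_mul, ← pow_succ']
    rw [hk] at h1
    exact h1
  · intro x hx
    exact ((show Commute w x from hwK x hx).pow_left _).eq
  · intro x hx
    exact ((show Commute w x from hwL x hx).pow_left _).eq

/-- the involutions of `P ∩ C(K)` commute -/
theorem comm_of (p : Pair K z L a m) {v w : G} (hv : v ∈ P K z L a) (hw : w ∈ P K z L a)
    (hvK : ∀ k ∈ K, v * k = k * v) (hwK : ∀ k ∈ K, w * k = k * w) (hvv : v * v = 1) (hww : w * w = 1) :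
    v * w = w * v := by
  by_cases hv1 : v = 1
  · rw [hv1, one_mul, mul_one]
  by_cases hw1 : w = 1
  · rw [hw1, one_mul, mul_one]
  obtain ⟨k, hk, h1, h2, h3⟩ := p.exists_k hvv hv1 hvK (p.comm_a hv)
  obtain ⟨l, hl, h1', h2', h3'⟩ := p.exists_k hww hw1 hwK (p.comm_a hw)
  have h4 : k * l = l * k := h3' k hk h2
  have h5 : v * w * v⁻¹ * w⁻¹ = 1 := by
    apply p.eq_one (mul_mem (mul_mem (mul_mem hv hw) (inv_mem hv)) (inv_mem hw))
    · intro x hx
      have cv : Commute v x := hvK x hx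
      have cw : Commute w x := hwK x hx
      exact (((cv.mul_left cw).mul_left cv.inv_left).mul_left cw.inv_left).eq
    · intro x hx
      have e1 : ∀ y ∈ L, v * y = k * y * k⁻¹ * v := fun y hy => by rw [← h1 y hy]; group
      have e2 : ∀ y ∈ L, w * y = l * y * l⁻¹ * w := fun y hy => by rw [← h1' y hy]; group
      have e3 : ∀ y ∈ L, v⁻¹ * y = k⁻¹ * y * k * v⁻¹ := by
        intro y hy
        have h6 := e1 (k⁻¹ * y * k) (L.mul_mem (L.mul_mem (L.inv_mem hk) hy) hk)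
        have h7 : k * (k⁻¹ * y * k) * k⁻¹ = y := by group
        rw [h7] at h6
        calc v⁻¹ * y = v⁻¹ * (y * v) * v⁻¹ := by group
          _ = v⁻¹ * (v * (k⁻¹ * y * k)) * v⁻¹ := by rw [h6]
          _ = _ := by group
      have e4 : ∀ y ∈ L, w⁻¹ * y = l⁻¹ * y * l * w⁻¹ := by
        intro y hy
        have h6 := e2 (l⁻¹ * y * l) (L.mul_mem (L.mul_mem (L.inv_mem hl) hy) hl)
        have h7 : l * (l⁻¹ * y * l) * l⁻¹ = y := by group
        rw [h7] at h6
        calc w⁻¹ * y = w⁻¹ * (y * w) * w⁻¹ := by group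
          _ = w⁻¹ * (w * (l⁻¹ * y * l)) * w⁻¹ := by rw [h6]
          _ = _ := by group
      have m1 : l⁻¹ * x * l ∈ L := L.mul_mem (L.mul_mem (L.inv_mem hl) hx) hl
      have m2 : k⁻¹ * (l⁻¹ * x * l) * k ∈ L := L.mul_mem (L.mul_mem (L.inv_mem hk) m1) hk
      have m3 : l * (k⁻¹ * (l⁻¹ * x * l) * k) * l⁻¹ ∈ L := L.mul_mem (L.mul_mem hl m2) (L.inv_mem hl)
      calc v * w * v⁻¹ * w⁻¹ * x = v * w * v⁻¹ * (w⁻¹ * x) := by group
        _ = v * w * (v⁻¹ * (l⁻¹ * x * l)) * w⁻¹ := by rw [e4 x hx]; group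
        _ = v * (w * (k⁻¹ * (l⁻¹ * x * l) * k)) * v⁻¹ * w⁻¹ := by rw [e3 _ m1]; group
        _ = (v * (l * (k⁻¹ * (l⁻¹ * x * l) * k) * l⁻¹)) * w * v⁻¹ * w⁻¹ := by rw [e2 _ m2]; group
        _ = (k * l) * (k⁻¹ * l⁻¹) * x * ((l * k) * (l⁻¹ * k⁻¹)) * (v * w * v⁻¹ * w⁻¹) := by
          rw [e1 _ m3]; group
        _ = x * (v * w * v⁻¹ * w⁻¹) := by
          rw [h4]
          have : l * k * (k⁻¹ * l⁻¹) = 1 := by group
          rw [this, ← h4]
          group
  calc v * w = (v * w * v⁻¹ * w⁻¹) * (w * v) := by group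
    _ = w * v := by rw [h5, one_mul]

/-- the involutions of `P ∩ C(K)` -/
def W (p : Pair K z L a m) : Subgroup G where
  carrier := {x | x ∈ P K z L a ∧ (∀ k ∈ K, x * k = k * x) ∧ x * x = 1}
  mul_mem' := by
    rintro x y ⟨hx, hxK, hxx⟩ ⟨hy, hyK, hyy⟩
    refine ⟨mul_mem hx hy, fun k hk => ?_, ?_⟩
    · rw [mul_assoc, hyK k hk, ← mul_assoc, hxK k hk, mul_assoc]
    · have h1 := p.comm_of hx hy hxK hyK hxx hyy
      calc x * y * (x * y) = x * (y * x) * y := by group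
        _ = (x * x) * (y * y) := by rw [← h1]; group
        _ = 1 := by rw [hxx, hyy, one_mul]
  one_mem' := ⟨one_mem _, fun k _ => by rw [one_mul, mul_one], by rw [one_mul]⟩
  inv_mem' := by
    rintro x ⟨hx, hxK, hxx⟩
    have h1 : x⁻¹ = x := inv_eq_of_mul_eq_one_left hxx
    rw [h1]
    exact ⟨hx, hxK, hxx⟩

theorem mem_W (p : Pair K z L a m) {x : G} :
    x ∈ p.W ↔ x ∈ P K z L a ∧ (∀ k ∈ K, x * k = k * x) ∧ x * x = 1 := Iff.rfl

/-- `C_K(a)` -/
abbrev S (K : Subgroup G) (a : G) : Subgroup G := K ⊓ centralizer ({a} : Set G)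

theorem S_le_P : S K a ≤ P K z L a := le_sup_left

theorem comm_SW (p : Pair K z L a m) : ∀ s ∈ S K a, ∀ w ∈ p.W, s * w = w * s :=
  fun s hs w hw => (hw.2.1 s hs.1).symm

theorem z_mem_S (p : Pair K z L a m) : z ∈ S K a :=
  ⟨p.hK.zK, mem_centralizer_singleton_iff.2 p.com.symm⟩

theorem z_mem_W (p : Pair K z L a m) : z ∈ p.W :=
  ⟨S_le_P p.z_mem_S, fun k hk => (p.hK.zc k hk).symm, p.hK.zz⟩

/-- an involution of `P` inducing an inner automorphism on `K` is in `S W` -/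
theorem mem_SW (p : Pair K z L a m) {e : G} (he : e * e = 1) (heP : e ∈ P K z L a) (heN : e ∈ Nn K) :
    e ∈ prd (S K a) p.W p.comm_SW := by
  obtain ⟨k0, hk0, c0, h1, h2, h3, h4, h5, h6⟩ := p.exists_dec
  obtain ⟨k, hk, c, h1', h2', h3', h4'⟩ := p.hK.decomp he heN
  have hea := p.comm_a heP
  -- `[k, k0] ∈ Z(K)`
  have h7 : k * k0 = k0 * k := by
    have h8 : (k * k0) * (c * c0) = (k0 * k) * (c0 * c) := by
      calc (k * k0) * (c * c0) = k * (k0 * c) * c0 := by group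
        _ = k * (c * k0) * c0 := by rw [h2' k0 hk0]
        _ = e * a := by rw [h1', h1]; group
        _ = a * e := hea
        _ = k0 * (c0 * k) * c := by rw [h1', h1]; group
        _ = (k0 * k) * (c0 * c) := by rw [h2 k hk]; group
    have h9 : (k0 * k)⁻¹ * (k * k0) = (c0 * c) * (c * c0)⁻¹ := by
      rw [inv_mul_eq_iff_eq_mul, ← mul_assoc, eq_mul_inv_iff_mul_eq]
      exact h8
    have hcc : ∀ y ∈ K, (c0 * c) * (c * c0)⁻¹ * y = y * ((c0 * c) * (c * c0)⁻¹) := by
      intro y hy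
      have cc0 : Commute c0 y := h2 y hy
      have cc1 : Commute c y := h2' y hy
      exact ((cc0.mul_left cc1).mul_left (cc1.mul_left cc0).inv_left).eq
    rcases p.hK.cen (K.mul_mem (K.inv_mem (K.mul_mem hk0 hk)) (K.mul_mem hk hk0)) (by
      intro y hy
      rw [h9]
      exact hcc y hy) with h10 | h10
    · rw [inv_mul_eq_one] at h10
      exact h10.symm
    · exfalso
      have h11 : k * k0 * k⁻¹ = k0 * z := by
        have h12 : k * k0 = k0 * k * z := by rw [← h10]; group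
        rw [h12, mul_assoc k0, p.hK.zc k hk]
        group
      exact p.hK.facts.nof ⟨k0, hk0⟩ ⟨k, hk⟩ (Subtype.ext h3) (fun h => h5 (congrArg Subtype.val h))
        (fun h => h6 (congrArg Subtype.val h)) (Subtype.ext h11)
  have hkS : k ∈ S K a :=
    ⟨hk, mem_centralizer_singleton_iff.2 ((cent_iff h1 h2 hk).2 h7)⟩
  refine ⟨k, hkS, c, ⟨?_, h2', h4'⟩, h1'⟩
  have : c = k⁻¹ * e := by rw [h1']; group
  rw [this]
  exact mul_mem (inv_mem (S_le_P hkS)) heP

section card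

variable [Finite G]

/-- elementary abelian subgroups of `P` -/
theorem elem_bound (p : Pair K z L a m) {A : Subgroup G} (hA : A ≤ P K z L a) (hAA : ∀ x ∈ A, x * x = 1) :
    Nat.card A ≤ m * Nat.card p.W ∧ (m * Nat.card p.W ≤ Nat.card A → A ≤ prd (S K a) p.W p.comm_SW) := by
  have hAC : A ≤ centralizer ({z} : Set G) := fun x hx => mem_centralizer_singleton_iff.mpr (p.comm_z (hA hx))
  set f : A →* MulAut K := (act p.hK.nrm).comp (inclusion hAC) with hf
  have hker : Nat.card f.ker ≤ Nat.card p.W := by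
    let F : f.ker → p.W := fun x => ⟨((x : A) : G), hA (x : A).2, by
      intro k hk
      have h1 : f x = 1 := x.2
      have h2 : (f x ⟨k, hk⟩ : K) = ⟨k, hk⟩ := by rw [h1]; rfl
      have h3 : ((x : A) : G) * k * ((x : A) : G)⁻¹ = k := Subtype.ext_iff.mp h2
      exact mul_inv_eq_iff_eq_mul.mp h3, hAA _ (x : A).2⟩
    apply Nat.card_le_card_of_injective F
    intro x y hxy
    have h0 : ((x : A) : G) = ((y : A) : G) := congrArg (Subtype.val : p.W → G) hxy
    exact Subtype.ext (Subtype.ext h0)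
  have hel : ∀ α ∈ f.range, α * α = 1 := by
    rintro _ ⟨y, rfl⟩
    rw [← map_mul]
    have : y * y = 1 := Subtype.ext (hAA y y.2)
    rw [this, map_one]
  have hcard : Nat.card A = Nat.card f.ker * Nat.card f.range := by
    rw [← Subgroup.card_mul_index f.ker, index_ker]
  have hrm := p.hK.facts.elc f.range hel
  refine ⟨?_, fun h => ?_⟩
  · rw [hcard, mul_comm m]
    exact Nat.mul_le_mul hker hrm
  · have hkpos : 0 < Nat.card p.W := Nat.card_pos
    have hr : m ≤ Nat.card f.range := by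
      rw [hcard] at h
      have h1 : m * Nat.card p.W ≤ Nat.card f.range * Nat.card p.W := by
        calc m * Nat.card p.W ≤ Nat.card f.ker * Nat.card f.range := h
          _ ≤ Nat.card p.W * Nat.card f.range := Nat.mul_le_mul_right _ hker
          _ = Nat.card f.range * Nat.card p.W := mul_comm _ _
      exact Nat.le_of_mul_le_mul_right h1 hkpos
    intro x hx
    obtain ⟨k, hk⟩ := p.hK.facts.el f.range hel hr (f ⟨x, hx⟩) ⟨_, rfl⟩
    exact p.mem_SW (hAA x hx) (hA hx) (mem_Nn_of_act p.hK.nrm hk)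

/-- `E W` for an elementary abelian subgroup `E` of order `2 m` of `S` -/
theorem exists_elem (p : Pair K z L a m) {E : Subgroup K} (hE : Elem (2 * m) E) (hES : ∀ x ∈ E, (x : G) * a = a * x) :
    ∃ A : Subgroup G, A ≤ P K z L a ∧ Elem (m * Nat.card p.W) A ∧ E.map K.subtype ≤ A ∧ p.W ≤ A := by
  have hE' : E.map K.subtype ≤ S K a := by
    rintro _ ⟨x, hx, rfl⟩
    exact ⟨x.2, mem_centralizer_singleton_iff.2 (hES x hx)⟩
  have hcomm : ∀ s ∈ E.map K.subtype, ∀ w ∈ p.W, s * w = w * s := fun s hs w hw => p.comm_SW s (hE' hs) w hw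
  -- `z ∈ E`
  have hzE : (⟨z, p.hK.zK⟩ : K) ∈ E := by
    by_contra hz
    have h1 : Nat.card (E.map (MulAut.conj : K →* MulAut K)) ≤ m := p.hK.facts.elc _ (by
      rintro _ ⟨x, hx, rfl⟩
      rw [← map_mul, hE.2 x hx, map_one])
    have hinj : Function.Injective ((MulAut.conj : K →* MulAut K).comp E.subtype) := by
      rw [injective_iff_map_eq_one]
      intro x hx
      have h2 : ∀ y : K, (x : K) * y = y * x := by
        intro y
        have h3 := DFunLike.congr_fun hx y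
        change (x : K) * y * (x : K)⁻¹ = y at h3
        exact mul_inv_eq_iff_eq_mul.mp h3
      rcases p.hK.facts.cen x h2 with h3 | h3
      · exact Subtype.ext h3
      · exact absurd (h3 ▸ x.2) hz
    have h4 : Nat.card E ≤ Nat.card (E.map (MulAut.conj : K →* MulAut K)) := by
      have h5 : E.map (MulAut.conj : K →* MulAut K) = ((MulAut.conj : K →* MulAut K).comp E.subtype).range := by
        rw [MonoidHom.range_comp, Subgroup.range_subtype]
      rw [h5]
      haveI : Finite (((MulAut.conj : K →* MulAut K).comp E.subtype).range) :=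
        Set.finite_range ((MulAut.conj : K →* MulAut K).comp E.subtype) |>.to_subtype
      exact Nat.card_le_card_of_injective
        ((MulAut.conj : K →* MulAut K).comp E.subtype).rangeRestrict
        ((MonoidHom.rangeRestrict_injective_iff).2 hinj)
    have := p.hK.facts.m0
    have h6 := hE.1
    omega
  have hcap : Nat.card (E.map K.subtype ⊓ p.W : Subgroup G) = 2 := by
    have h1 : (E.map K.subtype ⊓ p.W : Subgroup G) = zpowers z := by
      apply le_antisymm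
      · rintro x ⟨⟨y, hy, hyx⟩, hxW⟩
        have hxK : x ∈ K := by rw [← hyx]; exact y.2
        rcases p.hK.cen hxK hxW.2.1 with h2 | h2
        · rw [h2]; exact one_mem _
        · rw [h2]; exact mem_zpowers z
      · rw [zpowers_le]
        exact ⟨⟨_, hzE, rfl⟩, p.z_mem_W⟩
    rw [h1, Nat.card_zpowers]
    exact orderOf_eq_prime (by rw [pow_two]; exact p.hK.zz) p.hK.z1
  refine ⟨prd (E.map K.subtype) p.W hcomm, ?_, ⟨?_, ?_⟩, left_le_prd hcomm, right_le_prd hcomm⟩
  · rintro _ ⟨e, he, w, hw, rfl⟩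
    exact mul_mem (S_le_P (hE' he)) hw.1
  · have h1 := card_prd hcomm
    rw [hcap] at h1
    have h2 : Nat.card (E.map K.subtype) = 2 * m := by
      rw [← hE.1]
      exact (Nat.card_congr (E.equivMapOfInjective _ K.subtype_injective).toEquiv).symm
    rw [h2] at h1
    have h3 : 2 * m * Nat.card p.W = (m * Nat.card p.W) * 2 := by ring
    rw [h3] at h1
    exact Nat.eq_of_mul_eq_mul_right two_pos h1
  · rintro _ ⟨_, ⟨e, he, rfl⟩, w, hw, rfl⟩
    have h1 := hcomm e ⟨e, he, rfl⟩ w hw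
    change (e : G) * w = w * e at h1
    change (e : G) * w * ((e : G) * w) = 1
    have h2 : (e : G) * e = 1 := congrArg Subtype.val (hE.2 e he)
    calc (e : G) * w * ((e : G) * w) = (e : G) * (w * e) * w := by group
      _ = ((e : G) * e) * (w * w) := by rw [← h1]; group
      _ = 1 := by rw [h2, hw.2.2, one_mul]

/-- maximal order of elementary abelian subgroups -/
def MaxE (n : ℕ) (Q : Subgroup G) : Prop :=
  (∃ A ≤ Q, Elem n A) ∧ ∀ A ≤ Q, (∀ x ∈ A, x * x = 1) → Nat.card A ≤ n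

theorem MaxE.unique {n n' : ℕ} {Q : Subgroup G} (h : MaxE n Q) (h' : MaxE n' Q) : n = n' := by
  obtain ⟨⟨A, hA, hAn⟩, h1⟩ := h
  obtain ⟨⟨B, hB, hBn⟩, h2⟩ := h'
  have h3 := h2 A hA hAn.2
  have h4 := h1 B hB hBn.2
  rw [hAn.1] at h3
  rw [hBn.1] at h4
  omega

/-- the label -/
def Lab (x : G) (Q : Subgroup G) : Prop :=
  x ∈ ⁅Q, Q⁆ ∧ x ≠ 1 ∧ (∀ y ∈ Q, y * y ≠ x) ∧ ∀ e ∈ ⁅Q, Q⁆, e ≠ 1 → e ≠ x → ∃ y ∈ Q, y * y = e

theorem Lab.unique {x y : G} {Q : Subgroup G} (h : Lab x Q) (h' : Lab y Q) : x = y := by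
  by_contra hne
  obtain ⟨w, hw, hwx⟩ := h'.2.2.2 x h.1 h.2.1 hne
  exact h.2.2.1 w hw hwx

theorem J_eq (p : Pair K z L a m) : J (m * Nat.card p.W) (P K z L a) = prd (S K a) p.W p.comm_SW := by
  obtain ⟨S0, hS0⟩ := p.exists_sylow
  have hEJ : ∀ {E : Subgroup K}, E ≤ (S0 : Subgroup K) → Elem (2 * m) E →
      E.map K.subtype ≤ J (m * Nat.card p.W) (P K z L a) ∧ p.W ≤ J (m * Nat.card p.W) (P K z L a) := by
    intro E hE hEl
    obtain ⟨A, hA, hAn, h1, h2⟩ := p.exists_elem hEl (fun x hx => (hS0 x).1 (hE hx))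
    have h3 : A ≤ J (m * Nat.card p.W) (P K z L a) := fun x hx => subset_closure ⟨A, hA, hAn, hx⟩
    exact ⟨h1.trans h3, h2.trans h3⟩
  apply le_antisymm
  · unfold J
    rw [closure_le]
    rintro x ⟨A, hA, hAn, hx⟩
    exact (p.elem_bound hA hAn.2).2 (by rw [hAn.1]) hx
  · have hS : S K a ≤ J (m * Nat.card p.W) (P K z L a) := by
      rintro x ⟨hx, hxa⟩
      have h1 : (⟨x, hx⟩ : K) ∈ J (2 * m) (S0 : Subgroup K) :=
        p.hK.facts.gen S0 ((hS0 ⟨x, hx⟩).2 (mem_centralizer_singleton_iff.1 hxa))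
      have h2 : J (2 * m) (S0 : Subgroup K) ≤ (J (m * Nat.card p.W) (P K z L a)).comap K.subtype := by
        conv_lhs => unfold J
        rw [closure_le]
        rintro y ⟨E, hE, hEl, hy⟩
        exact (hEJ hE hEl).1 ⟨y, hy, rfl⟩
      exact h2 h1
    have hW : p.W ≤ J (m * Nat.card p.W) (P K z L a) := by
      -- there is some `E`
      by_cases hex : ∃ E : Subgroup K, E ≤ (S0 : Subgroup K) ∧ Elem (2 * m) E
      · obtain ⟨E, hE, hEl⟩ := hex
        exact (hEJ hE hEl).2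
      · exfalso
        have h1 : (⟨z, p.hK.zK⟩ : K) ∈ J (2 * m) (S0 : Subgroup K) :=
          p.hK.facts.gen S0 ((hS0 _).2 p.com.symm)
        have h2 : J (2 * m) (S0 : Subgroup K) = ⊥ := by
          unfold J
          rw [closure_eq_bot_iff]
          rintro y ⟨E, hE, hEl, -⟩
          exact absurd ⟨E, hE, hEl⟩ hex
        rw [h2, mem_bot] at h1
        exact p.hK.z1 (congrArg Subtype.val h1)
    rintro _ ⟨s, hs, w, hw, rfl⟩
    exact mul_mem (hS hs) (hW hw)

theorem maxE (p : Pair K z L a m) : MaxE (m * Nat.card p.W) (P K z L a) := by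
  refine ⟨?_, fun A hA hAA => (p.elem_bound hA hAA).1⟩
  obtain ⟨S0, hS0⟩ := p.exists_sylow
  by_contra hex
  have h1 : (⟨z, p.hK.zK⟩ : K) ∈ J (2 * m) (S0 : Subgroup K) :=
    p.hK.facts.gen S0 ((hS0 _).2 p.com.symm)
  have h2 : J (2 * m) (S0 : Subgroup K) = ⊥ := by
    unfold J
    rw [closure_eq_bot_iff]
    rintro y ⟨E, hE, hEl, -⟩
    obtain ⟨A, hA, hAn, -, -⟩ := p.exists_elem hEl (fun x hx => (hS0 x).1 (hE hx))
    exact absurd ⟨A, hA, hAn⟩ hex
  rw [h2, mem_bot] at h1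
  exact p.hK.z1 (congrArg Subtype.val h1)

theorem lab (p : Pair K z L a m) : Lab z (J (m * Nat.card p.W) (P K z L a)) := by
  rw [p.J_eq]
  obtain ⟨S0, hS0⟩ := p.exists_sylow
  have hS0' : (S0 : Subgroup K).map K.subtype = S K a := by
    ext x
    constructor
    · rintro ⟨y, hy, rfl⟩
      exact ⟨y.2, mem_centralizer_singleton_iff.2 ((hS0 y).1 hy)⟩
    · rintro ⟨hx, hxa⟩
      exact ⟨⟨x, hx⟩, (hS0 ⟨x, hx⟩).2 (mem_centralizer_singleton_iff.1 hxa), rfl⟩
  have hder : ⁅S K a, S K a⁆ = (⁅(S0 : Subgroup K), (S0 : Subgroup K)⁆).map K.subtype := by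
    rw [map_commutator, hS0']
  -- the derived subgroup
  have hJ : ⁅prd (S K a) p.W p.comm_SW, prd (S K a) p.W p.comm_SW⁆ = ⁅S K a, S K a⁆ := by
    apply le_antisymm
    · rw [commutator_le]
      rintro _ ⟨s, hs, w, hw, rfl⟩ _ ⟨s', hs', w', hw', rfl⟩
      have h1 := p.comm_SW s' hs' w hw
      have h2 := p.comm_SW s hs w' hw'
      have h3 : w * w' = w' * w := p.comm_of hw.1 hw'.1 hw.2.1 hw'.2.1 hw.2.2 hw'.2.2
      have h4 := p.comm_SW s hs w hw
      have h5 := p.comm_SW s' hs' w' hw'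
      have h6 : ⁅s * w, s' * w'⁆ = ⁅s, s'⁆ := by
        rw [commutatorElement_def, commutatorElement_def]
        have c1 : Commute s' w := h1
        have c2 : Commute s w' := h2
        have c3 : Commute w w' := h3
        have c4 : Commute s w := h4
        have c5 : Commute s' w' := h5
        have e1 : (s * w) * (s' * w') = (s * s') * (w * w') := by
          calc (s * w) * (s' * w') = s * (w * s') * w' := by group
            _ = s * (s' * w) * w' := by rw [h1]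
            _ = (s * s') * (w * w') := by group
        have e2 : (s' * w') * (s * w) = (s' * s) * (w * w') := by
          calc (s' * w') * (s * w) = s' * (w' * s) * w := by group
            _ = s' * (s * w') * w := by rw [h2]
            _ = (s' * s) * (w' * w) := by group
            _ = (s' * s) * (w * w') := by rw [h3]
        calc s * w * (s' * w') * (s * w)⁻¹ * (s' * w')⁻¹
            = ((s * w) * (s' * w')) * ((s' * w') * (s * w))⁻¹ := by group
          _ = ((s * s') * (w * w')) * ((s' * s) * (w * w'))⁻¹ := by rw [e1, e2]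
          _ = s * s' * s⁻¹ * s'⁻¹ := by group
      rw [h6]
      exact commutator_mem_commutator hs hs'
    · exact commutator_mono (left_le_prd _) (left_le_prd _)
  refine ⟨?_, p.hK.z1, ?_, ?_⟩
  · rw [hJ, hder]
    exact ⟨⟨z, p.hK.zK⟩, p.hK.facts.derz S0, rfl⟩
  · rintro _ ⟨s, hs, w, hw, rfl⟩ h
    have h1 := p.comm_SW s hs w hw
    have h2 : s * w * (s * w) = s * s := by
      calc s * w * (s * w) = s * (w * s) * w := by group
        _ = (s * s) * (w * w) := by rw [← h1]; group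
        _ = s * s := by rw [hw.2.2, mul_one]
    rw [h2] at h
    exact p.hK.facts.nosq ⟨s, hs.1⟩ (Subtype.ext h)
  · intro e he he1 hez
    rw [hJ, hder] at he
    obtain ⟨y, hy, rfl⟩ := he
    obtain ⟨x, hx, hxy⟩ := p.hK.facts.der S0 y hy (fun h => he1 (by rw [h]; rfl))
      (fun h => hez (by rw [h]; rfl))
    refine ⟨x, left_le_prd _ ?_, congrArg Subtype.val hxy⟩
    rw [← hS0']
    exact ⟨x, hx, rfl⟩

/-- **Case IN is dead.** -/
theorem eq (p : Pair K z L a m) : z = a := by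
  have h1 := p.lab
  have h2 := p.symm.lab
  have h3 := p.maxE
  have h4 := p.symm.maxE
  rw [P_symm K z L a] at h2 h4
  rw [h4.unique h3] at h2
  exact h1.unique h2

end card

end Pair

/-! ### The kill -/

/-- products of squares: a commutator of elements commuting with `a` induces an inner automorphism on `L` -/
theorem commutator_mem_Nn {L : Subgroup G} {a : G} {m : ℕ} (hL : Pt L a m) {x y : G} (hx : x * a = a * x)
    (hy : y * a = a * y) : ⁅x, y⁆ ∈ Nn L := by
  have key : ∀ w : G, w * a = a * w → w * w ∈ Nn L := by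
    intro w hw
    have hwC : w ∈ centralizer ({a} : Set G) := mem_centralizer_singleton_iff.mpr hw
    obtain ⟨k, hk⟩ := hL.facts.exp2 (act hL.nrm ⟨w, hwC⟩)
    rw [← map_mul] at hk
    exact mem_Nn_of_act hL.nrm hk
  have cx : Commute x a := hx
  have cy : Commute y a := hy
  have h1 := key x hx
  have h2 := key (x⁻¹ * y) (cx.inv_left.mul_left cy).eq
  have h3 := key y⁻¹ cy.inv_left.eq
  have h4 : ⁅x, y⁆ = x * x * (x⁻¹ * y * (x⁻¹ * y)) * (y⁻¹ * y⁻¹) := by
    rw [commutatorElement_def]; group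
  rw [h4]
  exact mul_mem (mul_mem h1 h2) h3

/-- if `a` is inner on `K`, then `z` is inner on `L` -/
theorem inner_transfer {K L : Subgroup G} {z a : G} {m : ℕ} (hK : Pt K z m) (hL : Pt L a m)
    (haa : a * a = 1) (haK : ¬ ∀ k ∈ K, a * k = k * a) (haN : a ∈ Nn K) : z ∈ Nn L := by
  obtain ⟨k, hk, c, h1, h2, h3, h4⟩ := hK.decomp haa haN
  have h5 : k ≠ 1 := by
    rintro rfl
    apply haK
    intro x hx
    rw [h1, one_mul, h2 x hx]
  have h6 : k ≠ z := by
    rintro rfl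
    apply haK
    intro x hx
    rw [h1, mul_assoc, h2 x hx, ← mul_assoc, ← mul_assoc, hK.zc x hx]
  obtain ⟨S, hS⟩ := hK.facts.syl ⟨k, hk⟩ (Subtype.ext h3) (fun h => h5 (congrArg Subtype.val h))
    (fun h => h6 (congrArg Subtype.val h))
  have h7 : ⁅(S : Subgroup K), (S : Subgroup K)⁆ ≤ (Nn L).comap K.subtype := by
    rw [commutator_le]
    intro x hx y hy
    show ((⁅x, y⁆ : K) : G) ∈ Nn L
    have hc : ∀ x : K, x ∈ (S : Subgroup K) → (x : G) * a = a * x := by
      intro x hx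
      exact (cent_iff h1 h2 x.2).2 (congrArg Subtype.val ((hS x).1 hx))
    have h8 : ((⁅x, y⁆ : K) : G) = ⁅(x : G), (y : G)⁆ := rfl
    rw [h8]
    exact commutator_mem_Nn hL (hc x hx) (hc y hy)
  exact h7 (hK.facts.derz S)

/-- **The kill**, arbitrary `C_G(K)`. -/
theorem false_of_pt [Finite G] [IsSimpleGroup G] (hnc : ¬ IsMulCommutative G) {K : Subgroup G} {z : G} {m : ℕ}
    (hP : ∀ g : G, Pt (K.map (MulAut.conj g).toMonoidHom) (g * z * g⁻¹) m)
    (C2 : ∀ g, (∀ k ∈ K, g * z * g⁻¹ * k = k * (g * z * g⁻¹)) → g * z * g⁻¹ = z) : False := by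
  have hK : Pt K z m := by
    have h1 := hP 1
    have h2 : K.map (MulAut.conj (1 : G)).toMonoidHom = K := by
      rw [map_one]
      ext x
      constructor
      · rintro ⟨y, hy, rfl⟩; exact hy
      · intro hx; exact ⟨x, hx, rfl⟩
    have h3 : (1 : G) * z * (1 : G)⁻¹ = z := by group
    rw [h2, h3] at h1
    exact h1
  have hzz := hK.zz
  have hz1 := hK.z1
  have hzK := hK.zK
  have hord : orderOf z = 2 := orderOf_eq_prime (by rw [pow_two]; exact hzz) hz1
  -- `a` commutes with `K` only if `a = z`; the same for `z` and `K^g`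
  have hC2' : ∀ g, (∀ k ∈ K.map (MulAut.conj g).toMonoidHom, z * k = k * z) → g * z * g⁻¹ = z := by
    intro g hg
    have h1 := C2 g⁻¹ (by
      intro k hk
      have h2 := hg (g * k * g⁻¹) ⟨k, hk, rfl⟩
      calc g⁻¹ * z * g⁻¹⁻¹ * k = g⁻¹ * (z * (g * k * g⁻¹)) * g := by group
        _ = g⁻¹ * (g * k * g⁻¹ * z) * g := by rw [h2]
        _ = k * (g⁻¹ * z * g⁻¹⁻¹) := by group)
    calc g * z * g⁻¹ = g * (g⁻¹ * z * g⁻¹⁻¹) * g⁻¹ := by rw [h1]
      _ = z := by group
  have hiso : ∀ g, g * z * g⁻¹ ∈ Nn K → g * z * g⁻¹ = z := by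
    intro g hg
    by_contra hne
    have hee : g * z * g⁻¹ * (g * z * g⁻¹) = 1 := (hP g).zz
    have haK : ¬ ∀ k ∈ K, g * z * g⁻¹ * k = k * (g * z * g⁻¹) := fun h => hne (C2 g h)
    have hcom : g * z * g⁻¹ * z = z * (g * z * g⁻¹) := by
      obtain ⟨k, hk, c, h1, h2, -, -⟩ := hK.decomp hee hg
      exact ((cent_iff h1 h2 hzK).2 (hK.zc k hk).symm).symm
    have hp : Pair K z (K.map (MulAut.conj g).toMonoidHom) (g * z * g⁻¹) m :=
      { hK := hK
        hL := hP g
        com := hcom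
        aK := haK
        zL := fun h => hne (hC2' g h)
        XC := by
          intro v hv hv1 hvK hvL
          apply haK
          intro k hk
          -- `k` commutes with `v`
          exact ((hP g).C1 v hv hv1 hvL k (hvK k hk).symm).symm
        aN := hg
        zN := inner_transfer hK (hP g) hee haK hg }
    exact hne hp.eq.symm
  have hiz := OutKill.isolated (F := OutKill.Sq) OutKill.functor_sq hord (le_Nn K hzK) hiso (by
      intro g _ _
      unfold OutKill.Sq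
      rw [closure_le]
      rintro _ ⟨y, hy, -, rfl⟩
      have hyC : y ∈ centralizer ({z} : Set G) := mem_centralizer_singleton_iff.mpr hy
      obtain ⟨k, hk⟩ := hK.facts.exp2 (act hK.nrm ⟨y, hyC⟩)
      rw [← map_mul] at hk
      exact mem_Nn_of_act hK.nrm hk) (by
      intro g hcom hN
      have heC : g * z * g⁻¹ ∈ centralizer ({z} : Set G) := mem_centralizer_singleton_iff.mpr hcom
      have hee : g * z * g⁻¹ * (g * z * g⁻¹) = 1 := by
        calc g * z * g⁻¹ * (g * z * g⁻¹) = g * (z * z) * g⁻¹ := by group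
          _ = 1 := by rw [hzz]; group
      obtain ⟨e, he⟩ : ∃ e, e = g * z * g⁻¹ := ⟨_, rfl⟩
      rw [← he] at hcom hN heC hee ⊢
      obtain ⟨k, hk1, hk2⟩ := hK.facts.out (act hK.nrm ⟨e, heC⟩) (by
        rw [← map_mul]
        have : (⟨e, heC⟩ : centralizer ({z} : Set G)) * ⟨e, heC⟩ = 1 := Subtype.ext hee
        rw [this, map_one]) (by
        intro k hk
        exact hN (mem_Nn_of_act hK.nrm hk))
      have hei : e⁻¹ = e := inv_eq_of_mul_eq_one_right hee
      refine ⟨k, ((act hK.nrm ⟨e, heC⟩ k * k⁻¹ : K) : G), fun h => hk1 (Subtype.ext h), ?_, ?_⟩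
      · have h1 : closure {x : K | ∃ y, act hK.nrm ⟨e, heC⟩ y = y ∧ y * y = x} ≤
            (OutKill.Sq z e).comap K.subtype := by
          rw [closure_le]
          rintro _ ⟨y, hy, rfl⟩
          refine subset_closure ⟨y, hK.zc y y.2, ?_, rfl⟩
          have h2 : e * (y : G) * e⁻¹ = y := Subtype.ext_iff.mp hy
          exact (mul_inv_eq_iff_eq_mul.mp h2).symm
        exact h1 hk2
      · show (k : G) * e * (k : G)⁻¹ = e * (e * k * e⁻¹ * (k : G)⁻¹)
        rw [hei]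
        calc (k : G) * e * (k : G)⁻¹ = (e * e) * k * e * (k : G)⁻¹ := by rw [hee, one_mul]
          _ = e * (e * k * e * (k : G)⁻¹) := by group)
  refine Cfsg.Agent.J2Type.SimpleRed.not_isolated z hiz ?_
  by_contra hcon
  push Not at hcon
  exact hnc ⟨⟨hcon⟩⟩

end Cfsg.Agent.OddHalf.D9.AnyC
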