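import Cfsg.Agent.OddHalf.Front.FE
import Cfsg.Agent.OddHalf.D9.Kill
import Cfsg.Agent.StandardComponent.AltFinal

/-!
# D9: a standard component with even centre and solvable involution centralizers (rows `2.M22`, `4.M22`) (helper322)

`Fr K q z`: `z` is the involution of `R = ⟨q⟩ = C_G(K)`, `z ∈ K`, `K ⊴ C_G(z)`. `KR g`: `g ∈ KR`.

K-facts used:
* `OutTwo K`: `|Out K| ≤ 2`;
* `OrdThree K` (if `|R| ≥ 4`): if `k² ∈ Z(K)`, `k ∉ Z(K)`, then no automorphism `α` fixes all the elements of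
  order 3 commuting with `k` and satisfies `α² = conj k`;
* `SqTwo z` (if `|R| = 2`);
* `OutSq z`: for every outer involutory automorphism `α` inverting the `c ∈ Z(K)` with `c² = z`: `z` is a product of
  squares in `C_K(α)`, or some `q` has `1 ≠ q⁻¹ α(q) ∈ ⟨squares of C_K(α)⟩`.

`Fr.inner_big`, `Fr.inner_two`: `z^G ∩ KR = {z}`. `Fr.false_big`, `Fr.false_two`: the end.
-/

set_option autoImplicit false

namespace Cfsg.Agent.OddHalf.D9.CovTwo

open Subgroup Cfsg Cfsg.Agent.OddHalf.Front.FE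
open Cfsg.Agent.OddHalf.D9.Kill (Ce Fx mem_Ce mem_Fx)
open scoped commutatorElement

universe u

/-! ### K-facts -/

section Facts

variable (K : Type u) [Group K]

/-- `|Out K| ≤ 2`. -/
def OutTwo : Prop := ∀ α β : MulAut K, (∀ k, α ≠ MulAut.conj k) → (∀ k, β ≠ MulAut.conj k) →
  ∃ k, α * β = MulAut.conj k

/-- No automorphism centralizing the elements of order 3 of `C(k)` is a square root of `conj k`, `k̄` an involution of
`K/Z(K)`. -/
def OrdThree : Prop := ∀ k : K, k * k ∈ center K → k ∉ center K → ∀ α : MulAut K,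
  (∀ y : K, y ^ 3 = 1 → y * k = k * y → α y = y) → (∀ x, α (α x) = k * x * k⁻¹) → False

/-- Every involution of `K/Z(K)` commutes with an element of order 3. -/
def Three : Prop := ∀ k : K, k * k ∈ center K → k ∉ center K → ∃ y : K, y ^ 3 = 1 ∧ y ≠ 1 ∧ y * k = k * y

/-- No elements of order 12 in `K/Z(K)`. -/
def NoTwelve : Prop := ∀ k y : K, y ^ 3 = 1 → y ≠ 1 → y * k = k * y → k ^ 4 ∈ center K → k * k ∈ center K

variable {K}

/-- K-facts for `|R| = 2`. -/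
structure SqTwo (z : K) : Prop where
  /-- `z` is not a square -/
  nsq : ∀ k : K, k * k ≠ z
  /-- structure of a Sylow 2-subgroup -/
  syl : ∀ e : K, e * e = 1 → e ≠ 1 → e ≠ z → ∃ P : Sylow 2 K, (∀ p ∈ P, p * e = e * p) ∧
    (∀ p ∈ P, (∀ r ∈ P, p * r = r * p) → p = 1 ∨ p = z ∨ p = e ∨ p = e * z) ∧
    (∃ x ∈ closure {p | p ∈ P ∧ p * p = 1}, x * x = e) ∧ (∃ x ∈ P, x * x = e * z)
  /-- the squares of the lifts of outer involutions are all the same -/
  out : ∀ α : MulAut K, α * α = 1 → (∀ k, α ≠ MulAut.conj k) → ∀ k : K, α k * k ≠ z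

/-- The subgroup generated by the squares of the fixed points of `α`. -/
def SqFx (α : MulAut K) : Subgroup K := closure {w | ∃ y, α y = y ∧ w = y * y}

/-- The fixed points of odd order lie in `SqFx`. -/
theorem mem_SqFx_of_odd {α : MulAut K} {y : K} (hy : α y = y) (ho : Odd (orderOf y)) : y ∈ SqFx α := by
  obtain ⟨m, hm⟩ := ho
  apply Subgroup.subset_closure
  refine ⟨y ^ (m + 1), by rw [map_pow, hy], ?_⟩
  have h1 : y ^ (2 * m + 1) = 1 := by rw [← hm, pow_orderOf_eq_one]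
  calc y = y ^ (2 * m + 1) * y := by rw [h1, one_mul]
    _ = y ^ (m + 1) * y ^ (m + 1) := by rw [← pow_succ, ← pow_add]; congr 1; omega

theorem mem_Fx_of_mem_SqFx {α : MulAut K} {y : K} (hy : y ∈ SqFx α) : α y = y := by
  have h : SqFx α ≤ Fx α := by
    rw [SqFx, closure_le]
    rintro _ ⟨y, hy, rfl⟩
    change α (y * y) = y * y
    rw [map_mul, hy]
  exact h hy

/-- commutators of fixed points lie in `SqFx` -/
theorem commutator_le_SqFx (α : MulAut K) : ⁅Fx α, Fx α⁆ ≤ SqFx α := by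
  rw [commutator_le]
  intro a ha b hb
  have ha' : α a = a := ha
  have hb' : α b = b := hb
  have h1 : a * b * (a * b) ∈ SqFx α := Subgroup.subset_closure ⟨a * b, by rw [map_mul, ha', hb'], rfl⟩
  have h2 : b * b ∈ SqFx α := Subgroup.subset_closure ⟨b, hb', rfl⟩
  have h3 : (b⁻¹ * a⁻¹ * b) * (b⁻¹ * a⁻¹ * b) ∈ SqFx α :=
    Subgroup.subset_closure ⟨_, by rw [map_mul, map_mul, map_inv, map_inv, ha', hb'], rfl⟩
  have h4 := mul_mem (mul_mem h1 h3) (inv_mem h2)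
  have h5 : a * b * (a * b) * (b⁻¹ * a⁻¹ * b * (b⁻¹ * a⁻¹ * b)) * (b * b)⁻¹ = ⁅a, b⁆ := by
    rw [commutatorElement_def]; group
  rwa [h5] at h4

/-- K-fact for the outer involutions. -/
def OutSq (z : K) : Prop := ∀ α : MulAut K, α * α = 1 → (∀ k, α ≠ MulAut.conj k) →
  (∀ c ∈ center K, c * c = z → α c = c⁻¹) →
  ∃ x ∈ SqFx α, x = z ∨ (x ≠ 1 ∧ ∃ q, α q = q * x)

end Facts

variable {G : Type u} [Group G]

/-- the frame -/
structure Fr (K : Subgroup G) (q z : G) : Prop extends Start0 K z q where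
  zK : z ∈ K

/-- `g ∈ KR`. -/
def KR (K : Subgroup G) (q : G) (g : G) : Prop := ∃ k ∈ K, ∃ r ∈ zpowers q, g = k * r

namespace Fr

variable {K : Subgroup G} {q z : G}

theorem kr (F : Fr K q z) {k r : G} (hk : k ∈ K) (hr : r ∈ zpowers q) : k * r = r * k := F.QK r hr k hk

theorem rr (_ : Fr K q z) {r s : G} (hr : r ∈ zpowers q) (hs : s ∈ zpowers q) : r * s = s * r := by
  obtain ⟨a, rfl⟩ := mem_zpowers_iff.1 hr
  obtain ⟨b, rfl⟩ := mem_zpowers_iff.1 hs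
  rw [← zpow_add, ← zpow_add, add_comm]

theorem nrm (F : Fr K q z) {h : G} (hh : h * z = z * h) {k : G} (hk : k ∈ K) : h * k * h⁻¹ ∈ K :=
  (mem_normalizer_iff.1 (F.nK h hh) k).1 hk

theorem inv_comm {h z : G} (hh : h * z = z * h) : h⁻¹ * z = z * h⁻¹ := by
  rw [inv_mul_eq_iff_eq_mul, ← mul_assoc, hh, mul_inv_cancel_right]

theorem mul_comm' {a b z : G} (ha : a * z = z * a) (hb : b * z = z * b) : a * b * z = z * (a * b) := by
  rw [mul_assoc, hb, ← mul_assoc, ha, mul_assoc]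

theorem conj_comm {a b z : G} (ha : a * z = z * a) (hb : b * z = z * b) : a * b * a⁻¹ * z = z * (a * b * a⁻¹) :=
  mul_comm' (mul_comm' ha hb) (inv_comm ha)

/-- `C(z)` normalizes `R`. -/
theorem nrmR (F : Fr K q z) {h : G} (hh : h * z = z * h) {r : G} (hr : r ∈ zpowers q) :
    h * r * h⁻¹ ∈ zpowers q := by
  apply F.cK
  · exact conj_comm hh (F.Qt r hr)
  · intro x hx
    have h1 : h⁻¹ * x * h ∈ K := by
      have := F.nrm (inv_comm hh) hx
      rwa [inv_inv] at this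
    have h2 := F.kr h1 hr
    calc x * (h * r * h⁻¹) = h * ((h⁻¹ * x * h) * r) * h⁻¹ := by group
      _ = h * (r * (h⁻¹ * x * h)) * h⁻¹ := by rw [h2]
      _ = h * r * h⁻¹ * x := by group

/-- The automorphism of `K` induced by an element of `C(z)`. -/
def act (F : Fr K q z) {h : G} (hh : h * z = z * h) : MulAut ↥K where
  toFun k := ⟨h * k * h⁻¹, F.nrm hh k.2⟩
  invFun k := ⟨h⁻¹ * k * h, by
    have := F.nrm (inv_comm hh) k.2
    rwa [inv_inv] at this⟩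
  left_inv k := Subtype.ext (by
    change h⁻¹ * (h * k * h⁻¹) * h = k
    group)
  right_inv k := Subtype.ext (by
    change h * (h⁻¹ * k * h) * h⁻¹ = k
    group)
  map_mul' a b := Subtype.ext (by
    change h * (a * b) * h⁻¹ = h * a * h⁻¹ * (h * b * h⁻¹)
    group)

theorem act_apply (F : Fr K q z) {h : G} (hh : h * z = z * h) (k : ↥K) :
    ((F.act hh k : ↥K) : G) = h * k * h⁻¹ := rfl

/-- an element of `C(z)` inducing an inner automorphism lies in `KR` -/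
theorem KR_of_inner (F : Fr K q z) {h : G} (hh : h * z = z * h) {k : ↥K} (hk : F.act hh = MulAut.conj k) :
    KR K q h := by
  refine ⟨k, k.2, (k : G)⁻¹ * h, ?_, by group⟩
  have hkz : (k : G) * z = z * k := F.Kt k k.2
  apply F.cK
  · exact mul_comm' (inv_comm hkz) hh
  · intro x hx
    have h1 : h * x * h⁻¹ = k * x * (k : G)⁻¹ := by
      have h0 := congrArg Subtype.val (DFunLike.congr_fun hk ⟨x, hx⟩)
      exact h0
    have h2 : h * x = k * x * (k : G)⁻¹ * h := by rw [← h1]; group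
    calc x * ((k : G)⁻¹ * h) = (k : G)⁻¹ * (k * x * (k : G)⁻¹ * h) := by group
      _ = (k : G)⁻¹ * (h * x) := by rw [h2]
      _ = (k : G)⁻¹ * h * x := by group

theorem outer (F : Fr K q z) {h : G} (hh : h * z = z * h) (hn : ¬ KR K q h) (k : ↥K) :
    F.act hh ≠ MulAut.conj k := fun h1 => hn (F.KR_of_inner hh h1)

theorem KR_comm (F : Fr K q z) {g : G} (hg : KR K q g) : g * z = z * g := by
  obtain ⟨k, hk, r, hr, rfl⟩ := hg
  exact mul_comm' (F.Kt k hk) (F.Qt r hr)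

theorem KR_mul (F : Fr K q z) {a b : G} (ha : KR K q a) (hb : KR K q b) : KR K q (a * b) := by
  obtain ⟨k, hk, r, hr, rfl⟩ := ha
  obtain ⟨l, hl, s, hs, rfl⟩ := hb
  refine ⟨k * l, K.mul_mem hk hl, r * s, mul_mem hr hs, ?_⟩
  calc k * r * (l * s) = k * (r * l) * s := by group
    _ = k * (l * r) * s := by rw [F.kr hl hr]
    _ = k * l * (r * s) := by group

theorem KR_inv (F : Fr K q z) {a : G} (ha : KR K q a) : KR K q a⁻¹ := by
  obtain ⟨k, hk, r, hr, rfl⟩ := ha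
  refine ⟨k⁻¹, K.inv_mem hk, r⁻¹, inv_mem hr, ?_⟩
  rw [F.kr hk hr, mul_inv_rev]

theorem KR_K {k : G} (hk : k ∈ K) : KR K q k := ⟨k, hk, 1, one_mem _, by rw [mul_one]⟩

theorem KR_R {r : G} (hr : r ∈ zpowers q) : KR K q r := ⟨1, K.one_mem, r, hr, by rw [one_mul]⟩

/-- `KR` as a subgroup -/
def M (F : Fr K q z) : Subgroup G where
  carrier := {g | KR K q g}
  one_mem' := KR_K K.one_mem
  mul_mem' := fun ha hb => F.KR_mul ha hb
  inv_mem' := fun ha => F.KR_inv ha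

theorem mem_M (F : Fr K q z) {g : G} : g ∈ F.M ↔ KR K q g := Iff.rfl

/-- `|C(z) : KR| ≤ 2` -/
theorem two (F : Fr K q z) (hO : OutTwo ↥K) {a b : G} (ha : a * z = z * a) (hb : b * z = z * b)
    (ha' : ¬ KR K q a) (hb' : ¬ KR K q b) : KR K q (a * b) := by
  obtain ⟨k, hk⟩ := hO (F.act ha) (F.act hb) (F.outer ha ha') (F.outer hb hb')
  apply F.KR_of_inner (mul_comm' ha hb) (k := k)
  rw [← hk]
  ext x
  change a * b * x * (a * b)⁻¹ = a * (b * x * b⁻¹) * a⁻¹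
  group

theorem sq (F : Fr K q z) (hO : OutTwo ↥K) {a : G} (ha : a * z = z * a) : KR K q (a * a) := by
  by_cases h : KR K q a
  · exact F.KR_mul h h
  · exact F.two hO ha ha h h

theorem commu (F : Fr K q z) (hO : OutTwo ↥K) {a b : G} (ha : a * z = z * a) (hb : b * z = z * b) :
    KR K q ⁅a, b⁆ := by
  have h1 := F.sq hO (mul_comm' ha hb)
  have h2 := F.sq hO ha
  have h3 := F.sq hO hb
  -- modulo `M` every square is trivial, so `[a,b] = (ab)² (b⁻¹ a b)⁻² b⁻² `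
  have h4 : KR K q ((b⁻¹ * a⁻¹ * b) * (b⁻¹ * a⁻¹ * b)) := by
    apply F.sq hO
    have := conj_comm (inv_comm hb) (inv_comm ha)
    rwa [inv_inv] at this
  have h5 := F.KR_mul (F.KR_mul h1 h4) (F.KR_inv h3)
  have h6 : a * b * (a * b) * (b⁻¹ * a⁻¹ * b * (b⁻¹ * a⁻¹ * b)) * (b * b)⁻¹ = ⁅a, b⁆ := by
    rw [commutatorElement_def]; group
  rwa [h6] at h5

theorem conj_sq (F : Fr K q z) (g : G) : g * z * g⁻¹ * (g * z * g⁻¹) = 1 := by
  calc g * z * g⁻¹ * (g * z * g⁻¹) = g * (z * z) * g⁻¹ := by group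
    _ = 1 := by rw [F.tt]; group

theorem conj_ne_one (F : Fr K q z) (g : G) : g * z * g⁻¹ ≠ 1 := by
  intro h
  apply F.t1
  calc z = g⁻¹ * (g * z * g⁻¹) * g := by group
    _ = 1 := by rw [h]; group

/-! ### The outer involutions -/

/-- conjugation by `g` maps the squares of `C(z) ∩ C(g⁻¹ z g)` into `KR` -/
theorem sq_conj (F : Fr K q z) (hO : OutTwo ↥K) {g x : G}
    (hx : x ∈ closure {w | ∃ y ∈ Ce z ⊓ Ce (g⁻¹ * z * g), w = y * y}) : KR K q (g * x * g⁻¹) := by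
  have h2 : closure {w | ∃ y ∈ Ce z ⊓ Ce (g⁻¹ * z * g), w = y * y} ≤
      F.M.comap (MulAut.conj g).toMonoidHom := by
    rw [closure_le]
    rintro _ ⟨a, ⟨-, ha2⟩, rfl⟩
    change KR K q (g * (a * a) * g⁻¹)
    have h3 : g * (a * a) * g⁻¹ = g * a * g⁻¹ * (g * a * g⁻¹) := by group
    rw [h3]
    apply F.sq hO
    change a * (g⁻¹ * z * g) = g⁻¹ * z * g * a at ha2
    calc g * a * g⁻¹ * z = g * (a * (g⁻¹ * z * g)) * g⁻¹ := by group
      _ = g * (g⁻¹ * z * g * a) * g⁻¹ := by rw [ha2]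
      _ = z * (g * a * g⁻¹) := by group
  exact h2 hx

/-- If `z^G ∩ KR = {z}`, then no outer `e ∈ z^G ∩ C(z)` is conjugate under `K` to `e x`, `1 ≠ x` a product of squares
in `C(z) ∩ C(e)`. -/
theorem thmB (F : Fr K q z) (hO : OutTwo ↥K) (hin : ∀ g : G, KR K q (g * z * g⁻¹) → g * z * g⁻¹ = z)
    {g x r : G} (hx : x ∈ closure {w | ∃ y ∈ Ce z ⊓ Ce (g⁻¹ * z * g), w = y * y}) (hx1 : x ≠ 1)
    (hr : g⁻¹ * z * g * r * (g⁻¹ * z * g)⁻¹ = r * x) : False := by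
  have hxe2 : x * (g⁻¹ * z * g) = g⁻¹ * z * g * x := by
    have h2 : closure {w | ∃ y ∈ Ce z ⊓ Ce (g⁻¹ * z * g), w = y * y} ≤ Ce (g⁻¹ * z * g) := by
      rw [closure_le]
      rintro _ ⟨a, ⟨-, ha2⟩, rfl⟩
      exact mul_mem ha2 ha2
    exact h2 hx
  -- `g x g⁻¹ ∈ KR`
  have h1 := F.sq_conj hO hx
  -- `z (g x g⁻¹)` is a conjugate of `z`
  have h2 : r⁻¹ * (g⁻¹ * z * g) * r = g⁻¹ * z * g * x := by
    rw [mul_inv_eq_iff_eq_mul] at hr
    rw [mul_assoc, hr, ← hxe2]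
    group
  have h3 : (g * r⁻¹ * g⁻¹) * z * (g * r⁻¹ * g⁻¹)⁻¹ = z * (g * x * g⁻¹) := by
    calc (g * r⁻¹ * g⁻¹) * z * (g * r⁻¹ * g⁻¹)⁻¹ = g * (r⁻¹ * (g⁻¹ * z * g) * r) * g⁻¹ := by group
      _ = g * (g⁻¹ * z * g * x) * g⁻¹ := by rw [h2]
      _ = _ := by group
  have h4 := hin (g * r⁻¹ * g⁻¹) (by rw [h3]; exact F.KR_mul (KR_K F.zK) h1)
  rw [h3, mul_eq_left] at h4
  apply hx1
  calc x = g⁻¹ * (g * x * g⁻¹) * g := by group
    _ = 1 := by rw [h4]; group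

/-- an element of `R` with square `z` is `c` or `c⁻¹` -/
theorem root_eq [Finite G] (F : Fr K q z) {c d : G} (hc : c ∈ zpowers q) (hcc : c * c = z) (hd : d ∈ zpowers q)
    (hdd : d * d = z) : d = c ∨ d = c * z := by
  have h1 : (c⁻¹ * d) * (c⁻¹ * d) = 1 := by
    have h2 : d * c⁻¹ = c⁻¹ * d := F.rr hd (inv_mem hc)
    calc (c⁻¹ * d) * (c⁻¹ * d) = c⁻¹ * (d * c⁻¹) * d := by group
      _ = c⁻¹ * (c⁻¹ * d) * d := by rw [h2]
      _ = (c * c)⁻¹ * (d * d) := by group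
      _ = 1 := by rw [hcc, hdd]; group
  by_cases h3 : c⁻¹ * d = 1
  · left
    exact (inv_mul_eq_one.1 h3).symm
  · right
    have h4 := F.uniq (mul_mem (inv_mem hc) hd) h1 h3
    rw [← h4]; group

/-- The end of D9. -/
theorem false_of_inner [Finite G] (F : Fr K q z) (hO : OutTwo ↥K)
    (hin : ∀ g : G, KR K q (g * z * g⁻¹) → g * z * g⁻¹ = z)
    (hII : OutSq (⟨z, F.zK⟩ : ↥K)) (hne : ∃ g : G, g * z * g⁻¹ ≠ z ∧ g * z * g⁻¹ * z = z * (g * z * g⁻¹)) :
    False := by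
  obtain ⟨g, hez, hcomm⟩ := hne
  have hnK : ¬ KR K q (g * z * g⁻¹) := fun h => hez (hin g h)
  -- `e' = g⁻¹ z g`
  have hcomm' : g⁻¹ * z * g * z = z * (g⁻¹ * z * g) := by
    calc g⁻¹ * z * g * z = g⁻¹ * (z * (g * z * g⁻¹)) * g := by group
      _ = g⁻¹ * (g * z * g⁻¹ * z) * g := by rw [hcomm]
      _ = _ := by group
  have hez' : g⁻¹ * z * g ≠ z := by
    intro h1
    apply hez
    calc g * z * g⁻¹ = g * (g⁻¹ * z * g) * g⁻¹ := by rw [h1]
      _ = z := by group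
  have hnK' : ¬ KR K q (g⁻¹ * z * g) := by
    intro h
    have h1 := hin g⁻¹ (by rwa [inv_inv])
    rw [inv_inv] at h1
    exact hez' h1
  have hee' : g⁻¹ * z * g * (g⁻¹ * z * g) = 1 := by simpa using F.conj_sq g⁻¹
  have hα : F.act hcomm' * F.act hcomm' = 1 := by
    ext k
    change g⁻¹ * z * g * (g⁻¹ * z * g * k * (g⁻¹ * z * g)⁻¹) * (g⁻¹ * z * g)⁻¹ = k
    calc g⁻¹ * z * g * (g⁻¹ * z * g * k * (g⁻¹ * z * g)⁻¹) * (g⁻¹ * z * g)⁻¹
        = (g⁻¹ * z * g * (g⁻¹ * z * g)) * k * (g⁻¹ * z * g * (g⁻¹ * z * g))⁻¹ := by group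
      _ = k := by rw [hee']; group
  obtain ⟨x, hx, hx'⟩ := hII _ hα (F.outer hcomm' hnK') (by
    intro c hc hcc
    have hcc' : (c : G) * c = z := congrArg Subtype.val hcc
    have hcK : ∀ y ∈ K, y * (c : G) = c * y := fun y hy =>
      congrArg Subtype.val (mem_center_iff.1 hc ⟨y, hy⟩)
    have hcR : (c : G) ∈ zpowers q := F.cK c (F.Kt c c.2) hcK
    apply Subtype.ext
    change g⁻¹ * z * g * c * (g⁻¹ * z * g)⁻¹ = (c : G)⁻¹
    have h1 := F.nrmR hcomm' hcR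
    have h2 : g⁻¹ * z * g * c * (g⁻¹ * z * g)⁻¹ * (g⁻¹ * z * g * c * (g⁻¹ * z * g)⁻¹) = z := by
      calc g⁻¹ * z * g * c * (g⁻¹ * z * g)⁻¹ * (g⁻¹ * z * g * c * (g⁻¹ * z * g)⁻¹)
          = g⁻¹ * z * g * (c * c) * (g⁻¹ * z * g)⁻¹ := by group
        _ = g⁻¹ * z * g * z * (g⁻¹ * z * g)⁻¹ := by rw [hcc']
        _ = z := by rw [hcomm']; group
    rcases F.root_eq hcR hcc' h1 h2 with h3 | h3
    · -- `e'` commutes with `c`, so `e = (g c g⁻¹)²`
      exfalso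
      apply hnK
      have h4 : (c : G) * (g⁻¹ * z * g) = g⁻¹ * z * g * c := by
        rw [mul_inv_eq_iff_eq_mul] at h3
        exact h3.symm
      have h5 : g * c * g⁻¹ * z = z * (g * c * g⁻¹) := by
        calc g * c * g⁻¹ * z = g * (c * (g⁻¹ * z * g)) * g⁻¹ := by group
          _ = g * (g⁻¹ * z * g * c) * g⁻¹ := by rw [h4]
          _ = z * (g * c * g⁻¹) := by group
      have h6 := F.sq hO h5
      have h7 : g * c * g⁻¹ * (g * c * g⁻¹) = g * z * g⁻¹ := by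
        calc g * c * g⁻¹ * (g * c * g⁻¹) = g * (c * c) * g⁻¹ := by group
          _ = _ := by rw [hcc']
      rwa [h7] at h6
    · rw [h3]
      have h4 : (c : G) * (c * z) = 1 := by
        rw [← mul_assoc, hcc', F.tt]
      exact eq_inv_of_mul_eq_one_right h4)
  have hsub : (SqFx (F.act hcomm')).map K.subtype ≤
      closure {w | ∃ y ∈ Ce z ⊓ Ce (g⁻¹ * z * g), w = y * y} := by
    rw [SqFx, MonoidHom.map_closure]
    apply Subgroup.closure_mono
    rintro _ ⟨_, ⟨y, hy, rfl⟩, rfl⟩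
    refine ⟨y, ⟨F.Kt y y.2, ?_⟩, rfl⟩
    have h2 : g⁻¹ * z * g * (y : G) * (g⁻¹ * z * g)⁻¹ = y := congrArg Subtype.val hy
    change (y : G) * (g⁻¹ * z * g) = g⁻¹ * z * g * y
    rw [mul_inv_eq_iff_eq_mul] at h2
    exact h2.symm
  rcases hx' with rfl | ⟨hx1, r, hr⟩
  · exact hnK (F.sq_conj hO (hsub ⟨_, hx, rfl⟩))
  · exact F.thmB hO hin (hsub ⟨x, hx, rfl⟩) (fun h => hx1 (Subtype.ext h)) (congrArg Subtype.val hr)

/-! ### The inner involutions, `|R| ≥ 4` -/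

/-- `R ∩ gRg⁻¹ = 1` if `g z g⁻¹ ≠ z`. -/
theorem inf_eq [Finite G] (F : Fr K q z) {g : G} (hez : g * z * g⁻¹ ≠ z) {u : G} (hu : u ∈ zpowers q)
    (hu' : g⁻¹ * u * g ∈ zpowers q) : u = 1 := by
  by_contra hu1
  have hp : IsPGroup 2 ↥(zpowers u) := F.pQ.to_le (zpowers_le.2 hu)
  obtain ⟨t, ht, htt, ht1⟩ := exists_involution hu1 hp
  have h1 : t = z := F.uniq ((zpowers_le.2 hu) ht) htt ht1
  have h2 : g⁻¹ * t * g ∈ zpowers q := by
    obtain ⟨n, rfl⟩ := mem_zpowers_iff.1 ht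
    have h3 : g⁻¹ * u ^ n * g = (g⁻¹ * u * g) ^ n := by
      have := conj_zpow (a := g⁻¹) (b := u) (i := n)
      rw [inv_inv] at this
      exact this.symm
    rw [h3]
    exact zpow_mem hu' n
  have h3 : g⁻¹ * t * g = z := by
    apply F.uniq h2
    · calc g⁻¹ * t * g * (g⁻¹ * t * g) = g⁻¹ * (t * t) * g := by group
        _ = 1 := by rw [htt]; group
    · intro h4
      apply ht1
      calc t = g * (g⁻¹ * t * g) * g⁻¹ := by group
        _ = 1 := by rw [h4]; group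
  rw [h1] at h3
  apply hez
  calc g * z * g⁻¹ = g * (g⁻¹ * z * g) * g⁻¹ := by rw [h3]
    _ = z := by group

/-- The element `cₑ = g c g⁻¹`, `c ∈ R`, `c² = z`, for an inner `e = g z g⁻¹`. -/
theorem root [Finite G] (F : Fr K q z) (hO : OutTwo ↥K) {c : G} (hc : c ∈ zpowers q)
    (hcc : c * c = z) {g : G} (he : KR K q (g * z * g⁻¹)) (hez : g * z * g⁻¹ ≠ z) :
    g * c * g⁻¹ * z = z * (g * c * g⁻¹) ∧ g * c * g⁻¹ * c = c * (g * c * g⁻¹) ∧
    (∀ y ∈ K, y * y * y = 1 → y * (g * z * g⁻¹) = g * z * g⁻¹ * y →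
      g * c * g⁻¹ * y = y * (g * c * g⁻¹)) ∧
    ∃ k : ↥K, ∃ r ∈ zpowers q, g * z * g⁻¹ = k * r ∧ k * k ∈ center ↥K ∧ k ∉ center ↥K := by
  have he0 := he
  obtain ⟨k, hk, r, hr, hkr⟩ := he
  have hee := F.conj_sq g
  -- `k² ∈ Z(K)`, `k ∉ Z(K)`
  have hkk : k * k = r⁻¹ * r⁻¹ := by
    have h1 : k * r * (k * r) = 1 := by rw [← hkr]; exact hee
    have h2 : k * k * (r * r) = 1 := by
      calc k * k * (r * r) = k * (k * r) * r := by group
        _ = k * (r * k) * r := by rw [F.kr hk hr]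
        _ = k * r * (k * r) := by group
        _ = 1 := h1
    calc k * k = k * k * (r * r) * (r⁻¹ * r⁻¹) := by group
      _ = r⁻¹ * r⁻¹ := by rw [h2, one_mul]
  have hkc : (⟨k, hk⟩ : ↥K) * ⟨k, hk⟩ ∈ center ↥K := by
    rw [mem_center_iff]
    intro y
    apply Subtype.ext
    change (y : G) * (k * k) = k * k * y
    rw [hkk]
    exact F.QK _ (mul_mem (inv_mem hr) (inv_mem hr)) y y.2
  have hkn : (⟨k, hk⟩ : ↥K) ∉ center ↥K := by
    intro h
    have h1 : k ∈ zpowers q := F.cK k (F.Kt k hk) fun x hx =>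
      congrArg Subtype.val (mem_center_iff.1 h ⟨x, hx⟩)
    apply hez
    apply F.uniq
    · rw [hkr]; exact mul_mem h1 hr
    · exact hee
    · exact F.conj_ne_one g
  -- `c` commutes with `e`
  have hce : c * (g * z * g⁻¹) = g * z * g⁻¹ * c := by
    rw [hkr]
    calc c * (k * r) = (c * k) * r := by group
      _ = (k * c) * r := by rw [F.kr hk hc]
      _ = k * (c * r) := by group
      _ = k * (r * c) := by rw [F.rr hc hr]
      _ = k * r * c := by group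
  have hc1 : g⁻¹ * c * g * z = z * (g⁻¹ * c * g) := by
    calc g⁻¹ * c * g * z = g⁻¹ * (c * (g * z * g⁻¹)) * g := by group
      _ = g⁻¹ * (g * z * g⁻¹ * c) * g := by rw [hce]
      _ = _ := by group
  have hc2 := F.sq hO hc1
  have hc3 : g⁻¹ * c * g * (g⁻¹ * c * g) = g⁻¹ * z * g := by
    calc g⁻¹ * c * g * (g⁻¹ * c * g) = g⁻¹ * (c * c) * g := by group
      _ = _ := by rw [hcc]
  rw [hc3] at hc2
  have hc4 : g⁻¹ * z * g * c = c * (g⁻¹ * z * g) := by
    obtain ⟨k', hk', r', hr', h'⟩ := hc2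
    rw [h']
    calc k' * r' * c = k' * (r' * c) := by group
      _ = k' * (c * r') := by rw [F.rr hr' hc]
      _ = (k' * c) * r' := by group
      _ = (c * k') * r' := by rw [F.kr hk' hc]
      _ = c * (k' * r') := by group
  have hc5 : g * c * g⁻¹ * z = z * (g * c * g⁻¹) := by
    calc g * c * g⁻¹ * z = g * (c * (g⁻¹ * z * g)) * g⁻¹ := by group
      _ = g * (g⁻¹ * z * g * c) * g⁻¹ := by rw [hc4]
      _ = _ := by group
  refine ⟨hc5, ?_, ?_, ⟨k, hk⟩, r, hr, hkr, hkc, hkn⟩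
  · -- `[cₑ, c] ∈ R ∩ gRg⁻¹`
    have h1 : g * c * g⁻¹ * c * (g * c * g⁻¹)⁻¹ * c⁻¹ = 1 := by
      apply F.inf_eq hez
      · exact mul_mem (F.nrmR hc5 hc) (inv_mem hc)
      · have h2 : g⁻¹ * (g * c * g⁻¹ * c * (g * c * g⁻¹)⁻¹ * c⁻¹) * g =
            c * ((g⁻¹ * c * g) * c⁻¹ * (g⁻¹ * c * g)⁻¹) := by group
        rw [h2]
        exact mul_mem hc (F.nrmR hc1 (inv_mem hc))
    rw [mul_inv_eq_one, mul_inv_eq_iff_eq_mul] at h1
    exact h1
  · intro y hy hy3' hye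
    -- `y' = g⁻¹ y g ∈ C(z)`
    have hyz : g⁻¹ * y * g * z = z * (g⁻¹ * y * g) := by
      calc g⁻¹ * y * g * z = g⁻¹ * (y * (g * z * g⁻¹)) * g := by group
        _ = g⁻¹ * (g * z * g⁻¹ * y) * g := by rw [hye]
        _ = _ := by group
    set y' := g⁻¹ * y * g with hy'
    have h4 := F.nrmR hyz hc
    have h5 : y' * c * y'⁻¹ * (y' * c * y'⁻¹) = z := by
      calc y' * c * y'⁻¹ * (y' * c * y'⁻¹) = y' * (c * c) * y'⁻¹ := by group
        _ = y' * z * y'⁻¹ := by rw [hcc]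
        _ = z := by rw [hyz]; group
    have h6 : y' * c * y'⁻¹ = c := by
      rcases F.root_eq hc hcc h4 h5 with h7 | h7
      · exact h7
      · exfalso
        have h8 : y' * y' * y' = 1 := by
          calc y' * y' * y' = g⁻¹ * (y * y * y) * g := by rw [hy']; group
            _ = 1 := by rw [hy3']; group
        have h9 : y' * (c * z) * y'⁻¹ = c := by
          calc y' * (c * z) * y'⁻¹ = (y' * c * y'⁻¹) * (y' * z * y'⁻¹) := by group
            _ = c * z * (y' * z * y'⁻¹) := by rw [h7]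
            _ = c * z * z := by rw [hyz, mul_inv_cancel_right]
            _ = c := by rw [mul_assoc, F.tt, mul_one]
        have h10 : y' * y' * y' * c * (y' * y' * y')⁻¹ = c * z := by
          calc y' * y' * y' * c * (y' * y' * y')⁻¹ = y' * (y' * (y' * c * y'⁻¹) * y'⁻¹) * y'⁻¹ := by group
            _ = y' * (y' * (c * z) * y'⁻¹) * y'⁻¹ := by rw [h7]
            _ = y' * c * y'⁻¹ := by rw [h9]
            _ = c * z := h7
        rw [h8] at h10
        apply F.t1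
        have h11 : c = c * z := by simpa using h10
        exact (mul_eq_left.1 h11.symm)
    have h8 : y' * c = c * y' := by rw [mul_inv_eq_iff_eq_mul] at h6; exact h6
    calc g * c * g⁻¹ * y = g * (c * y') * g⁻¹ := by rw [hy']; group
      _ = g * (y' * c) * g⁻¹ := by rw [h8]
      _ = y * (g * c * g⁻¹) := by rw [hy']; group

/-- `|R| ≥ 4`: `z^G ∩ KR = {z}` from `OrdThree`. -/
theorem inner_big [Finite G] (F : Fr K q z) (hO : OutTwo ↥K) (h3 : OrdThree ↥K) {c : G} (hc : c ∈ zpowers q)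
    (hcc : c * c = z) (g : G) (he : KR K q (g * z * g⁻¹)) : g * z * g⁻¹ = z := by
  by_contra hez
  obtain ⟨hc5, -, h7, k, r, hr, hkr, hkc, hkn⟩ := F.root hO hc hcc he hez
  apply h3 k hkc hkn (F.act hc5)
  · intro y hy3 hyk
    apply Subtype.ext
    change g * c * g⁻¹ * (y : G) * (g * c * g⁻¹)⁻¹ = y
    have hyk' : (y : G) * k = k * y := congrArg Subtype.val hyk
    have hy3' : (y : G) * y * y = 1 := by
      have := congrArg Subtype.val hy3
      calc (y : G) * y * y = ((y ^ 3 : ↥K) : G) := by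
            rw [Subgroup.coe_pow, pow_succ, pow_two]
        _ = 1 := this
    have hye : (y : G) * (g * z * g⁻¹) = g * z * g⁻¹ * y := by
      rw [hkr]
      calc (y : G) * (k * r) = (y * k) * r := by group
        _ = (k * y) * r := by rw [hyk']
        _ = k * (y * r) := by group
        _ = k * (r * y) := by rw [F.kr y.2 hr]
        _ = k * r * y := by group
    rw [h7 y y.2 hy3' hye]; group
  · intro x
    apply Subtype.ext
    change g * c * g⁻¹ * (g * c * g⁻¹ * (x : G) * (g * c * g⁻¹)⁻¹) * (g * c * g⁻¹)⁻¹ = k * x * (k : G)⁻¹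
    have h4 : g * c * g⁻¹ * (g * c * g⁻¹) = k * r := by
      rw [← hkr, ← hcc]; group
    calc g * c * g⁻¹ * (g * c * g⁻¹ * (x : G) * (g * c * g⁻¹)⁻¹) * (g * c * g⁻¹)⁻¹
        = (g * c * g⁻¹ * (g * c * g⁻¹)) * x * (g * c * g⁻¹ * (g * c * g⁻¹))⁻¹ := by group
      _ = k * r * x * (k * r)⁻¹ := by rw [h4]
      _ = k * (r * x) * r⁻¹ * (k : G)⁻¹ := by group
      _ = k * (x * r) * r⁻¹ * (k : G)⁻¹ := by rw [F.kr x.2 hr]
      _ = k * x * (k : G)⁻¹ := by group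

/-- `|R| ≥ 4`, `c ∈ K`: `z^G ∩ KR = {z}` from: every involution of `K/Z(K)` commutes with an element of order 3, no
elements of order 12 in `K/Z(K)`, the outer automorphisms move `c`. -/
theorem inner_four [Finite G] (F : Fr K q z) (hO : OutTwo ↥K) (hT : Three ↥K) (h12 : NoTwelve ↥K)
    {c : ↥K} (hc : (c : G) ∈ zpowers q) (hcc : (c : G) * c = z)
    (hinv : ∀ α : MulAut ↥K, α c = c → ∃ k, α = MulAut.conj k) (g : G)
    (he : KR K q (g * z * g⁻¹)) : g * z * g⁻¹ = z := by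
  by_contra hez
  obtain ⟨hc5, hc6, h7, k, r, hr, hkr, hkc, hkn⟩ := F.root hO hc hcc he hez
  obtain ⟨y, hy3, hy1, hyk⟩ := hT k hkc hkn
  have hyk' : (y : G) * k = k * y := congrArg Subtype.val hyk
  have hy3' : (y : G) * y * y = 1 := by
    have := congrArg Subtype.val hy3
    calc (y : G) * y * y = ((y ^ 3 : ↥K) : G) := by
          rw [Subgroup.coe_pow, pow_succ, pow_two]
      _ = 1 := this
  have hye : (y : G) * (g * z * g⁻¹) = g * z * g⁻¹ * y := by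
    rw [hkr]
    calc (y : G) * (k * r) = (y * k) * r := by group
      _ = (k * y) * r := by rw [hyk']
      _ = k * (y * r) := by group
      _ = k * (r * y) := by rw [F.kr y.2 hr]
      _ = k * r * y := by group
  have h8 := h7 y y.2 hy3' hye
  have hce : g * c * g⁻¹ * (g * c * g⁻¹) = g * z * g⁻¹ := by
    rw [← hcc]; group
  -- `cₑ ∈ KR`
  have h9 : KR K q (g * c * g⁻¹) := by
    obtain ⟨l, hl⟩ := hinv (F.act hc5) (Subtype.ext (by
      change g * c * g⁻¹ * (c : G) * (g * c * g⁻¹)⁻¹ = c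
      rw [hc6]; group))
    exact F.KR_of_inner hc5 hl
  obtain ⟨l, hl, s, hs, hls⟩ := h9
  have hyl : y * ⟨l, hl⟩ = ⟨l, hl⟩ * y := by
    apply Subtype.ext
    change (y : G) * l = l * y
    have h10 : l = g * c * g⁻¹ * s⁻¹ := by rw [hls]; group
    rw [h10]
    calc (y : G) * (g * c * g⁻¹ * s⁻¹) = (y * (g * c * g⁻¹)) * s⁻¹ := by group
      _ = (g * c * g⁻¹ * y) * s⁻¹ := by rw [h8]
      _ = g * c * g⁻¹ * (y * s⁻¹) := by group
      _ = g * c * g⁻¹ * (s⁻¹ * y) := by rw [F.kr y.2 (inv_mem hs)]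
      _ = g * c * g⁻¹ * s⁻¹ * y := by group
  have hll : l * l = g * z * g⁻¹ * (s⁻¹ * s⁻¹) := by
    have h10 : l * s * (l * s) = g * z * g⁻¹ := by rw [← hls]; exact hce
    rw [← h10]
    calc l * l = l * (l * s) * s⁻¹ := by group
      _ = l * (s * l) * s⁻¹ := by rw [F.kr hl hs]
      _ = l * s * l * (s * (s⁻¹ * s⁻¹)) := by group
      _ = l * s * (l * s) * (s⁻¹ * s⁻¹) := by group
  have hl4 : (⟨l, hl⟩ : ↥K) ^ 4 ∈ center ↥K := by
    have h10 : (l * l) * (l * l) = (s⁻¹ * s⁻¹) * (s⁻¹ * s⁻¹) := by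
      have h11 : s⁻¹ * s⁻¹ * (g * z * g⁻¹) = g * z * g⁻¹ * (s⁻¹ * s⁻¹) := by
        rw [hkr]
        have h12 := mul_mem (inv_mem hs) (inv_mem hs)
        calc s⁻¹ * s⁻¹ * (k * r) = (s⁻¹ * s⁻¹ * k) * r := by group
          _ = (k * (s⁻¹ * s⁻¹)) * r := by rw [F.kr k.2 h12]
          _ = k * ((s⁻¹ * s⁻¹) * r) := by group
          _ = k * (r * (s⁻¹ * s⁻¹)) := by rw [F.rr h12 hr]
          _ = k * r * (s⁻¹ * s⁻¹) := by group
      rw [hll]
      calc g * z * g⁻¹ * (s⁻¹ * s⁻¹) * (g * z * g⁻¹ * (s⁻¹ * s⁻¹))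
          = g * z * g⁻¹ * (s⁻¹ * s⁻¹ * (g * z * g⁻¹)) * (s⁻¹ * s⁻¹) := by group
        _ = g * z * g⁻¹ * (g * z * g⁻¹ * (s⁻¹ * s⁻¹)) * (s⁻¹ * s⁻¹) := by rw [h11]
        _ = (g * z * g⁻¹ * (g * z * g⁻¹)) * ((s⁻¹ * s⁻¹) * (s⁻¹ * s⁻¹)) := by group
        _ = _ := by rw [F.conj_sq g, one_mul]
    rw [mem_center_iff]
    intro x
    apply Subtype.ext
    have h13 : (((⟨l, hl⟩ : ↥K) ^ 4 : ↥K) : G) = (l * l) * (l * l) := by
      rw [Subgroup.coe_pow]
      change l ^ 4 = l * l * (l * l)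
      rw [show (4 : ℕ) = 2 + 2 from rfl, pow_add, pow_two]
    change (x : G) * (((⟨l, hl⟩ : ↥K) ^ 4 : ↥K) : G) = (((⟨l, hl⟩ : ↥K) ^ 4 : ↥K) : G) * x
    rw [h13, h10]
    have h12 := mul_mem (inv_mem hs) (inv_mem hs)
    exact F.kr x.2 (mul_mem h12 h12)
  have hl2 := h12 _ y hy3 hy1 hyl hl4
  -- `e = l² s² ∈ R`
  have h13 : l * l ∈ zpowers q := by
    apply F.cK _ (F.Kt _ (K.mul_mem hl hl))
    intro x hx
    have := congrArg Subtype.val (mem_center_iff.1 hl2 ⟨x, hx⟩)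
    exact this
  apply hez
  apply F.uniq
  · have : g * z * g⁻¹ = l * l * (s * s) := by rw [hll]; group
    rw [this]
    exact mul_mem h13 (mul_mem hs hs)
  · exact F.conj_sq g
  · exact F.conj_ne_one g

/-- **`|R| ≥ 4`**, ending 1. -/
theorem false_big [Finite G] (F : Fr K q z) (hO : OutTwo ↥K) (h3 : OrdThree ↥K)
    (hII : OutSq (⟨z, F.zK⟩ : ↥K)) {c : G} (hc : c ∈ zpowers q) (hcc : c * c = z)
    (hne : ∃ g : G, g * z * g⁻¹ ≠ z ∧ g * z * g⁻¹ * z = z * (g * z * g⁻¹)) : False :=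
  F.false_of_inner hO (F.inner_big hO h3 hc hcc) hII hne

/-- **`|R| ≥ 4`**, ending 2, `c ∈ K`. -/
theorem false_four [Finite G] (F : Fr K q z) (hO : OutTwo ↥K) (hT : Three ↥K) (h12 : NoTwelve ↥K)
    (hII : OutSq (⟨z, F.zK⟩ : ↥K)) {c : ↥K} (hc : (c : G) ∈ zpowers q) (hcc : (c : G) * c = z)
    (hinv : ∀ α : MulAut ↥K, α c = c → ∃ k, α = MulAut.conj k)
    (hne : ∃ g : G, g * z * g⁻¹ ≠ z ∧ g * z * g⁻¹ * z = z * (g * z * g⁻¹)) : False :=
  F.false_of_inner hO (F.inner_four hO hT h12 hc hcc hinv) hII hne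

end Fr

/-! ### From the interface -/

open Cfsg.Agent.OddHalf.Iface

/-- The frame. -/
theorem exists_fr (C : Ctx G) {K : Subgroup G} (S : Std0 G K) (hcyc : Cyc K) (hz : center ↥K ≠ ⊥) :
    ∃ z q : G, Fr K q z := by
  have := C.fin
  obtain ⟨z, q, h⟩ := exists_start0 C S hcyc
  refine ⟨z, q, h, ?_⟩
  obtain ⟨u, hu1⟩ := Subgroup.ne_bot_iff_exists_ne_one.1 hz
  have hu := u.2
  have hp : IsPGroup 2 ↥(zpowers ((u : ↥K) : G)) := by
    have h1 : IsPGroup 2 ↥(zpowers (u : ↥K)) := S.z2.to_le (zpowers_le.2 u.2)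
    have h2 := h1.map K.subtype
    rwa [MonoidHom.map_zpowers] at h2
  have hu1' : ((u : ↥K) : G) ≠ 1 := fun h => hu1 (Subtype.ext (Subtype.ext h))
  obtain ⟨t, ht, htt, ht1⟩ := exists_involution hu1' hp
  have huK : ((u : ↥K) : G) ∈ K := (u : ↥K).2
  have htK : t ∈ K := (zpowers_le.2 huK) ht
  have htc : ∀ x ∈ K, x * t = t * x := by
    intro x hx
    obtain ⟨n, rfl⟩ := mem_zpowers_iff.1 ht
    have h1 : x * ((u : ↥K) : G) = (u : ↥K) * x := congrArg Subtype.val (mem_center_iff.1 hu ⟨x, hx⟩)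
    exact (show Commute x ((u : ↥K) : G) from h1).zpow_right n
  have h1 := h.cK t (h.Kt t htK) htc
  have h2 := h.uniq h1 htt ht1
  rwa [← h2]

end Cfsg.Agent.OddHalf.D9.CovTwo
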