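import Cfsg.Agent.OddHalf.D9.KillAny
import Cfsg.Agent.OddHalf.D9.KillRow
import Cfsg.Agent.OddHalf.D4.Basic

/-!
# D4 and D9: the frame of `KillAny` from `Ctx`, `Std0`; the rows for arbitrary `C(K)`

* `fra_of`: `K` standard, `z` the only involution of `Z(K)`, `K / Z(K)` with the Schreier property: the frame
  `KillAny.FrA K z`. No hypothesis on `C(K)`. (Feit–Thompson is the hypothesis `ft`.)
* `row_two_any`: no standard `K` with `|Z(K)| = 2` and `K / Z(K)` of type `P`, for arbitrary `C(K)`.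
-/

set_option autoImplicit false

namespace Cfsg.Agent.OddHalf.D9.KillAnyRow

open Subgroup Cfsg Cfsg.Agent.OddHalf.Iface Cfsg.Agent.OddHalf.D9.Kill Cfsg.Agent.OddHalf.D9.KillAny
  Cfsg.Agent.Schreier.Basic
open scoped commutatorElement

universe u

variable {G : Type u} [Group G]

/-- Feit–Thompson (S0205) -/
def FT : Prop := ∀ (H : Type u) [Group H] [Finite H], Odd (Nat.card H) → Group.IsSolvable H

/-- `K = 2.X` or `4.X`: an element of `C(z)` normalizes `K` -/
theorem mem_normalizer_of_comm {K : Subgroup G} (S : IsStandardSubgroup K) {z : G} (hz : orderOf z = 2)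
    (hzC : z ∈ centralizer (K : Set G)) {h : G} (hh : h * z * h⁻¹ ∈ centralizer (K : Set G)) :
    h ∈ normalizer (K : Set G) := by
  rw [S.2.2.2]
  by_contra hn
  have h1 := S.2.1.2 h hn
  have h2 : h * z * h⁻¹ ∈ centralizer (K : Set G) ⊓ (centralizer (K : Set G)).map (MulAut.conj h).toMonoidHom :=
    ⟨hh, ⟨z, hzC, rfl⟩⟩
  have h3 : orderOf (h * z * h⁻¹) = 2 := by rw [Cfsg.Agent.OddHalf.D4.Basic.orderOf_conj, hz]
  exact (Nat.not_odd_iff_even.2 (Cfsg.Agent.OddHalf.D4.Basic.even_of_mem h3 h2)) h1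

theorem perfect_of_solvable {P : Subgroup G} [Finite G] (hs : Group.IsSolvable ↥P) (hP : ⁅P, P⁆ = P) : P = ⊥ := by
  have hpt : ⁅(⊤ : Subgroup ↥P), (⊤ : Subgroup ↥P)⁆ = ⊤ := by
    apply map_injective P.subtype_injective
    rw [map_commutator, ← MonoidHom.range_eq_map, range_subtype, hP]
  by_contra hne
  have : Nontrivial ↥P := (nontrivial_iff_ne_bot P).2 hne
  have h1 := Group.IsSolvable.commutator_lt_top_of_nontrivial ↥P
  rw [_root_.commutator_def, hpt] at h1
  exact lt_irrefl _ h1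

/-- perfect subgroups of `C(z)` lie in `K C(K)` -/
theorem perfect_le {K : Subgroup G} {z : G} (nrm : ∀ h, h * z = z * h → ∀ k ∈ K, h * k * h⁻¹ ∈ K)
    (hs : Sch ↥K) {P : Subgroup G} (hPz : ∀ x ∈ P, x * z = z * x) (hP : ⁅P, P⁆ = P) : P ≤ (phi K).range := by
  have hpt : ⁅(⊤ : Subgroup ↥P), (⊤ : Subgroup ↥P)⁆ = ⊤ := by
    apply map_injective P.subtype_injective
    rw [map_commutator, ← MonoidHom.range_eq_map, range_subtype, hP]
  have h1 : (KillRow.act nrm hPz).range ≤ (MulAut.conj : ↥K →* MulAut ↥K).range := by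
    apply hs
    rw [MonoidHom.range_eq_map, ← map_commutator, hpt]
  intro p hp
  obtain ⟨k, hk⟩ := h1 ⟨⟨p, hp⟩, rfl⟩
  refine ⟨(k, ⟨(k : G)⁻¹ * p, ?_⟩), ?_⟩
  · rw [mem_centralizer_iff]
    intro x hx
    have h3 : MulAut.conj k ⟨x, hx⟩ = KillRow.act nrm hPz ⟨p, hp⟩ ⟨x, hx⟩ := by rw [hk]
    have h4 : (k : G) * x * (k : G)⁻¹ = p * x * p⁻¹ := congrArg Subtype.val h3
    calc x * ((k : G)⁻¹ * p) = (k : G)⁻¹ * (k * x * (k : G)⁻¹) * p := by group
      _ = (k : G)⁻¹ * (p * x * p⁻¹) * p := by rw [h4]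
      _ = (k : G)⁻¹ * p * x := by group
  · rw [phi_apply]
    change (k : G) * ((k : G)⁻¹ * p) = p
    group

/-- **The frame**, for arbitrary `C(K)`. -/
theorem fra_of (ft : FT.{u}) (C : Ctx G) {K : Subgroup G} (S : Std0 G K) {z : G} (hzK : z ∈ K)
    (hz : ∀ k ∈ K, k * z = z * k) (hz1 : z ≠ 1) (hzz : z * z = 1)
    (huniq : ∀ x ∈ K, (∀ k ∈ K, k * x = x * k) → x * x = 1 → x ≠ 1 → x = z)
    (hs : Sch (↥K ⧸ center ↥K)) : FrA K z := by
  have := C.fin
  have := C.simple
  have hz2 : orderOf z = 2 := orderOf_eq_prime (by rw [pow_two]; exact hzz) hz1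
  have hzC : z ∈ centralizer (K : Set G) := mem_centralizer_iff.2 fun k hk => hz k hk
  have hnorm : ∀ g ∈ normalizer (K : Set G), g * z * g⁻¹ = z := by
    intro g hg
    apply huniq
    · exact (mem_normalizer_iff.1 hg z).1 hzK
    · intro k hk
      have h1 : g⁻¹ * k * g ∈ K := by
        rw [mem_normalizer_iff.1 hg]
        have : g * (g⁻¹ * k * g) * g⁻¹ = k := by group
        rwa [this]
      calc k * (g * z * g⁻¹) = g * (g⁻¹ * k * g * z) * g⁻¹ := by group
        _ = g * (z * (g⁻¹ * k * g)) * g⁻¹ := by rw [hz _ h1]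
        _ = g * z * g⁻¹ * k := by group
    · calc g * z * g⁻¹ * (g * z * g⁻¹) = g * (z * z) * g⁻¹ := by group
        _ = 1 := by rw [hzz]; group
    · intro h
      apply hz1
      calc z = g⁻¹ * (g * z * g⁻¹) * g := by group
        _ = 1 := by rw [h]; group
  have nrm : ∀ h : G, h * z = z * h → ∀ k ∈ K, h * k * h⁻¹ ∈ K := by
    intro h hh k hk
    have h1 : h * z * h⁻¹ = z := by rw [hh]; group
    exact (mem_normalizer_iff.1 (mem_normalizer_of_comm S.std hz2 hzC (by rw [h1]; exact hzC)) k).1 hk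
  exact {
    zz := hzz
    z1 := hz1
    zK := hzK
    Kz := hz
    nrm := nrm
    perf := fun P hP hPP => perfect_le nrm
      (KillRow.sch_of_center S.std.1.1.commutator_eq_top hs) (fun _ hx => hP hx) hPP
    iso := fun g hg => hnorm g (mem_normalizer_of_comm S.std hz2 hzC hg)
    tight := by
      intro g hg P hP hPC hcom
      have h1 : g ∉ normalizer (centralizer (K : Set G) : Set G) := by
        rw [← S.std.2.2.2]
        exact fun h => hg (hnorm g h)
      have h2 := S.std.2.1.2 g h1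
      have h3 : P ≤ centralizer (K : Set G) ⊓ (centralizer (K : Set G)).map (MulAut.conj g).toMonoidHom := by
        intro p hp
        refine ⟨hPC hp, ⟨g⁻¹ * p * g, ?_, by change g * (g⁻¹ * p * g) * g⁻¹ = p; group⟩⟩
        rw [SetLike.mem_coe, mem_centralizer_iff]
        intro k hk
        have h4 := hcom p hp k hk
        calc k * (g⁻¹ * p * g) = g⁻¹ * (g * k * g⁻¹ * p) * g := by group
          _ = g⁻¹ * (p * (g * k * g⁻¹)) * g := by rw [h4]
          _ = g⁻¹ * p * g * k := by group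
      have h4 : Odd (Nat.card ↥P) := h2.of_dvd_nat (card_dvd_of_le h3)
      exact perfect_of_solvable (ft ↥P h4) hP
    ne := KillRow.exists_ne C.na hzz hz1 }

/-! ### The rows -/

/-- The facts on `K` for the kill with arbitrary `C(K)`. -/
def KFA {K : Type u} [Group K] (z : K) : Prop := ((∃ C : Set K, PF z C) ∨ NoBad z) ∧ KillAny.Facts z

theorem false_of_kfa {K : Subgroup G} {z : G} (F : FrA K z) (h : KFA (⟨z, F.zK⟩ : ↥K)) : False := by
  obtain ⟨⟨C, h1⟩ | h1, h2⟩ := h
  · exact F.false_pf h2 h1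
  · exact F.false h2 h1

/-- the facts on the groups with `|Z(K)| = 2`, `K / Z(K)` with the property `P` -/
def FactsAny (P : (X : Type u) → [Group X] → Prop) : Prop :=
  ∀ (L : Type u) [Group L] [Finite L], IsQuasisimple L → Nat.card ↥(center L) = 2 → P (L ⧸ center L) →
    ∀ c : L, c ≠ 1 → c * c = 1 → (∀ y, c * y = y * c) → KFA c

/-- no standard subgroup of type `P`, arbitrary centralizer -/
def RowAny (P : (K : Type u) → [Group K] → Prop) : Prop :=
  ∀ (G : Type u) [Group G], Ctx G → ∀ K : Subgroup G, Std0 G K → P ↥K → False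

/-- **Rows with `|Z(K)| = 2`, arbitrary `C(K)`.** -/
theorem row_two_any (ft : FT.{u}) {P : (X : Type u) → [Group X] → Prop}
    (hs : ∀ (X : Type u) [Group X] [Finite X] [IsSimpleGroup X], ¬ IsMulCommutative X → P X → Sch X)
    (F : FactsAny P) : RowAny.{u} (fun K _ => Cut.Two P K) := by
  intro G _ C K S ⟨h2, hP⟩
  have := C.fin
  have := S.simple
  obtain ⟨⟨z, hz⟩, hz1, hzu⟩ := Nat.card_eq_two_iff' (1 : ↥(center ↥K)) |>.1 h2
  have hzc : ∀ y, z * y = y * z := fun y => (mem_center_iff.1 hz y).symm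
  have hz1' : z ≠ 1 := fun h => hz1 (Subtype.ext h)
  have hzz : z * z = 1 := by
    by_contra hne
    have h3 := hzu (⟨z, hz⟩ * ⟨z, hz⟩) (fun h => hne (congrArg Subtype.val h))
    have h4 : z * z = z := congrArg Subtype.val h3
    exact hz1' (mul_eq_left.1 h4)
  have FF : FrA K (z : G) := fra_of ft C S z.2 (fun k hk => (congrArg Subtype.val (hzc ⟨k, hk⟩)).symm)
    (fun h => hz1' (Subtype.ext h)) (congrArg Subtype.val hzz) (by
      intro x hx hxc _ hx1
      have h3 : (⟨x, hx⟩ : ↥K) ∈ center ↥K := by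
        rw [mem_center_iff]
        intro k
        exact Subtype.ext (hxc k k.2)
      have h4 := hzu ⟨_, h3⟩ (fun h => hx1 (congrArg (fun y : ↥(center ↥K) => ((y : ↥K) : G)) h))
      exact congrArg (fun y : ↥(center ↥K) => ((y : ↥K) : G)) h4) (hs _ S.quo_na hP)
  exact false_of_kfa FF (F ↥K S.std.1 h2 hP _ hz1' hzz hzc)

/-- a row for arbitrary `C(K)` is a row of D9 -/
theorem row_of_any {P : (K : Type u) → [Group K] → Prop} (h : RowAny.{u} P) : Cut.Row.{u} P :=
  fun G _ C K S _ hP => h G C K S hP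

end Cfsg.Agent.OddHalf.D9.KillAnyRow
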