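import Cfsg.Agent.OddHalf.D9.Outer

/-!
# Conjugates of `z` commuting with `r` (helper891; ODD D9)

`G` has no subgroup of index `2`, `H = C_G(z)`, `z ∈ ⟨r⟩`, `⟨r⟩` a `2`-group. If `z` is the only conjugate of `z`
commuting with `r`, then `l u = 1` for every `l : H →* {±1}` and every involution `u` commuting with `r`
(`false_of_isolated`); more generally for every `2`-element `u` commuting with `r` none of whose proper powers has a
conjugate in `H` outside `ker l` (`false_of_isolated'`).

`false_of_invert`: `K`, `R = ⟨r⟩` of order `4` with `r^2 = z`, every conjugate `a ≠ z` of `z` in `H`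
inverts `r`, some `v ∈ H` commutes with `r`, `v^2 = z`, `l v = 1`, `l r = -1`: contradiction.
-/

set_option autoImplicit false

namespace Cfsg.Agent.OddHalf.D9.InvertFour

open MulAction Subgroup Cfsg.Agent.OddHalf.D9.TransferGen Cfsg.Agent.OddHalf.D9.Outer

variable {G : Type*} [Group G]

theorem isPGroup_sup {r u : G} (hr : IsPGroup 2 (zpowers r)) (hu : IsPGroup 2 (zpowers u))
    (h : u * r = r * u) : IsPGroup 2 ((zpowers r ⊔ zpowers u : Subgroup G)) := by
  refine hr.to_sup_of_normal_right' hu ?_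
  rw [zpowers_le, mem_normalizer_iff]
  intro n
  have hc : ∀ y ∈ zpowers u, r * y * r⁻¹ = y := by
    intro y hy
    obtain ⟨i, rfl⟩ := mem_zpowers_iff.1 hy
    rw [← ((show Commute u r from h).zpow_left i).eq]; group
  constructor
  · intro hn
    rw [hc n hn]; exact hn
  · intro hn
    have h1 : n = r⁻¹ * (r * n * r⁻¹) * r := by group
    have h2 : r * (r * n * r⁻¹) * r⁻¹ = r * n * r⁻¹ := hc _ hn
    have h3 : r * n * r⁻¹ = n := by
      calc r * n * r⁻¹ = r⁻¹ * (r * (r * n * r⁻¹) * r⁻¹) * r := by group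
        _ = r⁻¹ * (r * n * r⁻¹) * r := by rw [h2]
        _ = n := by group
    change n ∈ zpowers u
    rw [← h3]; exact hn

theorem false_of_isolated' [Finite G] (hG : ∀ N : Subgroup G, N.index ≠ 2) {z r u : G}
    (l : centralizer ({z} : Set G) →* ℤˣ) (hu : u ∈ centralizer ({z} : Set G))
    (hlu : l ⟨u, hu⟩ = -1)
    (hx : ∀ k, k ∣ orderOf u → k ≠ 1 → ∀ g : G, ∀ h : g⁻¹ * u ^ k * g ∈ centralizer ({z} : Set G),
      l ⟨g⁻¹ * u ^ k * g, h⟩ = 1)
    (hu2 : IsPGroup 2 (zpowers u)) (hr2 : IsPGroup 2 (zpowers r)) (hur : u * r = r * u)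
    (hz : z ∈ zpowers r) (hiso : ∀ a, IsConj z a → a * r = r * a → a = z) : False := by
  have hD := isPGroup_sup hr2 hu2 hur
  have huD : u ∈ zpowers r ⊔ zpowers u := (le_sup_right : zpowers u ≤ _) (mem_zpowers u)
  have hrD : r ∈ zpowers r ⊔ zpowers u := (le_sup_left : zpowers r ≤ _) (mem_zpowers r)
  have hDu : ∀ d ∈ zpowers r ⊔ zpowers u, d * u = u * d := by
    have : zpowers r ⊔ zpowers u ≤ centralizer ({u} : Set G) := by
      rw [sup_le_iff, zpowers_le, zpowers_le]
      exact ⟨mem_centralizer_singleton_iff.2 hur.symm, mem_centralizer_singleton_iff.2 rfl⟩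
    intro d hd
    exact mem_centralizer_singleton_iff.1 (this hd)
  have h1 := even_neg hG l u hx (zpowers r ⊔ zpowers u) hD huD hDu
  have h2 : Neg l (zpowers r ⊔ zpowers u) u = {z} := by
    ext a
    rw [Set.mem_singleton_iff]
    constructor
    · rintro ⟨ha, hc, -⟩
      exact hiso a ha (hc r hrD).symm
    · rintro rfl
      refine ⟨IsConj.refl _, ?_, ?_⟩
      · obtain ⟨i, hi⟩ := mem_zpowers_iff.1 hz
        have hle : zpowers r ⊔ zpowers u ≤ centralizer ({a} : Set G) := by
          rw [sup_le_iff, zpowers_le, zpowers_le]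
          refine ⟨?_, hu⟩
          rw [mem_centralizer_singleton_iff, ← hi]
          exact ((Commute.refl r).zpow_right i).eq
        intro d hd
        exact mem_centralizer_singleton_iff.1 (hle hd)
      · rw [Lam_self l hu, hlu]
  rw [h2, Set.ncard_singleton] at h1
  exact absurd h1 (by decide)

/-- If `z` is the only conjugate of `z` commuting with `r`, then `l u = 1` for every involution `u`
commuting with `r`. -/
theorem false_of_isolated [Finite G] (hG : ∀ N : Subgroup G, N.index ≠ 2) {z r u : G}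
    (l : centralizer ({z} : Set G) →* ℤˣ) (hu : u ∈ centralizer ({z} : Set G))
    (hlu : l ⟨u, hu⟩ = -1) (huu : u * u = 1) (hr2 : IsPGroup 2 (zpowers r)) (hur : u * r = r * u)
    (hz : z ∈ zpowers r) (hiso : ∀ a, IsConj z a → a * r = r * a → a = z) : False := by
  have huu' : u ^ 2 = 1 := by rw [pow_two]; exact huu
  have hu2 : IsPGroup 2 (zpowers u) := by
    rw [IsPGroup.iff_orderOf]
    rintro ⟨y, hy⟩
    obtain ⟨i, rfl⟩ := mem_zpowers_iff.1 hy
    have h1 : orderOf (u ^ i) ∣ 2 ^ 1 := by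
      apply orderOf_dvd_of_pow_eq_one
      rw [pow_one, ← zpow_natCast, ← zpow_mul, mul_comm, zpow_mul, zpow_natCast, huu', one_zpow]
    obtain ⟨k, -, hk⟩ := (Nat.dvd_prime_pow Nat.prime_two).1 h1
    exact ⟨k, by rw [Subgroup.orderOf_mk]; exact hk⟩
  refine false_of_isolated' hG l hu hlu ?_ hu2 hr2 hur hz hiso
  intro k hk hk1 g h
  have h1 : k ∣ 2 := hk.trans (orderOf_dvd_of_pow_eq_one huu')
  have h2 : k = 2 := ((Nat.dvd_prime Nat.prime_two).1 h1).resolve_left hk1
  subst h2
  have h3 : (⟨g⁻¹ * u ^ 2 * g, h⟩ : centralizer ({z} : Set G)) = 1 := by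
    apply Subtype.ext
    change g⁻¹ * u ^ 2 * g = 1
    rw [huu']; group
  rw [h3, map_one]

/-- **InvertFour**: `|R| = 4`, the conjugates of `z` in `H` different from `z` do not commute with `r`, `v^2 = z` for
some `v ∈ ker l` commuting with `r`, `l r = -1`. -/
theorem false_of_invert [Finite G] (hG : ∀ N : Subgroup G, N.index ≠ 2) {z r v : G}
    (l : centralizer ({z} : Set G) →* ℤˣ) (hr : r ∈ centralizer ({z} : Set G))
    (hv : v ∈ centralizer ({z} : Set G)) (hlr : l ⟨r, hr⟩ = -1) (hlv : l ⟨v, hv⟩ = 1)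
    (hrr : r * r = z) (hvv : v * v = z) (hzz : z * z = 1) (hrv : v * r = r * v)
    (hiso : ∀ a, IsConj z a → a * z = z * a → a ≠ z → ¬ a * r = r * a) : False := by
  have hr4 : r ^ 4 = 1 := by
    calc r ^ 4 = (r * r) * (r * r) := by simp only [pow_succ, pow_zero, one_mul, mul_assoc]
      _ = 1 := by rw [hrr, hzz]
  have hr2 : IsPGroup 2 (zpowers r) := by
    rw [IsPGroup.iff_orderOf]
    rintro ⟨y, hy⟩
    obtain ⟨i, rfl⟩ := mem_zpowers_iff.1 hy
    have h1 : orderOf (r ^ i) ∣ 2 ^ 2 := by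
      apply orderOf_dvd_of_pow_eq_one
      rw [← zpow_natCast, ← zpow_mul, mul_comm, zpow_mul, zpow_natCast]
      norm_num
      rw [hr4, one_zpow]
    obtain ⟨k, -, hk⟩ := (Nat.dvd_prime_pow Nat.prime_two).1 h1
    exact ⟨k, by rw [Subgroup.orderOf_mk]; exact hk⟩
  have hz : z ∈ zpowers r := mem_zpowers_iff.2 ⟨2, by rw [zpow_two]; exact hrr⟩
  have hu : r * v ∈ centralizer ({z} : Set G) := mul_mem hr hv
  have hlu : l ⟨r * v, hu⟩ = -1 := by
    have : (⟨r * v, hu⟩ : centralizer ({z} : Set G)) = ⟨r, hr⟩ * ⟨v, hv⟩ := rfl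
    rw [this, map_mul, hlr, hlv, mul_one]
  refine false_of_isolated hG (z := z) (r := r) (u := r * v) l hu hlu ?_ hr2 ?_ hz ?_
  · calc r * v * (r * v) = r * (v * r) * v := by group
      _ = r * (r * v) * v := by rw [hrv]
      _ = (r * r) * (v * v) := by group
      _ = 1 := by rw [hrr, hvv, hzz]
  · calc r * v * r = r * (v * r) := by group
      _ = r * (r * v) := by rw [hrv]
  · intro a ha har
    by_contra hne
    have haz : a * z = z * a := by
      rw [← hrr]
      calc a * (r * r) = (a * r) * r := by rw [mul_assoc]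
        _ = r * (a * r) := by rw [har, mul_assoc, har]
        _ = r * r * a := by rw [har, ← mul_assoc]
    exact hiso a ha haz hne har

end Cfsg.Agent.OddHalf.D9.InvertFour
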