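import Cfsg.Agent.OddHalf.D9.OuterOf

/-!
# D9: fact (I') of the kill by labels

`π : K → S` is surjective with kernel `Z(K) = {1, c}`. `S` has two classes of involutions, with representatives `i` (whose
preimages are involutions) and `w` (whose preimages have square `c`), `C(i)` is perfect, contains a conjugate of `w`,
and `Q = O_2(C(i))` is such that the involutions of `Q` are conjugate to `i`, the elements of order 4 of `Q` have square `i` and
are conjugate in `C(i)`. Then for every lift `f` of `i` exactly one of `f`, `fc` is the square of an element of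
`O_2(C_K(f))`. `pf_of`: fact (I') if there is a suitable triple.
-/

set_option autoImplicit false

namespace Cfsg.Agent.OddHalf.D9.Label

open Subgroup Cfsg.Agent.OddHalf.D9.Kill Cfsg.Agent.OddHalf.D9.OuterOf
open scoped commutatorElement

universe u v

/-! ### The label -/

/-- `t` is the square of an element of a normal 2-subgroup. -/
def OS {P : Type u} [Group P] (t : P) : Prop :=
  ∃ N : Subgroup P, N.Normal ∧ IsPGroup 2 ↥N ∧ ∃ y ∈ N, y * y = t

theorem os_map {P : Type u} {Q : Type v} [Group P] [Group Q] (e : P ≃* Q) {t : P} (h : OS t) : OS (e t) := by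
  obtain ⟨N, hN, h2, y, hy, rfl⟩ := h
  exact ⟨N.map e.toMonoidHom, hN.map _ e.surjective, h2.map _, e y, ⟨y, hy, rfl⟩, (map_mul e y y).symm⟩

variable {K : Type u} [Group K]

/-- `t` is the square of an element of a normal 2-subgroup of the perfect core of `C(f)`. -/
def LB (f t : K) : Prop := ∃ h : t ∈ Pr (Ce f), OS (⟨t, h⟩ : ↥(Pr (Ce f)))

theorem lb_map {L : Type v} [Group L] (e : K ≃* L) {f t : K} (h : LB f t) : LB (e f) (e t) := by
  obtain ⟨h1, h2⟩ := h
  refine ⟨(mem_Pr_Ce e).2 h1, ?_⟩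
  let ψ : ↥(Pr (Ce f)) ≃* ↥(Pr (Ce (e f))) :=
    (equivMapOfInjective (Pr (Ce f)) e.toMonoidHom e.injective).trans (MulEquiv.subgroupCongr (map_Pr_Ce e f))
  have h3 : ψ ⟨t, h1⟩ = ⟨e t, (mem_Pr_Ce e).2 h1⟩ := Subtype.ext rfl
  rw [← h3]
  exact os_map ψ h2

theorem lb_conj (k : K) {f t : K} (h : LB f t) : LB (k * f * k⁻¹) (k * t * k⁻¹) := lb_map (MulAut.conj k) h

theorem Ce_mul {f c : K} (hc : ∀ y, c * y = y * c) : Ce (f * c) = Ce f := by
  ext x
  rw [mem_Ce, mem_Ce]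
  constructor
  · intro h
    have h1 : x * f * c = f * x * c := by
      calc x * f * c = x * (f * c) := by group
        _ = f * c * x := h
        _ = f * (c * x) := by group
        _ = f * x * c := by rw [hc]; group
    exact mul_right_cancel h1
  · intro h
    calc x * (f * c) = x * f * c := by group
      _ = f * (x * c) := by rw [h]; group
      _ = f * c * x := by rw [← hc]; group

theorem lb_mul {f c t : K} (hc : ∀ y, c * y = y * c) : LB (f * c) t ↔ LB f t := by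
  unfold LB
  rw [Ce_mul hc]

/-- an involution different from `c` -/
def Iv (c f : K) : Prop := f * f = 1 ∧ f ≠ 1 ∧ f ≠ c

/-- The facts on labels. -/
structure LF (c : K) : Prop where
  cc : c * c = 1
  c1 : c ≠ 1
  zc : ∀ y, c * y = y * c
  res : ∀ f, Iv c f → c ∈ Pr (Ce f)
  l1 : ∀ f, Iv c f → LB f f ∨ LB f (f * c)
  l2 : ∀ f, Iv c f → ¬ LB f c
  l3 : ∀ f, Iv c f → LB f f → ¬ LB f (f * c)
  cj : ∀ f f', Iv c f → Iv c f' → ∃ k, k * f * k⁻¹ = f' ∨ k * f * k⁻¹ = f' * c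
  triple : ∃ x y, Iv c x ∧ Iv c y ∧ Iv c (x * y) ∧ y ∈ Pr (Ce x) ∧ LB x (x * c) ∧ LB y (y * c) ∧
    LB (x * y) (x * y * c)

theorem iv_mul {c : K} (cc : c * c = 1) (zc : ∀ y, c * y = y * c) {f : K} (h : Iv c f) : Iv c (f * c) := by
  refine ⟨?_, ?_, ?_⟩
  · calc f * c * (f * c) = f * (c * f) * c := by group
      _ = (f * f) * (c * c) := by rw [zc]; group
      _ = 1 := by rw [h.1, cc, one_mul]
  · intro h1
    apply h.2.2
    calc f = f * c * c := by rw [mul_assoc, cc, mul_one]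
      _ = c := by rw [h1, one_mul]
  · intro h1
    exact h.2.1 (mul_eq_right.1 h1)

/-- **Labels give fact (I').** -/
theorem LF.pf {c : K} (F : LF c) : PF c {f | Iv c f ∧ LB f (f * c)} := by
  have hdis : ∀ f ∈ {f | Iv c f ∧ LB f (f * c)}, f * c ∉ {f | Iv c f ∧ LB f (f * c)} := by
    rintro f ⟨h1, h2⟩ ⟨-, h3⟩
    rw [lb_mul F.zc, mul_assoc, F.cc, mul_one] at h3
    exact F.l3 f h1 h3 h2
  refine ⟨fun f h1 h2 h3 => F.res f ⟨h1, h2, h3⟩, ?_, hdis, ?_, ?_⟩
  · intro f f' h1 h2 h3 h4 h5 h6 hb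
    refine ⟨⟨h1, h2, h3⟩, ?_⟩
    rcases F.l1 f ⟨h1, h2, h3⟩ with h | h
    · exfalso
      obtain ⟨g1, g2, g3, g4, φ, e1, e2⟩ := hb
      apply F.l2 f' ⟨h4, h5, h6⟩
      refine ⟨g4, ?_⟩
      rw [← e1]
      obtain ⟨h', h''⟩ := h
      exact os_map φ h''
    · exact h
  · rintro f ⟨h1, h2⟩ f' ⟨h3, h4⟩
    obtain ⟨k, hk | hk⟩ := F.cj f f' h1 h3
    · exact ⟨k, hk⟩
    · exfalso
      apply hdis f' ⟨h3, h4⟩
      refine ⟨iv_mul F.cc F.zc h3, ?_⟩
      have h5 := lb_conj k h2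
      have h6 : k * (f * c) * k⁻¹ = k * f * k⁻¹ * c := by
        calc k * (f * c) * k⁻¹ = k * f * (c * k⁻¹) := by group
          _ = _ := by rw [F.zc]; group
      rw [h6, hk] at h5
      exact h5
  · obtain ⟨x, y, h1, h2, h3, h4, h5, h6, h7⟩ := F.triple
    exact ⟨x, ⟨h1, h5⟩, y, ⟨h2, h6⟩, h4, h3, h7⟩

/-! ### The labels from the quotient -/

/-- Facts on the quotient `S`. -/
structure QD {S : Type v} [Group S] (i w : S) (Q : Subgroup S) : Prop where
  ii : i * i = 1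
  i1 : i ≠ 1
  /-- two classes of involutions -/
  two : ∀ s : S, s * s = 1 → s ≠ 1 → (∃ g, g * s * g⁻¹ = i) ∨ ∃ g, g * s * g⁻¹ = w
  perf : ⁅Ce i, Ce i⁆ = Ce i
  wP : ∃ g, g * w * g⁻¹ ∈ Ce i
  QP : Q ≤ Ce i
  Qn : ∀ g ∈ Ce i, ∀ y ∈ Q, g * y * g⁻¹ ∈ Q
  Q2 : IsPGroup 2 ↥Q
  Qmax : ∀ N : Subgroup S, N ≤ Ce i → (∀ g ∈ Ce i, ∀ y ∈ N, g * y * g⁻¹ ∈ N) → IsPGroup 2 ↥N → N ≤ Q
  Qinv : ∀ y ∈ Q, y * y = 1 → y ≠ 1 → ∃ g, g * y * g⁻¹ = i
  Qsq : ∀ y ∈ Q, y * y = 1 ∨ y * y = i
  Qex : ∃ y ∈ Q, y * y = i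
  Qtr : ∀ y ∈ Q, ∀ y' ∈ Q, y * y = i → y' * y' = i → ∃ g ∈ Ce i, g * y * g⁻¹ = y'

section Lift

variable {S : Type v} [Group S] {i w : S} {Q : Subgroup S} (D : QD i w Q) {c : K} (cc : c * c = 1) (c1 : c ≠ 1)
  (zc : ∀ y, c * y = y * c) (π : K →* S) (hπ : Function.Surjective π) (hker : ∀ k, π k = 1 ↔ k = 1 ∨ k = c)
  (hw : ∀ k, π k = w → k * k = c) (hi : ∀ k, π k = i → k * k = 1)

include hker in
theorem ker_sq {a b : K} (h : π a = π b) : b = a ∨ b = a * c := by
  have h1 : π (a⁻¹ * b) = 1 := by rw [map_mul, map_inv, h, inv_mul_cancel]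
  rcases (hker _).1 h1 with h2 | h2
  · left; exact (inv_mul_eq_one.1 h2).symm
  · right
    rw [← h2]; group

include cc zc hker in
theorem sq_eq {a b : K} (h : π a = π b) : b * b = a * a := by
  rcases ker_sq π hker h with rfl | rfl
  · rfl
  · calc a * c * (a * c) = a * (c * a) * c := by group
      _ = a * a * (c * c) := by rw [zc]; group
      _ = a * a := by rw [cc, mul_one]

include cc zc hπ hker in
/-- squares of the preimages of conjugate elements -/
theorem sq_conj {a b : K} {g : S} (h : g * π a * g⁻¹ = π b) : ∃ k, k * (a * a) * k⁻¹ = b * b ∧ π k = g := by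
  obtain ⟨k, rfl⟩ := hπ g
  refine ⟨k, ?_, rfl⟩
  have h1 : π (k * a * k⁻¹) = π b := by rw [map_mul, map_mul, map_inv, h]
  rw [sq_eq cc zc π hker h1]
  group

include cc zc hπ hker hw in
theorem sq_w {k : K} {g : S} (h : g * π k * g⁻¹ = w) : k * k = c := by
  obtain ⟨b, hb⟩ := hπ w
  obtain ⟨l, hl, -⟩ := sq_conj cc zc π hπ hker (a := k) (b := b) (g := g) (by rw [h, hb])
  rw [hw b hb] at hl
  calc k * k = l⁻¹ * (l * (k * k) * l⁻¹) * l := by group
    _ = c := by rw [hl, mul_assoc, zc]; group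

include cc zc hπ hker hi in
theorem sq_i {k : K} {g : S} (h : g * π k * g⁻¹ = i) : k * k = 1 := by
  obtain ⟨b, hb⟩ := hπ i
  obtain ⟨l, hl, -⟩ := sq_conj cc zc π hπ hker (a := k) (b := b) (g := g) (by rw [h, hb])
  rw [hi b hb] at hl
  calc k * k = l⁻¹ * (l * (k * k) * l⁻¹) * l := by group
    _ = 1 := by rw [hl]; group

include D cc zc hπ hker hw in
/-- the centralizer of a lift of `i` is the full preimage of `C(i)`, and perfect -/
theorem Ce_eq {f : K} (hf : π f = i) : Ce f = (Ce i).comap π ∧ ⁅Ce f, Ce f⁆ = Ce f := by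
  have hkc : ∀ k, π k = 1 → ∀ y, k * y = y * k := by
    intro k hk y
    rcases (hker k).1 hk with rfl | rfl
    · rw [one_mul, mul_one]
    · exact zc y
  obtain ⟨E, hE, hEi⟩ := exists_perfect_lift π hπ hkc D.perf
  have hEf : E ≤ Ce f := by
    have h1 := eq_of_central hE (MulAut.conj f).toMonoidHom (MonoidHom.id K) (fun x hx => by
      apply hkc
      change π (x⁻¹ * (f * x * f⁻¹)) = 1
      have h2 : π x ∈ Ce i := by rw [← hEi]; exact ⟨x, hx, rfl⟩
      have h3 : π x * i = i * π x := h2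
      rw [map_mul, map_mul, map_mul, map_inv, map_inv, hf, ← h3]
      group)
    intro x hx
    have h2 : f * x * f⁻¹ = x := h1 x hx
    exact (mul_inv_eq_iff_eq_mul.1 h2).symm
  have hcE : c ∈ E := by
    obtain ⟨g, hg⟩ := D.wP
    rw [← hEi] at hg
    obtain ⟨d, hd, hdg⟩ := hg
    have h2 : d * d = c := sq_w cc zc π hπ hker hw (k := d) (g := g⁻¹) (by rw [hdg]; group)
    rw [← h2]
    exact E.mul_mem hd hd
  have h1 : (Ce i).comap π ≤ E := by
    intro x hx
    have h2 : π x ∈ E.map π := by rw [hEi]; exact hx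
    obtain ⟨d, hd, hdx⟩ := h2
    rcases ker_sq π hker hdx with rfl | rfl
    · exact hd
    · exact E.mul_mem hd hcE
  have h2 : Ce f ≤ (Ce i).comap π := by
    intro x hx
    change π x * i = i * π x
    rw [← hf, ← map_mul, ← map_mul, show x * f = f * x from hx]
  have h3 : Ce f = E := le_antisymm (h2.trans h1) hEf
  refine ⟨le_antisymm h2 (h1.trans hEf), ?_⟩
  rw [h3, hE]

include D cc zc hπ hker hw in
theorem Pr_eq {f : K} (hf : π f = i) : Pr (Ce f) = (Ce i).comap π := by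
  obtain ⟨h1, h2⟩ := Ce_eq D cc zc π hπ hker hw hf
  apply le_antisymm
  · rw [← h1]; exact Pr_le _
  · rw [← h1]; exact le_Pr le_rfl h2

include D cc zc hπ hker hw in
/-- an element `t` with label comes from `Q` -/
theorem of_lb {f t : K} (hf : π f = i) (h : LB f t) : ∃ y, π y ∈ Q ∧ y * y = t := by
  obtain ⟨h1, N, hN, h2, ⟨y, hyP⟩, hy, hyt⟩ := h
  refine ⟨y, ?_, congrArg Subtype.val hyt⟩
  have hP := Pr_eq D cc zc π hπ hker hw hf
  have h3 : (N.map (Pr (Ce f)).subtype).map π ≤ Q := by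
    apply D.Qmax
    · rintro _ ⟨_, ⟨x, -, rfl⟩, rfl⟩
      have h4 : (x : K) ∈ (Ce i).comap π := by rw [← hP]; exact x.2
      exact h4
    · rintro g hg _ ⟨_, ⟨x, hx, rfl⟩, rfl⟩
      obtain ⟨k, rfl⟩ := hπ g
      have hk : k ∈ Pr (Ce f) := by rw [hP]; exact hg
      refine ⟨_, ⟨⟨k, hk⟩ * x * ⟨k, hk⟩⁻¹, hN.conj_mem x hx ⟨k, hk⟩, rfl⟩, ?_⟩
      change π (k * x * k⁻¹) = π k * π x * (π k)⁻¹
      rw [map_mul, map_mul, map_inv]
    · exact (h2.map _).map _
  exact h3 ⟨y, ⟨⟨y, hyP⟩, hy, rfl⟩, rfl⟩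

include D cc zc hπ hker hw in
/-- the squares of the lifts of the elements of `Q` have the label -/
theorem lb_of {f y : K} (hf : π f = i) (hy : π y ∈ Q) : LB f (y * y) := by
  have hP := Pr_eq D cc zc π hπ hker hw hf
  have hQP : Q.comap π ≤ Pr (Ce f) := by
    rw [hP]
    exact comap_mono D.QP
  have hyP : y ∈ Pr (Ce f) := hQP hy
  refine ⟨(Pr (Ce f)).mul_mem hyP hyP, (Q.comap π).subgroupOf (Pr (Ce f)), ?_, ?_, ⟨y, hyP⟩, hy, rfl⟩
  · refine ⟨fun x hx g => ?_⟩
    have h1 : π x ∈ Q := hx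
    change π (g * x * (g : K)⁻¹) ∈ Q
    rw [map_mul, map_mul, map_inv]
    refine D.Qn _ ?_ _ h1
    have h2 : (g : K) ∈ (Ce i).comap π := by rw [← hP]; exact g.2
    exact h2
  · have h1 : IsPGroup 2 ↥(Q.comap π) := by
      rintro ⟨x, hx⟩
      obtain ⟨n, hn⟩ := D.Q2 ⟨π x, hx⟩
      have h2 : π (x ^ 2 ^ n) = 1 := by
        rw [map_pow]; exact congrArg Subtype.val hn
      refine ⟨n + 1, Subtype.ext ?_⟩
      change x ^ 2 ^ (n + 1) = 1
      rw [pow_succ, pow_mul, pow_two]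
      rcases (hker _).1 h2 with h3 | h3
      · rw [h3, one_mul]
      · rw [h3, cc]
    exact h1.comap_subtype

include D cc c1 zc hπ hker hw hi in
/-- **The labels.** -/
theorem lf_of (triple : ∃ y g h : K, π y ∈ Q ∧ π (y * y) = i ∧ (y * y) * (g * (y * y) * g⁻¹) = h * (y * y) * h⁻¹ * c) : LF c := by
  have hc1 : π c = 1 := (hker c).2 (Or.inr rfl)
  -- lifts of `i`
  have hivi : ∀ f, π f = i → Iv c f := by
    intro f hf
    refine ⟨hi f hf, ?_, ?_⟩
    · rintro rfl
      exact D.i1 (by rw [← hf, map_one])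
    · rintro rfl
      exact D.i1 (by rw [← hf, hc1])
  -- involutions are conjugate to lifts of `i`
  have hcj : ∀ f, Iv c f → ∃ k, π (k * f * k⁻¹) = i := by
    intro f hf
    have h1 : π f * π f = 1 := by rw [← map_mul, hf.1, map_one]
    have h2 : π f ≠ 1 := by
      intro h
      rcases (hker f).1 h with h' | h'
      · exact hf.2.1 h'
      · exact hf.2.2 h'
    rcases D.two _ h1 h2 with ⟨g, hg⟩ | ⟨g, hg⟩
    · obtain ⟨k, rfl⟩ := hπ g
      exact ⟨k, by rw [map_mul, map_mul, map_inv, hg]⟩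
    · exfalso
      have h3 := sq_w cc zc π hπ hker hw hg
      rw [hf.1] at h3
      exact c1 h3.symm
  have hmulc : ∀ k t : K, k * (t * c) * k⁻¹ = k * t * k⁻¹ * c := by
    intro k t
    calc k * (t * c) * k⁻¹ = k * t * (c * k⁻¹) := by group
      _ = _ := by rw [zc]; group
  have hback : ∀ (k f t : K), LB (k * f * k⁻¹) (k * t * k⁻¹) → LB f t := by
    intro k f t h
    have h1 := lb_conj k⁻¹ h
    have e1 : ∀ s : K, k⁻¹ * (k * s * k⁻¹) * k⁻¹⁻¹ = s := fun s => by group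
    rwa [e1, e1] at h1
  have hinv : ∀ y, π y ∈ Q → π (y * y) = 1 → y * y = 1 := by
    intro y hy h
    rw [map_mul] at h
    by_cases h1 : π y = 1
    · rcases (hker y).1 h1 with rfl | rfl
      · exact one_mul 1
      · exact cc
    · obtain ⟨g, hg⟩ := D.Qinv _ hy h h1
      exact sq_i cc zc π hπ hker hi hg
  -- the squares of the lifts of the elements of order 4 of `Q`
  have hsame : ∀ f, π f = i → ∀ y y', π y ∈ Q → π y' ∈ Q → π (y * y) = i → π (y' * y') = i → y * y = y' * y' := by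
    intro f hf y y' hy hy' h1 h2
    rw [map_mul] at h1 h2
    obtain ⟨g, hg, hgy⟩ := D.Qtr _ hy _ hy' h1 h2
    obtain ⟨k, hk, hkg⟩ := sq_conj cc zc π hπ hker hgy
    have h3 : k ∈ Ce f := by
      rw [(Ce_eq D cc zc π hπ hker hw hf).1]
      change π k ∈ Ce i
      rw [hkg]; exact hg
    have h4 : k * (y * y) = y * y * k := by
      rcases ker_sq π hker (a := f) (b := y * y) (by rw [hf, map_mul, h1]) with h | h
      · rw [h]; exact h3
      · rw [h, ← mul_assoc, show k * f = f * k from h3, mul_assoc, mul_assoc, zc]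
    rw [← hk, h4, mul_inv_cancel_right]
  refine ⟨cc, c1, zc, ?_, ?_, ?_, ?_, ?_, ?_⟩
  · intro f hf
    obtain ⟨k, hk⟩ := hcj f hf
    have h1 : c ∈ Pr (Ce (k * f * k⁻¹)) := by
      rw [Pr_eq D cc zc π hπ hker hw hk]
      change π c ∈ Ce i
      rw [hc1]; exact one_mem _
    have h2 := (mem_Pr_Ce (MulAut.conj k) (x := c) (f := f)).1
    apply h2
    have h3 : MulAut.conj k c = c := by
      rw [MulAut.conj_apply, ← zc, mul_inv_cancel_right]
    rw [h3]
    exact h1
  · intro f hf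
    obtain ⟨k, hk⟩ := hcj f hf
    obtain ⟨s, hs, hsi⟩ := D.Qex
    obtain ⟨y, rfl⟩ := hπ s
    have h1 := lb_of D cc zc π hπ hker hw hk hs
    rcases ker_sq π hker (a := k * f * k⁻¹) (b := y * y) (by rw [hk, map_mul, hsi]) with h | h
    · left
      rw [h] at h1
      exact hback k f f h1
    · right
      rw [h, ← hmulc] at h1
      exact hback k f _ h1
  · intro f hf h
    obtain ⟨k, hk⟩ := hcj f hf
    have h1 := lb_conj k h
    obtain ⟨y, hy, hyc⟩ := of_lb D cc zc π hπ hker hw hk h1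
    have h2 : k * c * k⁻¹ = c := by rw [← zc, mul_inv_cancel_right]
    rw [h2] at hyc
    apply c1
    rw [← hyc]
    exact hinv y hy (by rw [hyc, hc1])
  · intro f hf h h'
    obtain ⟨k, hk⟩ := hcj f hf
    obtain ⟨y, hy, hyf⟩ := of_lb D cc zc π hπ hker hw hk (lb_conj k h)
    obtain ⟨y', hy', hyf'⟩ := of_lb D cc zc π hπ hker hw hk (lb_conj k h')
    have h1 := hsame _ hk y y' hy hy' (by rw [hyf, hk]) (by rw [hyf', hmulc, map_mul, hk, hc1, mul_one])
    rw [hyf, hyf', hmulc] at h1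
    exact c1 (mul_eq_left.1 h1.symm)
  · intro f f' hf hf'
    obtain ⟨k, hk⟩ := hcj f hf
    obtain ⟨l, hl⟩ := hcj f' hf'
    refine ⟨l⁻¹ * k, ?_⟩
    rcases ker_sq π hker (a := l * f' * l⁻¹) (b := k * f * k⁻¹) (by rw [hk, hl]) with h | h
    · left
      calc l⁻¹ * k * f * (l⁻¹ * k)⁻¹ = l⁻¹ * (k * f * k⁻¹) * l := by group
        _ = f' := by rw [h]; group
    · right
      calc l⁻¹ * k * f * (l⁻¹ * k)⁻¹ = l⁻¹ * (k * f * k⁻¹) * l := by group
        _ = l⁻¹ * (l * f' * l⁻¹ * c) * l := by rw [h]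
        _ = f' * l⁻¹ * (c * l) := by group
        _ = f' * c := by rw [zc]; group
  · obtain ⟨y, g, h, hy, hyi, he⟩ := triple
    obtain ⟨z, hz⟩ : ∃ z, z = y * y := ⟨_, rfl⟩
    rw [← hz] at hyi he
    have hiz := hivi z hyi
    have hic := iv_mul cc zc hiz
    -- conjugates of `z` have the label `x`
    have hz1 : LB z z := by
      have := lb_of D cc zc π hπ hker hw hyi hy
      rwa [← hz] at this
    have hiv : ∀ k t : K, Iv c t → Iv c (k * t * k⁻¹) := by
      intro k t ⟨h1, h2, h3⟩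
      refine ⟨?_, ?_, ?_⟩
      · calc k * t * k⁻¹ * (k * t * k⁻¹) = k * (t * t) * k⁻¹ := by group
          _ = 1 := by rw [h1]; group
      · intro h4
        apply h2
        calc t = k⁻¹ * (k * t * k⁻¹) * k := by group
          _ = 1 := by rw [h4]; group
      · intro h4
        apply h3
        calc t = k⁻¹ * (k * t * k⁻¹) * k := by group
          _ = k⁻¹ * (c * k) := by rw [h4]; group
          _ = c := by rw [zc]; group
    have hlab : ∀ k : K, LB (k * z * k⁻¹ * c) (k * z * k⁻¹ * c * c) := by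
      intro k
      rw [lb_mul zc, mul_assoc _ c c, cc, mul_one]
      exact lb_conj k hz1
    have hprod : z * c * (g * z * g⁻¹ * c) = z * (g * z * g⁻¹) := by
      calc z * c * (g * z * g⁻¹ * c) = z * (c * (g * z * g⁻¹)) * c := by group
        _ = z * (g * z * g⁻¹) * (c * c) := by rw [zc]; group
        _ = _ := by rw [cc, mul_one]
    refine ⟨z * c, g * z * g⁻¹ * c, hic, iv_mul cc zc (hiv g z hiz), ?_, ?_, ?_, hlab g, ?_⟩
    · rw [hprod, he]
      exact iv_mul cc zc (hiv h z hiz)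
    · -- the second commutes with the first
      rw [Ce_mul zc, Pr_eq D cc zc π hπ hker hw hyi, ← (Ce_eq D cc zc π hπ hker hw hyi).1]
      have h1 : (z * (g * z * g⁻¹)) * (z * (g * z * g⁻¹)) = 1 := by
        rw [he]
        exact (iv_mul cc zc (hiv h z hiz)).1
      have h2 : (g * z * g⁻¹) * (g * z * g⁻¹) = 1 := (hiv g z hiz).1
      have h3 : z * (g * z * g⁻¹) = g * z * g⁻¹ * z := by
        have h4 := eq_inv_of_mul_eq_one_left h1
        rw [h4, mul_inv_rev, inv_eq_of_mul_eq_one_left hiz.1, inv_eq_of_mul_eq_one_left h2]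
      change g * z * g⁻¹ * c * z = z * (g * z * g⁻¹ * c)
      calc g * z * g⁻¹ * c * z = g * z * g⁻¹ * (c * z) := by group
        _ = g * z * g⁻¹ * z * c := by rw [zc]; group
        _ = z * (g * z * g⁻¹ * c) := by rw [← h3]; group
    · have := hlab 1
      rw [inv_one, mul_one, one_mul] at this
      exact this
    · rw [hprod, he]
      exact hlab h

include D cc c1 zc hπ hker hw hi in
/-- **Fact (I')**. -/
theorem pf_of (triple : ∃ y g h : K, π y ∈ Q ∧ π (y * y) = i ∧ (y * y) * (g * (y * y) * g⁻¹) = h * (y * y) * h⁻¹ * c) : ∃ C : Set K, PF c C :=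
  ⟨_, (lf_of D cc c1 zc π hπ hker hw hi triple).pf⟩

include cc c1 zc hπ hker hi in
/-- Fact for the inner automorphisms: `Y` is a perfect subgroup of `C(w)` and there is a subgroup `D` of the preimage of
`Y` with `c ∈ D'`. -/
theorem inn_of (two : ∀ s : S, s * s = 1 → s ≠ 1 → (∃ g, g * s * g⁻¹ = i) ∨ ∃ g, g * s * g⁻¹ = w)
    {Y : Subgroup S} (hY : ⁅Y, Y⁆ = Y) (hYw : ∀ y ∈ Y, y * w = w * y)
    (hab : ∃ D : Subgroup K, D.map π ≤ Y ∧ c ∈ ⁅D, D⁆) : ∀ v : K, v * v = c → c ∈ Pr (Ce v) := by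
  have hc1 : π c = 1 := (hker c).2 (Or.inr rfl)
  have hkc : ∀ k, π k = 1 → ∀ y, k * y = y * k := by
    intro k hk y
    rcases (hker k).1 hk with rfl | rfl
    · rw [one_mul, mul_one]
    · exact zc y
  obtain ⟨D₀, hD₀, hcD⟩ := hab
  obtain ⟨E, hE, hEY⟩ := exists_perfect_lift π hπ hkc hY
  have hcE : c ∈ E := by
    have h2 : ⁅D₀, D₀⁆ ≤ E := by
      rw [commutator_le]
      intro x hx y hy
      have key : ∀ x ∈ D₀, ∃ d ∈ E, x = d ∨ x = d * c := by
        intro x hx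
        have h2 : π x ∈ E.map π := by rw [hEY]; exact hD₀ ⟨x, hx, rfl⟩
        obtain ⟨d, hd, hdx⟩ := h2
        exact ⟨d, hd, ker_sq π hker hdx⟩
      obtain ⟨d, hd, hxd⟩ := key x hx
      obtain ⟨e, he, hye⟩ := key y hy
      have h3 : ⁅x, y⁆ = ⁅d, e⁆ := by
        have hz : ∀ a b : K, ⁅a * c, b⁆ = ⁅a, b⁆ := fun a b => by
          have := comm_central (a := a) (b := b) (c := c) (d := 1) zc (fun y => by rw [one_mul, mul_one])
          rwa [mul_one] at this
        have hz' : ∀ a b : K, ⁅a, b * c⁆ = ⁅a, b⁆ := fun a b => by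
          have := comm_central (a := a) (b := b) (c := 1) (d := c) (fun y => by rw [one_mul, mul_one]) zc
          rwa [mul_one] at this
        rcases hxd with rfl | rfl <;> rcases hye with rfl | rfl
        · rfl
        · exact hz' _ _
        · exact hz _ _
        · rw [hz, hz']
      rw [h3]
      exact commutator_le_self E (commutator_mem_commutator hd he)
    exact h2 hcD
  intro v hv
  -- `π v` is conjugate to `w`
  have h1 : π v * π v = 1 := by rw [← map_mul, hv, hc1]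
  have h2 : π v ≠ 1 := by
    intro h
    rcases (hker v).1 h with rfl | rfl
    · exact c1 (by rw [← hv, one_mul])
    · exact c1 (hv.symm.trans cc)
  obtain ⟨g, hg⟩ : ∃ g, g * π v * g⁻¹ = w := by
    rcases two _ h1 h2 with ⟨g, hg⟩ | h
    · exfalso
      have h3 := sq_i cc zc π hπ hker hi hg
      exact c1 (hv.symm.trans h3)
    · exact h
  obtain ⟨k, rfl⟩ := hπ g
  obtain ⟨u, hu⟩ : ∃ u, u = k * v * k⁻¹ := ⟨_, rfl⟩
  have huw : π u = w := by rw [hu, map_mul, map_mul, map_inv, hg]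
  have h3 : E ≤ Ce u := by
    have h4 := eq_of_central hE (MulAut.conj u).toMonoidHom (MonoidHom.id K) (fun x hx => by
      apply hkc
      change π (x⁻¹ * (u * x * u⁻¹)) = 1
      have h5 : π x * w = w * π x := hYw _ (by rw [← hEY]; exact ⟨x, hx, rfl⟩)
      rw [map_mul, map_mul, map_mul, map_inv, map_inv, huw, ← h5]
      group)
    intro x hx
    have h5 : u * x * u⁻¹ = x := h4 x hx
    exact (mul_inv_eq_iff_eq_mul.1 h5).symm
  have h4 : c ∈ Pr (Ce u) := le_Pr h3 hE hcE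
  apply (mem_Pr_Ce (MulAut.conj k) (x := c) (f := v)).1
  have h5 : MulAut.conj k c = c := by
    rw [MulAut.conj_apply, ← zc, mul_inv_cancel_right]
  rw [h5, MulAut.conj_apply, ← hu]
  exact h4

end Lift

end Cfsg.Agent.OddHalf.D9.Label
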