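import Cfsg.Agent.OddHalf.D9.ExTrick

/-!
# D9, row `2.M12`: the kill from facts on `K`

`Data z K`: facts on `z ∈ Z(K)`, `K` normal in `C_G(z)`, satisfied if `K / ⟨z⟩ = M12`, `|Z(K)| = 2` and
`C_G(z) / (K C_G(K))` has order at most 2, `C_{C(z)}(K)` cyclic 2-group. Then `G` is not simple.
-/

set_option autoImplicit false

namespace Cfsg.Agent.OddHalf.D9.M12Kill

open Subgroup Cfsg.Agent.OddHalf.D9.ExTrick

variable {G : Type*} [Group G]

/-- an involution of `K` different from `z` -/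
structure Inv (z : G) (K : Subgroup G) (f : G) : Prop where
  mem : f ∈ K
  sq : f * f = 1
  ne : f ≠ 1
  nez : f ≠ z

/-- `f` is a square in `K` -/
def Sq (K : Subgroup G) (f : G) : Prop := ∃ s ∈ K, s * s = f

/-- the group generated by the elements of order 3 of `C(z) ∩ C(f)` -/
def Y3 (z f : G) : Subgroup G := closure {y | y * z = z * y ∧ y * f = f * y ∧ y ^ 3 = 1}

/-- the group generated by the involutions of `C_K(f)` -/
def W2 (K : Subgroup G) (f : G) : Subgroup G := closure {w | w ∈ K ∧ w * f = f * w ∧ w * w = 1}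

/-- The facts on `K`. -/
structure Data (z : G) (K : Subgroup G) : Prop where
  zz : z * z = 1
  z1 : z ≠ 1
  zK : z ∈ K
  Kz : ∀ k ∈ K, k * z = z * k
  /-- `K` is normal in `C(z)` -/
  norm : ∀ h, h * z = z * h → ∀ k ∈ K, h * k * h⁻¹ ∈ K
  /-- perfect subgroups of `C(z)` lie in `K` -/
  perf : ∀ Y : Subgroup G, Perf Y → (∀ y ∈ Y, y * z = z * y) → Y ≤ K
  /-- elements of order 3 of `C(z)` lie in `K` -/
  three : ∀ y, y * z = z * y → y ^ 3 = 1 → y ∈ K
  /-- an involution of `C(z)` outside `K` centralises a perfect subgroup `≠ 1` of `K` -/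
  out_perf : ∀ e, e * e = 1 → e * z = z * e → e ∉ K → ∃ Y : Subgroup G, Perf Y ∧ Y ≤ K ∧ (∀ y ∈ Y, y * e = e * y) ∧
    ∃ x ∈ Y, x ≠ 1 ∧ x * x = 1
  /-- ... and is conjugate to `ex` for every involution `x` of `C_K(e)` -/
  out_conj : ∀ e, e * e = 1 → e * z = z * e → e ∉ K → ∀ x ∈ K, x * x = 1 → x * e = e * x → IsConj e (e * x)
  /-- (A) -/
  conj : ∀ f w, Inv z K f → Inv z K w → ∃ k ∈ K, k * f * k⁻¹ = w ∨ k * (f * z) * k⁻¹ = w
  /-- (C) -/
  sq_or : ∀ f, Inv z K f → Sq K f ∨ Sq K (f * z)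
  sq_not : ∀ f, Inv z K f → Sq K f → ¬ Sq K (f * z)
  y3 : ∀ f, Inv z K f → Sq K f → (∃ s ∈ Y3 z f, s * s = z) ∧ ∃ s ∈ Y3 z f, s * s = f
  /-- (D) -/
  four : ∀ f, Inv z K f → Sq K f → ∃ x ∈ W2 K f, x ^ 4 = f
  not_four : ∀ x ∈ K, x ^ 4 ≠ z
  /-- (G) -/
  solv : ∀ f, Inv z K f → ∀ Y : Subgroup G, Perf Y → Y ≤ K → (∀ y ∈ Y, y * f = f * y) → ∀ y ∈ Y, y = 1

namespace Data

variable {z : G} {K : Subgroup G}

theorem invz (D : Data z K) {f : G} (hf : Inv z K f) : Inv z K (f * z) where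
  mem := K.mul_mem hf.mem D.zK
  sq := by
    have := D.Kz f hf.mem
    calc f * z * (f * z) = f * (z * f) * z := by group
      _ = f * (f * z) * z := by rw [this]
      _ = (f * f) * (z * z) := by group
      _ = 1 := by rw [hf.sq, D.zz, one_mul]
  ne := by
    intro h
    apply hf.nez
    rw [eq_inv_of_mul_eq_one_left h]
    exact inv_eq_of_mul_eq_one_right D.zz
  nez := by
    intro h
    exact hf.ne (mul_eq_right.mp h)

theorem zzf (D : Data z K) (f : G) : f * z * z = f := by rw [mul_assoc, D.zz, mul_one]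

theorem Y3z (D : Data z K) {f : G} (hf : Inv z K f) : Y3 z (f * z) = Y3 z f := by
  unfold Y3
  congr 1
  ext y
  constructor
  · rintro ⟨h1, h2, h3⟩
    refine ⟨h1, ?_, h3⟩
    have : y * f * z = f * y * z := by
      calc y * f * z = y * (f * z) := by group
        _ = f * z * y := h2
        _ = f * (z * y) := by group
        _ = f * (y * z) := by rw [h1]
        _ = f * y * z := by group
    exact mul_right_cancel this
  · rintro ⟨h1, h2, h3⟩
    refine ⟨h1, ?_, h3⟩
    calc y * (f * z) = y * f * z := by group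
      _ = f * (y * z) := by rw [h2]; group
      _ = f * z * y := by rw [h1]; group

theorem Y3_le (D : Data z K) (f : G) : Y3 z f ≤ K := by
  unfold Y3
  rw [closure_le]
  rintro y ⟨h1, -, h3⟩
  exact D.three y h1 h3

/-- a conjugate of `z` in `K`: an element normalising `⟨z, f⟩` -/
theorem exists_n (D : Data z K) {g : G} (hf : Inv z K (g * z * g⁻¹)) :
    ∃ n, n * z * n⁻¹ = g * z * g⁻¹ ∧ (n * (g * z * g⁻¹) * n⁻¹ = z ∨
      n * (g * z * g⁻¹) * n⁻¹ = g * z * g⁻¹ * z) := by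
  set f := g * z * g⁻¹ with hfdef
  have hcomm : f * z = z * f := D.Kz f hf.mem
  set f' := g⁻¹ * z * g with hf'def
  have hgf' : g * f' * g⁻¹ = z := by rw [hf'def]; group
  have hf'z : f' * z = z * f' := by
    calc f' * z = g⁻¹ * (z * (g * z * g⁻¹)) * g := by rw [hf'def]; group
      _ = g⁻¹ * (g * z * g⁻¹ * z) * g := by rw [← hfdef, hcomm]
      _ = z * f' := by rw [hf'def]; group
  have hf'2 : f' * f' = 1 := by
    calc f' * f' = g⁻¹ * (z * z) * g := by rw [hf'def]; group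
      _ = 1 := by rw [D.zz]; group
  have hf'1 : f' ≠ 1 := by
    intro h
    apply D.z1
    rw [← hgf', h]; group
  have hf'ne : f' ≠ z := by
    intro h
    apply hf.nez
    rw [hfdef]
    calc g * z * g⁻¹ = g * f' * g⁻¹ := by rw [h]
      _ = z := hgf'
  have hf'K : f' ∈ K := by
    by_contra hn
    obtain ⟨Y, hY, hYK, hYe, x, hx, hx1, -⟩ := D.out_perf f' hf'2 hf'z hn
    have h1 : Y.map (MulAut.conj g).toMonoidHom ≤ K := by
      refine D.perf _ (perf_conj hY g) ?_
      rintro _ ⟨y, hy, rfl⟩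
      have := hYe y hy
      show g * y * g⁻¹ * z = z * (g * y * g⁻¹)
      calc g * y * g⁻¹ * z = g * y * g⁻¹ * (g * f' * g⁻¹) := by rw [hgf']
        _ = g * (y * f') * g⁻¹ := by group
        _ = g * (f' * y) * g⁻¹ := by rw [this]
        _ = (g * f' * g⁻¹) * (g * y * g⁻¹) := by group
        _ = z * (g * y * g⁻¹) := by rw [hgf']
    have h2 := D.solv f hf _ (perf_conj hY g) h1 (by
      rintro _ ⟨y, hy, rfl⟩
      have := D.Kz y (hYK hy)
      show g * y * g⁻¹ * f = f * (g * y * g⁻¹)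
      calc g * y * g⁻¹ * f = g * (y * z) * g⁻¹ := by rw [hfdef]; group
        _ = g * (z * y) * g⁻¹ := by rw [this]
        _ = f * (g * y * g⁻¹) := by rw [hfdef]; group) (g * x * g⁻¹) ⟨x, hx, rfl⟩
    exact hx1 (conj_eq_one_iff.mp h2)
  have hf'I : Inv z K f' := ⟨hf'K, hf'2, hf'1, hf'ne⟩
  obtain ⟨k, hk, h | h⟩ := D.conj f f' hf hf'I
  · refine ⟨g * k, ?_, Or.inl ?_⟩
    · have := D.Kz k hk
      calc g * k * z * (g * k)⁻¹ = g * (k * z) * k⁻¹ * g⁻¹ := by group
        _ = g * (z * k) * k⁻¹ * g⁻¹ := by rw [this]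
        _ = f := by rw [hfdef]; group
    · calc g * k * f * (g * k)⁻¹ = g * (k * f * k⁻¹) * g⁻¹ := by group
        _ = z := by rw [h, hgf']
  · have hn : g * k * z * (g * k)⁻¹ = f := by
      have := D.Kz k hk
      calc g * k * z * (g * k)⁻¹ = g * (k * z) * k⁻¹ * g⁻¹ := by group
        _ = g * (z * k) * k⁻¹ * g⁻¹ := by rw [this]
        _ = f := by rw [hfdef]; group
    refine ⟨g * k, hn, Or.inr ?_⟩
    have h2 : g * k * (f * z) * (g * k)⁻¹ = z := by
      calc g * k * (f * z) * (g * k)⁻¹ = g * (k * (f * z) * k⁻¹) * g⁻¹ := by group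
        _ = z := by rw [h, hgf']
    have h3 : g * k * f * (g * k)⁻¹ * f = z := by
      calc g * k * f * (g * k)⁻¹ * f = g * k * f * (g * k)⁻¹ * (g * k * z * (g * k)⁻¹) := by rw [hn]
        _ = g * k * (f * z) * (g * k)⁻¹ := by group
        _ = z := h2
    calc g * k * f * (g * k)⁻¹ = g * k * f * (g * k)⁻¹ * (f * f) := by rw [hf.sq, mul_one]
      _ = (g * k * f * (g * k)⁻¹ * f) * f := by group
      _ = z * f := by rw [h3]
      _ = f * z := hcomm.symm

/-- `n` maps `Y3` to itself -/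
theorem map_Y3 (D : Data z K) {f n : G} (hf : Inv z K f) (hn : n * z * n⁻¹ = f)
    (hn' : n * f * n⁻¹ = z ∨ n * f * n⁻¹ = f * z) {s : G} (hs : s ∈ Y3 z f) : n * s * n⁻¹ ∈ Y3 z f := by
  have key : Y3 z f ≤ (Y3 z f).comap (MulAut.conj n).toMonoidHom := by
    conv_lhs => unfold Y3
    rw [closure_le]
    rintro y ⟨h1, h2, h3⟩
    refine subset_closure ?_
    have c1 : n * y * n⁻¹ * f = f * (n * y * n⁻¹) := by
      calc n * y * n⁻¹ * f = n * (y * z) * n⁻¹ := by rw [← hn]; group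
        _ = n * (z * y) * n⁻¹ := by rw [h1]
        _ = (n * z * n⁻¹) * (n * y * n⁻¹) := by group
        _ = f * (n * y * n⁻¹) := by rw [hn]
    have c2 : ∀ u, n * f * n⁻¹ = u → n * y * n⁻¹ * u = u * (n * y * n⁻¹) := by
      rintro u rfl
      calc n * y * n⁻¹ * (n * f * n⁻¹) = n * (y * f) * n⁻¹ := by group
        _ = n * (f * y) * n⁻¹ := by rw [h2]
        _ = (n * f * n⁻¹) * (n * y * n⁻¹) := by group
    refine ⟨?_, c1, ?_⟩
    · show n * y * n⁻¹ * z = z * (n * y * n⁻¹)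
      rcases hn' with h | h
      · exact c2 z h
      · have h4 := c2 _ h
        have h5 : f * (n * y * n⁻¹ * z) = f * (z * (n * y * n⁻¹)) := by
          calc f * (n * y * n⁻¹ * z) = f * (n * y * n⁻¹) * z := by group
            _ = n * y * n⁻¹ * f * z := by rw [c1]
            _ = n * y * n⁻¹ * (f * z) := by group
            _ = f * z * (n * y * n⁻¹) := h4
            _ = f * (z * (n * y * n⁻¹)) := by group
        exact mul_left_cancel h5
    · show (n * y * n⁻¹) ^ 3 = 1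
      rw [conj_pow, h3, mul_one, mul_inv_cancel]
  exact key hs

theorem sq_of_Y3 (D : Data z K) {f u : G} (h : ∃ s ∈ Y3 z f, s * s = u) : Sq K u := by
  obtain ⟨s, hs, h⟩ := h
  exact ⟨s, D.Y3_le f hs, h⟩

/-- a conjugate of `z` in `K` different from `z` is a square in `K`, and is swapped with `z` -/
theorem step (D : Data z K) {g : G} (hf : Inv z K (g * z * g⁻¹)) : Sq K (g * z * g⁻¹) ∧
    ∃ n, n * z * n⁻¹ = g * z * g⁻¹ ∧ n * (g * z * g⁻¹) * n⁻¹ = z := by
  obtain ⟨n, hn, hn'⟩ := D.exists_n hf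
  set f := g * z * g⁻¹ with hfdef
  have mapsq : ∀ u, (∃ s ∈ Y3 z f, s * s = u) → ∃ s ∈ Y3 z f, s * s = n * u * n⁻¹ := by
    rintro _ ⟨s, hs, rfl⟩
    exact ⟨n * s * n⁻¹, D.map_Y3 hf hn hn' hs, by group⟩
  by_cases hsq : Sq K f
  · refine ⟨hsq, n, hn, ?_⟩
    rcases hn' with h | h
    · exact h
    · exfalso
      have h1 := mapsq f (D.y3 f hf hsq).2
      rw [h] at h1
      exact D.sq_not f hf hsq (D.sq_of_Y3 h1)
  · exfalso
    have h0 := D.invz hf
    have hsqz : Sq K (f * z) := (D.sq_or f hf).resolve_left hsq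
    have h1 := (D.y3 (f * z) h0 hsqz).1
    rw [D.Y3z hf] at h1
    have h2 := mapsq z h1
    rw [hn] at h2
    exact hsq (D.sq_of_Y3 h2)

/-- `z` is not conjugate to another element of `K` -/
theorem not_conj (D : Data z K) : ∀ k ∈ K, IsConj z k → k = z := by
  intro k hk hc
  obtain ⟨g, rfl⟩ := isConj_iff.mp hc
  by_contra hne
  have hf : Inv z K (g * z * g⁻¹) := ⟨hk, by
    calc g * z * g⁻¹ * (g * z * g⁻¹) = g * (z * z) * g⁻¹ := by group
      _ = 1 := by rw [D.zz]; group, by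
    intro h
    exact D.z1 (conj_eq_one_iff.mp h), hne⟩
  obtain ⟨hsq, n, hn, hn'⟩ := D.step hf
  set f := g * z * g⁻¹ with hfdef
  have hfz : IsConj z f := isConj_iff.mpr ⟨n, hn⟩
  have hnf : n⁻¹ * f * n = z := by rw [← hn]; group
  have hzf : n⁻¹ * z * n = f := by rw [← hn']; group
  -- involutions of `C_K(f)` are mapped into `K`
  have key : ∀ w ∈ K, w * f = f * w → w * w = 1 → n * w * n⁻¹ ∈ K := by
    intro w hw hwf hww
    by_contra hout
    have hw1 : w ≠ 1 := by
      rintro rfl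
      apply hout
      rw [mul_one, mul_inv_cancel]
      exact one_mem _
    have hwz : w ≠ z := by
      rintro rfl
      apply hout
      rw [hn]
      exact hf.mem
    have hwI : Inv z K w := ⟨hw, hww, hw1, hwz⟩
    have t1 : n * w * n⁻¹ * (n * w * n⁻¹) = 1 := by
      calc n * w * n⁻¹ * (n * w * n⁻¹) = n * (w * w) * n⁻¹ := by group
        _ = 1 := by rw [hww]; group
    have t2 : n * w * n⁻¹ * z = z * (n * w * n⁻¹) := by
      calc n * w * n⁻¹ * z = n * w * n⁻¹ * (n * f * n⁻¹) := by rw [hn']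
        _ = n * (w * f) * n⁻¹ := by group
        _ = n * (f * w) * n⁻¹ := by rw [hwf]
        _ = (n * f * n⁻¹) * (n * w * n⁻¹) := by group
        _ = z * (n * w * n⁻¹) := by rw [hn']
    have t3 : f * (n * w * n⁻¹) = n * w * n⁻¹ * f := by
      have := D.Kz w hw
      calc f * (n * w * n⁻¹) = (n * z * n⁻¹) * (n * w * n⁻¹) := by rw [hn]
        _ = n * (z * w) * n⁻¹ := by group
        _ = n * (w * z) * n⁻¹ := by rw [this]
        _ = n * w * n⁻¹ * (n * z * n⁻¹) := by group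
        _ = n * w * n⁻¹ * f := by rw [hn]
    have h1 := D.out_conj _ t1 t2 hout f hf.mem hf.sq t3
    have h2 : IsConj w (w * z) := by
      have e1 : IsConj w (n * w * n⁻¹) := isConj_iff.mpr ⟨n, rfl⟩
      have e2 : IsConj (n * w * n⁻¹ * f) (w * z) := isConj_iff.mpr ⟨n⁻¹, by
        calc n⁻¹ * (n * w * n⁻¹ * f) * n⁻¹⁻¹ = w * (n⁻¹ * f * n) := by group
          _ = w * z := by rw [hnf]⟩
      exact (e1.trans h1).trans e2
    -- one of `w, wz` is a square in `K`
    have fin : ∀ a, Inv z K a → IsConj a (a * z) → Sq K a → False := by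
      intro a ha hac hsa
      have hb := D.invz ha
      have hbn : ¬ Sq K (a * z) := D.sq_not a ha hsa
      have haz : IsConj z a := by
        obtain ⟨k, hk', h | h⟩ := D.conj f a hf ha
        · exact hfz.trans (isConj_iff.mpr ⟨k, h⟩)
        · exfalso
          apply D.sq_not f hf hsq
          obtain ⟨s, hs, hs'⟩ := hsa
          refine ⟨k⁻¹ * s * k, K.mul_mem (K.mul_mem (K.inv_mem hk') hs) hk', ?_⟩
          calc k⁻¹ * s * k * (k⁻¹ * s * k) = k⁻¹ * (s * s) * k := by group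
            _ = k⁻¹ * (k * (f * z) * k⁻¹) * k := by rw [hs', h]
            _ = f * z := by group
      obtain ⟨g', hg'⟩ := isConj_iff.mp (haz.trans hac)
      rw [← hg'] at hb hbn
      exact hbn (D.step hb).1
    rcases D.sq_or w hwI with h | h
    · exact fin w hwI h2 h
    · refine fin (w * z) (D.invz hwI) ?_ h
      rw [D.zzf]
      exact h2.symm
  obtain ⟨x, hx, hx4⟩ := D.four f hf hsq
  have hle : W2 K f ≤ K.comap (MulAut.conj n).toMonoidHom := by
    unfold W2
    rw [closure_le]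
    rintro w ⟨h1, h2, h3⟩
    exact key w h1 h2 h3
  have hxn : n * x * n⁻¹ ∈ K := hle hx
  exact D.not_four _ hxn (by rw [conj_pow, hx4, hn'])

/-- **D9, row `2.M12`** from the facts. -/
theorem kill [Finite G] [IsSimpleGroup G] (hna : ¬ IsMulCommutative G) (D : Data z K) : False := by
  have hz : orderOf z = 2 := orderOf_eq_prime (by rw [sq, D.zz]) D.z1
  refine false_of_ex hna hz D.zK D.perf D.not_conj ?_
  intro e hze hez heK
  have he2 : e * e = 1 := by
    obtain ⟨g, rfl⟩ := isConj_iff.mp hze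
    calc g * z * g⁻¹ * (g * z * g⁻¹) = g * (z * z) * g⁻¹ := by group
      _ = 1 := by rw [D.zz]; group
  obtain ⟨Y, hY, hYK, hYe, x, hx, hx1, hxx⟩ := D.out_perf e he2 hez heK
  exact ⟨Y, hY, hYe, x, hx, hx1, Or.inr (hze.trans (D.out_conj e he2 hez heK x (hYK hx) hxx (hYe x hx)))⟩

end Data

end Cfsg.Agent.OddHalf.D9.M12Kill
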