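import Mathlib

/-!
# Transfer of an element `u`: only the `⟨u⟩`-orbits fixed by a 2-subgroup of `C(u)` count

`neg_one_of_key`: `λ : H →* {±1}`, `u ∈ H`, `λ u = -1`, `D ≤ H` a 2-subgroup of `C(u)` containing `u`.
If `H` is the only coset `gH` with `λ (g⁻¹ u^n g) = -1` for some `n` and `D g H ⊆ ⟨u⟩ g H`, then some
homomorphism `G →* {±1}` maps `u` to `-1`.
-/

set_option autoImplicit false

namespace Cfsg.Agent.OddHalf.D9.OrbTransfer

open MulAction Subgroup

variable {G : Type*} [Group G]

/-- The action of `D ≤ C(u)` on the `⟨u⟩`-orbits. -/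
@[reducible] def actQ {X : Type*} [MulAction G X] (u : G) (D : Subgroup G)
    (hc : ∀ d ∈ D, d * u = u * d) : MulAction D (Quotient (orbitRel (zpowers u) X)) where
  smul d := Quotient.map' (fun x => (d : G) • x) (by
    intro a b hab
    obtain ⟨k, hk⟩ := hab
    refine ⟨k, ?_⟩
    have hcom : (d : G) * (k : G) = (k : G) * (d : G) := by
      obtain ⟨i, hi⟩ := mem_zpowers_iff.1 k.2
      rw [← hi]
      exact (Commute.zpow_right (show Commute (d : G) u from hc d d.2) i).eq
    show (k : G) • (d : G) • b = (d : G) • a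
    have hk' : (k : G) • b = a := hk
    rw [← mul_smul, ← hcom, mul_smul, hk'])
  one_smul q := by
    induction q using Quotient.inductionOn' with
    | h x =>
      show Quotient.mk'' (((1 : D) : G) • x) = Quotient.mk'' x
      rw [OneMemClass.coe_one, one_smul]
  mul_smul d e q := by
    induction q using Quotient.inductionOn' with
    | h x =>
      show Quotient.mk'' (((d * e : D) : G) • x) = Quotient.mk'' ((d : G) • (e : G) • x)
      rw [Subgroup.coe_mul, mul_smul]

/-- product of signs -/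
theorem prod_eq {X : Type*} [Fintype X] [DecidableEq X] (f : X → ℤˣ) :
    ∏ x, f x = (-1) ^ (Nat.card {x // f x = -1}) := by
  classical
  rw [Nat.card_eq_fintype_card, Fintype.card_subtype]
  rw [← Finset.prod_filter_mul_prod_filter_not Finset.univ (fun x => f x = -1)]
  rw [Finset.prod_congr rfl (g := fun _ => (-1 : ℤˣ)) (fun x hx => (Finset.mem_filter.1 hx).2),
    Finset.prod_const]
  rw [Finset.prod_eq_one (s := Finset.univ.filter fun x => ¬ f x = -1), mul_one]
  intro x hx
  exact (Int.units_eq_one_or (f x)).resolve_right (Finset.mem_filter.1 hx).2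

theorem period_eq {X : Type*} [MulAction G X] {u c : G} (hc : c * u = u * c) (x : X) :
    Function.minimalPeriod (u • ·) (c • x) = Function.minimalPeriod (u • ·) x := by
  rw [Function.minimalPeriod_eq_minimalPeriod_iff]
  intro n
  have hcn : c * u ^ n = u ^ n * c := (Commute.pow_right (show Commute c u from hc) n).eq
  unfold Function.IsPeriodicPt Function.IsFixedPt
  rw [smul_iterate_apply, smul_iterate_apply, ← mul_smul, ← hcn, mul_smul]
  exact smul_left_cancel_iff c

/-- the value of `λ` at an orbit -/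
noncomputable def orbVal (H : Subgroup G) (lam : H →* ℤˣ) (u : G)
    (q : Quotient (orbitRel (zpowers u) (G ⧸ H))) : ℤˣ :=
  lam ⟨q.out.out⁻¹ * u ^ Function.minimalPeriod (u • ·) q.out * q.out.out,
    QuotientGroup.out_conj_pow_minimalPeriod_mem H u q.out⟩

theorem conj_mem (H : Subgroup G) (u g : G) :
    g⁻¹ * u ^ Function.minimalPeriod (u • ·) (g : G ⧸ H) * g ∈ H := by
  have h1 : u ^ Function.minimalPeriod (u • ·) (g : G ⧸ H) • (g : G ⧸ H) = (g : G ⧸ H) := by
    rw [← smul_iterate_apply]
    exact Function.isPeriodicPt_minimalPeriod (u • ·) (g : G ⧸ H)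
  rw [MulAction.Quotient.smul_mk, smul_eq_mul, eq_comm, QuotientGroup.eq] at h1
  rw [mul_assoc]
  exact h1

theorem orbVal_mk (H : Subgroup G) (lam : H →* ℤˣ) (u g : G) :
    orbVal H lam u (Quotient.mk'' (g : G ⧸ H)) =
      lam ⟨g⁻¹ * u ^ Function.minimalPeriod (u • ·) (g : G ⧸ H) * g, conj_mem H u g⟩ := by
  set q : Quotient (orbitRel (zpowers u) (G ⧸ H)) := Quotient.mk'' (g : G ⧸ H) with hq
  obtain ⟨k, hk⟩ : ∃ k : zpowers u, (k : G) • (g : G ⧸ H) = q.out := by
    have h1 : Quotient.mk'' q.out = (Quotient.mk'' (g : G ⧸ H) :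
        Quotient (orbitRel (zpowers u) (G ⧸ H))) := Quotient.out_eq' q
    have h2 := Quotient.exact' h1
    obtain ⟨k, hk⟩ := h2
    exact ⟨k, hk⟩
  have hku : (k : G) * u = u * (k : G) := by
    obtain ⟨i, hi⟩ := mem_zpowers_iff.1 k.2
    rw [← hi]
    exact (Commute.zpow_left (Commute.refl u) i).eq
  have hper : Function.minimalPeriod (u • ·) q.out =
      Function.minimalPeriod (u • ·) (g : G ⧸ H) := by
    rw [← hk]; exact period_eq hku _
  obtain ⟨h, hh⟩ : ∃ h : H, q.out.out = (k : G) * g * h := by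
    have h1 : q.out = (((k : G) * g : G) : G ⧸ H) := by rw [← hk]; rfl
    rw [h1]
    exact QuotientGroup.mk_out_eq_mul H _
  have hkn : (k : G)⁻¹ * u ^ Function.minimalPeriod (u • ·) (g : G ⧸ H) * (k : G) =
      u ^ Function.minimalPeriod (u • ·) (g : G ⧸ H) := by
    have h1 : (k : G) * u ^ Function.minimalPeriod (u • ·) (g : G ⧸ H) =
        u ^ Function.minimalPeriod (u • ·) (g : G ⧸ H) * (k : G) :=
      (Commute.pow_right (show Commute (k : G) u from hku) _).eq
    rw [mul_assoc, ← h1, inv_mul_cancel_left]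
  have e : (⟨q.out.out⁻¹ * u ^ Function.minimalPeriod (u • ·) q.out * q.out.out,
      QuotientGroup.out_conj_pow_minimalPeriod_mem H u q.out⟩ : H) =
      h⁻¹ * ⟨g⁻¹ * u ^ Function.minimalPeriod (u • ·) (g : G ⧸ H) * g, conj_mem H u g⟩ * h := by
    apply Subtype.ext
    show q.out.out⁻¹ * u ^ Function.minimalPeriod (u • ·) q.out * q.out.out =
      (h : G)⁻¹ * (g⁻¹ * u ^ Function.minimalPeriod (u • ·) (g : G ⧸ H) * g) * h
    rw [hper, hh]
    calc ((k : G) * g * h)⁻¹ * u ^ Function.minimalPeriod (u • ·) (g : G ⧸ H) * ((k : G) * g * h)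
        = (h : G)⁻¹ * (g⁻¹ * ((k : G)⁻¹ * u ^ Function.minimalPeriod (u • ·) (g : G ⧸ H) * (k : G)) *
          g) * h := by group
      _ = _ := by rw [hkn]
  unfold orbVal
  rw [e, map_mul, map_mul, map_inv, mul_comm (lam h)⁻¹, inv_mul_cancel_right]

theorem orbVal_smul (H : Subgroup G) (lam : H →* ℤˣ) (u : G) (D : Subgroup G)
    (hc : ∀ d ∈ D, d * u = u * d) (d : D) (q : Quotient (orbitRel (zpowers u) (G ⧸ H))) :
    orbVal H lam u ((actQ u D hc).smul d q) = orbVal H lam u q := by
  induction q using Quotient.inductionOn' with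
  | h x =>
    induction x using QuotientGroup.induction_on with
    | H g =>
      change orbVal H lam u (Quotient.mk'' ((((d : G) * g : G)) : G ⧸ H)) =
        orbVal H lam u (Quotient.mk'' (g : G ⧸ H))
      rw [orbVal_mk, orbVal_mk]
      congr 1
      apply Subtype.ext
      show ((d : G) * g)⁻¹ * u ^ Function.minimalPeriod (u • ·) (((d : G) * g : G) : G ⧸ H) *
        ((d : G) * g) = g⁻¹ * u ^ Function.minimalPeriod (u • ·) (g : G ⧸ H) * g
      have h2 : Function.minimalPeriod (u • ·) (((d : G) * g : G) : G ⧸ H) =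
          Function.minimalPeriod (u • ·) (g : G ⧸ H) :=
        period_eq (hc d d.2) (g : G ⧸ H)
      rw [h2]
      have h3 : (d : G) * u ^ Function.minimalPeriod (u • ·) (g : G ⧸ H) =
          u ^ Function.minimalPeriod (u • ·) (g : G ⧸ H) * (d : G) :=
        (Commute.pow_right (show Commute (d : G) u from hc d d.2) _).eq
      calc ((d : G) * g)⁻¹ * u ^ Function.minimalPeriod (u • ·) (g : G ⧸ H) * ((d : G) * g)
          = g⁻¹ * ((d : G)⁻¹ * (u ^ Function.minimalPeriod (u • ·) (g : G ⧸ H) * (d : G))) * g := by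
            group
        _ = _ := by rw [← h3, inv_mul_cancel_left]

/-- **Transfer of `u`**: only the `⟨u⟩`-orbits on `G/H` fixed by `D` count. -/
theorem neg_one_of_key [Finite G] (H : Subgroup G) (lam : H →* ℤˣ) {u : G} (hu : u ∈ H)
    (hl : lam ⟨u, hu⟩ = -1) (D : Subgroup G) (hD : IsPGroup 2 D)
    (hc : ∀ d ∈ D, d * u = u * d) (hDH : D ≤ H)
    (key : ∀ (g : G) (n : ℕ) (h : g⁻¹ * u ^ n * g ∈ H), lam ⟨g⁻¹ * u ^ n * g, h⟩ = -1 →
      (∀ d ∈ D, ∃ k : ℤ, g⁻¹ * (u ^ k * d) * g ∈ H) → g ∈ H) :
    ∃ f : G →* ℤˣ, f u = -1 := by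
  classical
  have : Fact (Nat.Prime 2) := ⟨Nat.prime_two⟩
  have : Fintype (Quotient (orbitRel (zpowers u) (G ⧸ H))) := Fintype.ofFinite _
  refine ⟨MonoidHom.transfer lam, ?_⟩
  rw [MonoidHom.transfer_eq_prod_quotient_orbitRel_zpowers_quot]
  show ∏ q : Quotient (orbitRel (zpowers u) (G ⧸ H)), orbVal H lam u q = -1
  rw [prod_eq]
  let inst : MulAction D {q : Quotient (orbitRel (zpowers u) (G ⧸ H)) // orbVal H lam u q = -1} :=
    { smul := fun d q => ⟨(actQ u D hc).smul d q.1, by rw [orbVal_smul]; exact q.2⟩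
      one_smul := fun q => Subtype.ext ((actQ u D hc).one_smul q.1)
      mul_smul := fun d e q => Subtype.ext ((actQ u D hc).mul_smul d e q.1) }
  have hcard := hD.card_modEq_card_fixedPoints
    {q : Quotient (orbitRel (zpowers u) (G ⧸ H)) // orbVal H lam u q = -1}
  have hone : Nat.card (fixedPoints D
      {q : Quotient (orbitRel (zpowers u) (G ⧸ H)) // orbVal H lam u q = -1}) = 1 := by
    have hper1 : Function.minimalPeriod (u • ·) ((1 : G) : G ⧸ H) = 1 := by
      rw [Function.minimalPeriod_eq_one_iff_isFixedPt]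
      show u • ((1 : G) : G ⧸ H) = ((1 : G) : G ⧸ H)
      rw [MulAction.Quotient.smul_mk, smul_eq_mul, mul_one, eq_comm, QuotientGroup.eq]
      simpa using hu
    have hv : orbVal H lam u (Quotient.mk'' ((1 : G) : G ⧸ H)) = -1 := by
      rw [orbVal_mk, ← hl]
      congr 1
      apply Subtype.ext
      show (1 : G)⁻¹ * u ^ Function.minimalPeriod (u • ·) ((1 : G) : G ⧸ H) * 1 = u
      rw [hper1]; simp
    rw [Nat.card_eq_one_iff_exists]
    refine ⟨⟨⟨Quotient.mk'' ((1 : G) : G ⧸ H), hv⟩, ?_⟩, ?_⟩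
    · intro d
      apply Subtype.ext
      show Quotient.mk'' ((((d : G) * 1 : G)) : G ⧸ H) = Quotient.mk'' ((1 : G) : G ⧸ H)
      congr 1
      rw [mul_one, eq_comm, QuotientGroup.eq]
      simpa using hDH d.2
    · rintro ⟨⟨q, hq⟩, hfix⟩
      apply Subtype.ext
      apply Subtype.ext
      show q = Quotient.mk'' ((1 : G) : G ⧸ H)
      induction q using Quotient.inductionOn' with
      | h x =>
        induction x using QuotientGroup.induction_on with
        | H g =>
          rw [orbVal_mk] at hq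
          have hg : g ∈ H := by
            refine key g _ _ hq ?_
            intro d hd
            have h1 := hfix ⟨d, hd⟩
            have h2 : (Quotient.mk'' (((d * g : G)) : G ⧸ H) :
                Quotient (orbitRel (zpowers u) (G ⧸ H))) = Quotient.mk'' (g : G ⧸ H) :=
              congrArg Subtype.val h1
            obtain ⟨k, hk⟩ := Quotient.exact' h2
            obtain ⟨i, hi⟩ := mem_zpowers_iff.1 k.2
            have hk' : (k : G) • (g : G ⧸ H) = ((d * g : G) : G ⧸ H) := hk
            rw [MulAction.Quotient.smul_mk, smul_eq_mul, QuotientGroup.eq] at hk'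
            refine ⟨-i, ?_⟩
            rw [← hi] at hk'
            have e : g⁻¹ * (u ^ (-i) * d) * g = (u ^ i * g)⁻¹ * (d * g) := by
              rw [mul_inv_rev, zpow_neg]; group
            rw [e]; exact hk'
          congr 1
          rw [eq_comm, QuotientGroup.eq]
          simpa using hg
  rw [hone] at hcard
  have hodd : Odd (Nat.card
      {q : Quotient (orbitRel (zpowers u) (G ⧸ H)) // orbVal H lam u q = -1}) := by
    rw [Nat.odd_iff]; exact hcard
  exact hodd.neg_one_pow

end Cfsg.Agent.OddHalf.D9.OrbTransfer
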