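import Cfsg.Agent.OddHalf.D9.Outer

/-!
# Outer kill

`H = C_G(z)`, `l : H →* ℤˣ`, `l z = 1`, and all the conjugates `a ≠ z` of `z` in `H` have `l a = -1`.
`e ≠ z` is a conjugate of `z` in `H`, `D ≤ C_G(<z,e>)` a `2`-subgroup containing `z` and `e`, such that
every conjugate `a ≠ z` of `z` in `C_G(D)` lies in `e D' ∪ z e D'` (take `D` Sylow in `C_H(e)`). If `G` has no
subgroup of index two then the number of `a ∈ z^G ∩ C_G(D) ∩ z e D'` is ODD.
No element of order `4` is needed: the parity theorem `Outer.even_neg` is applied to `x = e`.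
-/

set_option autoImplicit false

namespace Cfsg.Agent.OddHalf.D9.OuterKill

open Subgroup Cfsg.Agent.OddHalf.D9.Outer

variable {G : Type*} [Group G]

/-- The sign of `z` at a conjugate `a ≠ z` of `z` commuting with `z`. -/
theorem Lam_z {z : G} (l : centralizer ({z} : Set G) →* ℤˣ)
    (hA : ∀ a : G, IsConj z a → a ≠ z → ∀ ha : a ∈ centralizer ({z} : Set G), l ⟨a, ha⟩ = -1)
    {a : G} (ha : IsConj z a) (haz : a ≠ z) (hc : z * a = a * z) : Lam l a z = -1 := by
  obtain ⟨g, hg⟩ := isConj_iff.1 ha
  have h1 := conj_mem hg hc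
  rw [Lam_eq l hg h1]
  apply hA
  · exact isConj_iff.2 ⟨g⁻¹, by group⟩
  · intro h
    apply haz
    rw [← hg]
    calc g * z * g⁻¹ = g * (g⁻¹ * z * g) * g⁻¹ := by rw [h]
      _ = z := by group

/-- The signs of a commutator subgroup are `1`. -/
theorem Lam_commutator {z : G} (l : centralizer ({z} : Set G) →* ℤˣ) {a : G} (ha : IsConj z a)
    (D : Subgroup G) (hDa : ∀ d ∈ D, d * a = a * d) {y : G} (hy : y ∈ ⁅D, D⁆) :
    Lam l a y = 1 := by
  obtain ⟨g, hg⟩ := isConj_iff.1 ha
  let f : D →* ℤˣ :=
    { toFun := fun d => Lam l a d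
      map_one' := by
        have h := conj_mem (y := 1) hg (by rw [one_mul, mul_one])
        show Lam l a 1 = 1
        rw [Lam_eq l hg h, ← map_one l]
        congr 1
        apply Subtype.ext
        simp
      map_mul' := fun x y => Lam_mul l ha (hDa x x.2) (hDa y y.2) }
  have h1 : ∀ x : D, x ∈ commutator D → f x = 1 := fun x hx =>
    MonoidHom.mem_ker.1 (Abelianization.commutator_subset_ker f hx)
  have h2 : ⁅D, D⁆ = (commutator D).map D.subtype := by
    rw [commutator_def, map_commutator, ← MonoidHom.range_eq_map, range_subtype]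
  rw [h2] at hy
  obtain ⟨x, hx, rfl⟩ := hy
  exact h1 x hx

/-- **Outer kill.** -/
theorem odd_ncard [Finite G] (hG : ∀ N : Subgroup G, N.index ≠ 2) {z : G}
    (l : centralizer ({z} : Set G) →* ℤˣ)
    (hlz : l ⟨z, mem_centralizer_singleton_iff.2 rfl⟩ = 1)
    (hA : ∀ a : G, IsConj z a → a ≠ z → ∀ ha : a ∈ centralizer ({z} : Set G), l ⟨a, ha⟩ = -1)
    {e : G} (he : IsConj z e) (he2 : e * e = 1) (hez : e ≠ z) (D : Subgroup G)
    (hD : IsPGroup 2 D) (hzD : z ∈ D) (heD : e ∈ D)
    (hDz : ∀ d ∈ D, d * z = z * d) (hDe : ∀ d ∈ D, d * e = e * d)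
    (hC : ∀ a : G, IsConj z a → a ≠ z → (∀ d ∈ D, d * a = a * d) →
      e * a ∈ ⁅D, D⁆ ∨ z * e * a ∈ ⁅D, D⁆) :
    Odd {a : G | IsConj z a ∧ a ≠ z ∧ (∀ d ∈ D, d * a = a * d) ∧ z * e * a ∈ ⁅D, D⁆}.ncard := by
  classical
  set P : Set G := {a : G | IsConj z a ∧ a ≠ z ∧ (∀ d ∈ D, d * a = a * d) ∧ z * e * a ∈ ⁅D, D⁆}
    with hP
  have hz2 : z * z = 1 := by
    obtain ⟨g, hg⟩ := isConj_iff.1 he
    have : z = g⁻¹ * e * g := by rw [← hg]; group
    calc z * z = g⁻¹ * (e * e) * g := by rw [this]; group
      _ = 1 := by rw [he2]; group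
  have hinv : ∀ a : G, IsConj z a → a * a = 1 := by
    intro a ha
    obtain ⟨g, hg⟩ := isConj_iff.1 ha
    calc a * a = g * (z * z) * g⁻¹ := by rw [← hg]; group
      _ = 1 := by rw [hz2]; group
  have hezc : e * z = z * e := (hDe z hzD).symm
  -- the parity theorem for `x = e`
  have hx : ∀ k, k ∣ orderOf e → k ≠ 1 → ∀ g : G,
      ∀ h : g⁻¹ * e ^ k * g ∈ centralizer ({z} : Set G), l ⟨g⁻¹ * e ^ k * g, h⟩ = 1 := by
    intro k hk hk1 g h
    have h2 : orderOf e ∣ 2 := orderOf_dvd_of_pow_eq_one (by rw [pow_two, he2])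
    have h3 : k = 2 := by
      rcases (Nat.dvd_prime Nat.prime_two).1 (hk.trans h2) with h | h
      · exact absurd h hk1
      · exact h
    subst h3
    rw [← map_one l]
    congr 1
    apply Subtype.ext
    change g⁻¹ * e ^ 2 * g = 1
    rw [pow_two, he2]
    group
  have h1 := even_neg hG l e hx D hD heD hDe
  -- the signs
  have hsz : Lam l z e = -1 := by
    have hm : e ∈ centralizer ({z} : Set G) := mem_centralizer_singleton_iff.2 hezc
    rw [Lam_self l hm]
    exact hA e he hez hm
  have hsa : ∀ a : G, IsConj z a → a ≠ z → (∀ d ∈ D, d * a = a * d) →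
      (Lam l a e = -1 ↔ z * e * a ∈ ⁅D, D⁆) := by
    intro a ha haz hDa
    have haa : Lam l a a = 1 := Lam_one_of_comm l ha hlz
    have hza : Lam l a z = -1 := Lam_z l hA ha haz (hDa z hzD)
    have hea := hDa e heD
    have hzac := hDa z hzD
    have h2 : Lam l a (e * a) = Lam l a e := by
      rw [Lam_mul l ha hea rfl, haa, mul_one]
    have h3 : Lam l a (z * e * a) = - Lam l a e := by
      have hzea : (z * e) * a = a * (z * e) := by
        calc z * e * a = z * (e * a) := by group
          _ = z * a * e := by rw [hea]; group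
          _ = a * (z * e) := by rw [hzac]; group
      rw [Lam_mul l ha hzea rfl, haa, mul_one, Lam_mul l ha hzac hea, hza]
      simp
    constructor
    · intro h
      rcases hC a ha haz hDa with h4 | h4
      · have h5 := Lam_commutator l ha D hDa h4
        rw [h2, h] at h5
        exact absurd h5 (by decide)
      · exact h4
    · intro h
      have h5 := Lam_commutator l ha D hDa h
      rw [h3] at h5
      rw [← h5, neg_neg]
  have h2 : Neg l D e = insert z P := by
    ext a
    constructor
    · rintro ⟨ha, hDa, hL⟩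
      by_cases haz : a = z
      · exact Or.inl haz
      · exact Or.inr ⟨ha, haz, hDa, (hsa a ha haz hDa).1 hL⟩
    · rintro (h | ⟨ha, haz, hDa, hL⟩)
      · rw [h]; exact ⟨IsConj.refl z, hDz, hsz⟩
      · exact ⟨ha, hDa, (hsa a ha haz hDa).2 hL⟩
  have h3 : z ∉ P := fun h => h.2.1 rfl
  rw [h2, Set.ncard_insert_of_notMem h3 (Set.toFinite _)] at h1
  rcases Nat.even_or_odd P.ncard with h | h
  · exact absurd h1 (by simpa using h.add_one)
  · exact h

/-- **The usual case**: `Z(D) ∩ D'` contains an involution `f`, the conjugates `a ≠ z` of `z` in `C_G(D)` are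
among `e, ez, ef, ezf`, and both `ez` and `ezf` are conjugate to `z`: impossible if `G` has no subgroup of
index two. -/
theorem false_of_pair [Finite G] (hG : ∀ N : Subgroup G, N.index ≠ 2) {z : G}
    (l : centralizer ({z} : Set G) →* ℤˣ)
    (hlz : l ⟨z, mem_centralizer_singleton_iff.2 rfl⟩ = 1)
    (hA : ∀ a : G, IsConj z a → a ≠ z → ∀ ha : a ∈ centralizer ({z} : Set G), l ⟨a, ha⟩ = -1)
    {e : G} (he : IsConj z e) (he2 : e * e = 1) (hez : e ≠ z) (D : Subgroup G)
    (hD : IsPGroup 2 D) (hzD : z ∈ D) (heD : e ∈ D)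
    (hDz : ∀ d ∈ D, d * z = z * d) (hDe : ∀ d ∈ D, d * e = e * d)
    {f : G} (hf : f ∈ ⁅D, D⁆) (hf1 : f ≠ 1) (hDf : ∀ d ∈ D, d * f = f * d)
    (hC : ∀ a : G, IsConj z a → a ≠ z → (∀ d ∈ D, d * a = a * d) →
      a = e ∨ a = e * z ∨ a = e * f ∨ a = e * z * f)
    (hez' : IsConj z (e * z)) (hezf : IsConj z (e * z * f)) : False := by
  classical
  have hezc : e * z = z * e := (hDe z hzD).symm
  have hz2 : z * z = 1 := by
    obtain ⟨g, hg⟩ := isConj_iff.1 he
    have : z = g⁻¹ * e * g := by rw [← hg]; group
    calc z * z = g⁻¹ * (e * e) * g := by rw [this]; group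
      _ = 1 := by rw [he2]; group
  -- `z` is not in `D'`
  have hzD' : z ∉ ⁅D, D⁆ := by
    intro h
    have h1 := Lam_commutator l he D hDe h
    rw [Lam_z l hA he hez (hDe z hzD)] at h1
    exact absurd h1 (by decide)
  have hz1 : z ≠ 1 := fun h => hzD' (h ▸ one_mem _)
  have hfD : f ∈ D := commutator_le_self D hf
  have hzf : z * f = f * z := hDf z hzD
  have hef : e * f = f * e := hDf e heD
  have hfz : f ≠ z := fun h => hzD' (h ▸ hf)
  have hone : z * e * (e * z) = 1 := by
    calc z * e * (e * z) = z * (e * e) * z := by group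
      _ = 1 := by rw [he2, mul_one, hz2]
  have hset : {a : G | IsConj z a ∧ a ≠ z ∧ (∀ d ∈ D, d * a = a * d) ∧ z * e * a ∈ ⁅D, D⁆} =
      {e * z, e * z * f} := by
    ext a
    constructor
    · rintro ⟨ha, haz, hDa, hm⟩
      rcases hC a ha haz hDa with rfl | rfl | rfl | rfl
      · exfalso
        apply hzD'
        have : z * a * a = z := by rw [mul_assoc, he2, mul_one]
        rwa [this] at hm
      · exact Or.inl rfl
      · exfalso
        apply hzD'
        have h1 : z * e * (e * f) = z * f := by
          calc z * e * (e * f) = z * (e * e) * f := by group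
            _ = z * f := by rw [he2, mul_one]
        rw [h1] at hm
        have h2 := mul_mem hm (inv_mem hf)
        rwa [mul_inv_cancel_right] at h2
      · exact Or.inr rfl
    · have hcz : ∀ d ∈ D, d * (e * z) = e * z * d := by
        intro d hd
        calc d * (e * z) = d * e * z := by group
          _ = e * (d * z) := by rw [hDe d hd]; group
          _ = e * z * d := by rw [hDz d hd]; group
      rintro (rfl | rfl)
      · refine ⟨hez', ?_, hcz, ?_⟩
        · intro h
          have : e = 1 := by
            calc e = e * z * z⁻¹ := by group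
              _ = 1 := by rw [h]; group
          rw [this] at he
          obtain ⟨g, hg⟩ := isConj_iff.1 he
          apply hz1
          calc z = g⁻¹ * (g * z * g⁻¹) * g := by group
            _ = 1 := by rw [hg]; group
        · rw [hone]; exact one_mem _
      · refine ⟨hezf, ?_, ?_, ?_⟩
        · intro h
          -- `e f = 1`, so `e ∈ D'`
          have h1 : e = f⁻¹ := by
            have h2 : e * f * z = z := by
              calc e * f * z = e * (z * f) := by rw [hzf]; group
                _ = z := by rw [← mul_assoc]; exact h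
            have h3 : e * f = 1 := by
              calc e * f = e * f * z * z⁻¹ := by group
                _ = 1 := by rw [h2]; group
            exact eq_inv_of_mul_eq_one_left h3
          have h2 : e ∈ ⁅D, D⁆ := h1 ▸ inv_mem hf
          -- the sign of `e` at `z` is `-1`
          have h3 := Lam_commutator l (IsConj.refl z) D hDz h2
          have hm : e ∈ centralizer ({z} : Set G) := mem_centralizer_singleton_iff.2 hezc
          rw [Lam_self l hm, hA e he hez hm] at h3
          exact absurd h3 (by decide)
        · intro d hd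
          calc d * (e * z * f) = d * (e * z) * f := by group
            _ = e * z * (d * f) := by rw [hcz d hd]; group
            _ = e * z * f * d := by rw [hDf d hd]; group
        · have : z * e * (e * z * f) = f := by
            calc z * e * (e * z * f) = z * e * (e * z) * f := by group
              _ = f := by rw [hone, one_mul]
          rw [this]; exact hf
  have h1 := odd_ncard hG l hlz hA he he2 hez D hD hzD heD hDz hDe (by
    intro a ha haz hDa
    rcases hC a ha haz hDa with rfl | rfl | rfl | rfl
    · left; rw [he2]; exact one_mem _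
    · right; rw [hone]; exact one_mem _
    · left
      have : e * (e * f) = f := by rw [← mul_assoc, he2, one_mul]
      rw [this]; exact hf
    · right
      have : z * e * (e * z * f) = f := by
        calc z * e * (e * z * f) = z * e * (e * z) * f := by group
          _ = f := by rw [hone, one_mul]
      rw [this]; exact hf)
  rw [hset, Set.ncard_pair] at h1
  · exact absurd h1 (by decide)
  · intro h
    exact hf1 (by
      calc f = (e * z)⁻¹ * (e * z * f) := by group
        _ = 1 := by rw [← h]; group)

end Cfsg.Agent.OddHalf.D9.OuterKill
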