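import Cfsg.Agent.OddHalf.D9.OrbTransfer

/-!
# Lemma RT: `|R| ≥ 4` dies (transfer of the generator `r` of `R = C_H(K)`)

`G` finite, `H = C_G(z)`, `⟨r⟩` a normal cyclic 2-subgroup of `H` containing the involution `z`, `K` normalised by
`H`, `P ≤ K` a 2-subgroup commuting with `r`, `λ : H →* {±1}` with `λ r = -1`. Suppose that every conjugate
`a` of `z` in `H` with `[a, P] ≤ K ∩ ⟨r⟩` is `z`, or commutes with `r` but not with `P`. Then some
homomorphism `G →* {±1}` maps `r` to `-1`.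
-/

set_option autoImplicit false

namespace Cfsg.Agent.OddHalf.D9.RTransfer

open Subgroup

variable {G : Type*} [Group G]

/-- in a cyclic 2-group the involution is a power of every nontrivial element -/
theorem mem_zpowers_pow {r z : G} (hr : IsPGroup 2 (zpowers r)) (hz : z ∈ zpowers r) (hzz : z * z = 1)
    (hz1 : z ≠ 1) {n : ℕ} (hn : r ^ n ≠ 1) : z ∈ zpowers (r ^ n) := by
  -- some power of `r ^ n` is an involution
  obtain ⟨k, hk⟩ := hr ⟨r ^ n, pow_mem (mem_zpowers r) n⟩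
  have hk' : (r ^ n) ^ 2 ^ k = 1 := congrArg Subtype.val hk
  have hex : ∃ j, (r ^ n) ^ 2 ^ j = 1 := ⟨k, hk'⟩
  classical
  obtain ⟨j, hj, hmin⟩ : ∃ j, (r ^ n) ^ 2 ^ j = 1 ∧ ∀ i < j, (r ^ n) ^ 2 ^ i ≠ 1 :=
    ⟨Nat.find hex, Nat.find_spec hex, fun i hi => Nat.find_min hex hi⟩
  have hj0 : j ≠ 0 := by
    rintro rfl
    apply hn
    simpa using hj
  obtain ⟨i, rfl⟩ := Nat.exists_eq_succ_of_ne_zero hj0
  set w : G := (r ^ n) ^ 2 ^ i with hw
  have hw1 : w ≠ 1 := hmin i (Nat.lt_succ_self i)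
  have hww : w * w = 1 := by
    rw [hw, ← pow_two, ← pow_mul, ← pow_succ]; exact hj
  have hwr : w ∈ zpowers r := pow_mem (pow_mem (mem_zpowers r) n) _
  -- a cyclic group has at most one involution
  have hfin : IsOfFinOrder r := by
    obtain ⟨k, hk⟩ := hr ⟨r, mem_zpowers r⟩
    have : r ^ 2 ^ k = 1 := congrArg Subtype.val hk
    exact isOfFinOrder_iff_pow_eq_one.2 ⟨2 ^ k, by positivity, this⟩
  obtain ⟨e, he⟩ : ∃ e, orderOf r = 2 ^ e := by
    obtain ⟨k, hk⟩ := hr ⟨r, mem_zpowers r⟩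
    have h1 : r ^ 2 ^ k = 1 := congrArg Subtype.val hk
    obtain ⟨e, -, he⟩ := (Nat.dvd_prime_pow Nat.prime_two).1 (orderOf_dvd_of_pow_eq_one h1)
    exact ⟨e, he⟩
  have huniq : ∀ y ∈ zpowers r, y * y = 1 → y ≠ 1 → y = r ^ (2 ^ (e - 1)) := by
    intro y hy hyy hy1
    obtain ⟨s, hs⟩ := hfin.mem_powers_iff_mem_zpowers.2 hy
    have hs' : r ^ s = y := hs
    have h2 : r ^ (2 * s) = 1 := by rw [two_mul, pow_add, hs']; exact hyy
    have h3 : 2 ^ e ∣ 2 * s := he ▸ orderOf_dvd_of_pow_eq_one h2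
    have he0 : e ≠ 0 := by
      rintro rfl
      apply hy1
      rw [← hs', show r = 1 from by
        have := pow_orderOf_eq_one r
        rw [he] at this; simpa using this, one_pow]
    obtain ⟨e', rfl⟩ := Nat.exists_eq_succ_of_ne_zero he0
    rw [pow_succ, mul_comm] at h3
    have h4 : 2 ^ e' ∣ s := Nat.dvd_of_mul_dvd_mul_left (by norm_num) h3
    obtain ⟨c, rfl⟩ := h4
    show y = r ^ (2 ^ (e' + 1 - 1))
    rw [Nat.add_sub_cancel]
    rcases Nat.even_or_odd c with ⟨d, hd⟩ | ⟨d, hd⟩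
    · exfalso
      apply hy1
      rw [← hs', hd, ← two_mul, ← mul_assoc, ← pow_succ, pow_mul,
        show (2 : ℕ) ^ (e' + 1) = orderOf r from he.symm, pow_orderOf_eq_one, one_pow]
    · rw [← hs', hd, mul_add, mul_one, ← mul_assoc, ← pow_succ, pow_add, pow_mul,
        show (2 : ℕ) ^ (e' + 1) = orderOf r from he.symm, pow_orderOf_eq_one, one_pow, one_mul]
  rw [huniq z hz hzz hz1, ← huniq w hwr hww hw1, hw]
  exact pow_mem (mem_zpowers _) _

/-- **Lemma RT.** -/
theorem rt [Finite G] {z r : G} (hzz : z * z = 1) (hz1 : z ≠ 1) (hr : IsPGroup 2 (zpowers r))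
    (hz : z ∈ zpowers r) (hrC : r ∈ centralizer ({z} : Set G))
    (hRn : ∀ h : G, h * z = z * h → h * r * h⁻¹ ∈ zpowers r)
    (lam : centralizer ({z} : Set G) →* ℤˣ) (hlam : lam ⟨r, hrC⟩ = -1)
    (K P : Subgroup G) (hKn : ∀ h : G, h * z = z * h → ∀ k ∈ K, h * k * h⁻¹ ∈ K)
    (hPK : P ≤ K) (hP : IsPGroup 2 P) (hPr : ∀ t ∈ P, t * r = r * t)
    (hb : ∀ g : G, g * z * g⁻¹ * z = z * (g * z * g⁻¹) →
      (∀ t ∈ P, (g * z * g⁻¹) * t * (g * z * g⁻¹)⁻¹ * t⁻¹ ∈ K ⊓ zpowers r) →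
      g * z * g⁻¹ = z ∨
        ((g * z * g⁻¹) * r = r * (g * z * g⁻¹) ∧ ∃ t ∈ P, (g * z * g⁻¹) * t ≠ t * (g * z * g⁻¹))) :
    ∃ f : G →* ℤˣ, f r = -1 := by
  have hrz : ∀ t : G, t * r = r * t → t * z = z * t := by
    intro t ht
    obtain ⟨i, hi⟩ := mem_zpowers_iff.1 hz
    rw [← hi]
    exact (Commute.zpow_right (show Commute t r from ht) i).eq
  set D : Subgroup G := P ⊔ zpowers r with hD
  have hDc : ∀ d ∈ D, d * r = r * d := by
    have h1 : D ≤ centralizer ({r} : Set G) := by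
      rw [hD, sup_le_iff, zpowers_le]
      exact ⟨fun t ht => mem_centralizer_singleton_iff.2 (hPr t ht),
        mem_centralizer_singleton_iff.2 rfl⟩
    intro d hd
    exact mem_centralizer_singleton_iff.1 (h1 hd)
  have hDp : IsPGroup 2 D := by
    refine hP.to_sup_of_normal_right' hr ?_
    intro t ht
    rw [mem_normalizer_iff]
    have h1 : ∀ y ∈ zpowers r, t * y * t⁻¹ = y := by
      intro y hy
      obtain ⟨i, hi⟩ := mem_zpowers_iff.1 hy
      have := (Commute.zpow_right (show Commute t r from hPr t ht) i).eq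
      rw [← hi, this, mul_inv_cancel_right]
    intro y
    constructor
    · intro hy
      rw [h1 y hy]; exact hy
    · intro hy
      have h2 := h1 _ hy
      have h3 : t * y * t⁻¹ = y := mul_left_cancel (mul_right_cancel h2)
      rwa [h3] at hy
  have hDH : D ≤ centralizer ({z} : Set G) := fun d hd =>
    mem_centralizer_singleton_iff.2 (hrz d (hDc d hd))
  refine OrbTransfer.neg_one_of_key (centralizer ({z} : Set G)) lam hrC hlam D hDp hDc hDH ?_
  intro g n h hlam1 hfix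
  set a : G := g * z * g⁻¹ with ha
  have hconv : ∀ x : G, g⁻¹ * x * g ∈ centralizer ({z} : Set G) ↔ x * a = a * x := by
    intro x
    rw [mem_centralizer_singleton_iff]
    constructor
    · intro h1
      calc x * a = g * (g⁻¹ * x * g * z) * g⁻¹ := by rw [ha]; group
        _ = g * (z * (g⁻¹ * x * g)) * g⁻¹ := by rw [h1]
        _ = a * x := by rw [ha]; group
    · intro h1
      calc g⁻¹ * x * g * z = g⁻¹ * (x * a) * g := by rw [ha]; group
        _ = g⁻¹ * (a * x) * g := by rw [h1]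
        _ = z * (g⁻¹ * x * g) := by rw [ha]; group
  have hn1 : r ^ n ≠ 1 := by
    intro h1
    have h2 : (⟨g⁻¹ * r ^ n * g, h⟩ : centralizer ({z} : Set G)) = 1 := by
      apply Subtype.ext
      show g⁻¹ * r ^ n * g = 1
      rw [h1, mul_one, inv_mul_cancel]
    rw [h2, map_one] at hlam1
    exact absurd hlam1 (by decide)
  have hza : z * a = a * z := by
    have h1 : r ^ n * a = a * r ^ n := (hconv _).1 h
    obtain ⟨i, hi⟩ := mem_zpowers_iff.1 (mem_zpowers_pow hr hz hzz hz1 hn1)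
    rw [← hi]
    exact (Commute.zpow_left (show Commute (r ^ n) a from h1) i).eq
  have hta : ∀ t ∈ P, ∃ k : ℤ, (r ^ k * t) * a = a * (r ^ k * t) := by
    intro t ht
    obtain ⟨k, hk⟩ := hfix t ((le_sup_left : P ≤ D) ht)
    exact ⟨k, (hconv _).1 hk⟩
  have hcases := hb g hza.symm (by
    intro t ht
    refine mem_inf.2 ⟨?_, ?_⟩
    · exact K.mul_mem (hKn a hza.symm t (hPK ht)) (K.inv_mem (hPK ht))
    · obtain ⟨k, hk⟩ := hta t ht
      have e : a * t * a⁻¹ * t⁻¹ = (a * r * a⁻¹) ^ (-k) * r ^ k := by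
        have h2 : a * t * a⁻¹ = (a * r * a⁻¹) ^ (-k) * (r ^ k * t) := by
          calc a * t * a⁻¹ = a * r ^ (-k) * a⁻¹ * (a * (r ^ k * t)) * a⁻¹ := by
                rw [zpow_neg]; group
            _ = a * r ^ (-k) * a⁻¹ * ((r ^ k * t) * a) * a⁻¹ := by rw [hk]
            _ = a * r ^ (-k) * a⁻¹ * (r ^ k * t) := by group
            _ = (a * r * a⁻¹) ^ (-k) * (r ^ k * t) := by rw [conj_zpow]
        rw [h2]; group
      rw [e]
      exact (zpowers r).mul_mem ((zpowers r).zpow_mem (hRn a hza.symm) _)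
        ((zpowers r).zpow_mem (mem_zpowers r) _))
  rcases hcases with h1 | ⟨h1, t, ht, h2⟩
  · rw [mem_centralizer_singleton_iff]
    have h3 : g * z * g⁻¹ = z := h1
    rwa [mul_inv_eq_iff_eq_mul] at h3
  · exfalso
    apply h2
    obtain ⟨k, hk⟩ := hta t ht
    have h3 : r ^ k * a = a * r ^ k := (Commute.zpow_left (show Commute r a from h1.symm) k).eq
    have h4 : r ^ k * (t * a) = r ^ k * (a * t) := by
      calc r ^ k * (t * a) = (r ^ k * t) * a := by group
        _ = a * (r ^ k * t) := hk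
        _ = (a * r ^ k) * t := by group
        _ = (r ^ k * a) * t := by rw [h3]
        _ = r ^ k * (a * t) := by group
    exact (mul_left_cancel h4).symm

end Cfsg.Agent.OddHalf.D9.RTransfer
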