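import Cfsg.Agent.OddHalf.D9.Cut
import Cfsg.Agent.OddHalf.D9.DoubleKill
import Cfsg.Agent.OddHalf.Front.FE

/-!
# D9: the frame of a standard component with even centre; the row from `DoubleKill.KFacts`
-/

set_option autoImplicit false

namespace Cfsg.Agent.OddHalf.D9.RowKFacts

open Subgroup Cfsg Cfsg.Agent.OddHalf.Iface
open Cfsg.Agent.OddHalf.Front.FE (Start0 exists_start0)

universe u

variable {G : Type u} [Group G]

/-- **The frame**: `z` an involution of `Z(K)`. Then `C(K)` is a cyclic 2-group `⟨q⟩ ∋ z` and `K` is normal in `C(z)`. -/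
theorem exists_frame (C : Ctx G) {K : Subgroup G} (S : Std0 G K) (hc : Cyc K) {z : G} (hzK : z ∈ K)
    (hzz : z * z = 1) (hz1 : z ≠ 1) (hzc : ∀ k ∈ K, k * z = z * k) :
    ∃ q : G, Start0 K z q := by
  have := C.fin
  obtain ⟨t, q, h⟩ := exists_start0 C S hc
  have hzt : z ∈ zpowers q := h.cK z (h.Kt z hzK) hzc
  have h1 := h.uniq hzt hzz hz1
  subst h1
  exact ⟨q, h⟩

/-- The row of a double cover `K` with `KFacts`. -/
theorem false_of_kfacts (C : Ctx G) {K : Subgroup G} (S : Std0 G K) (hc : Cyc K) {z : ↥K} {n : ℕ}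
    (F : DoubleKill.KFacts z n) : False := by
  have := C.fin
  have := C.simple
  have hzc : ∀ k ∈ K, k * (z : G) = z * k := fun k hk => congrArg Subtype.val (F.zc ⟨k, hk⟩)
  obtain ⟨q, h⟩ := exists_frame C S hc z.2 (congrArg Subtype.val F.zz)
    (fun h => F.z1 (Subtype.ext h)) hzc
  refine DoubleKill.false_of_kfacts (z := (z : G)) (n := n) z.2 F C.na ?_ ?_
  · intro g hg k hk
    exact (mem_normalizer_iff.1 (h.nK g hg) k).1 hk
  · intro r hr hrr
    by_cases h1 : r = 1
    · exact Or.inl h1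
    · right
      have h2 : r ∈ zpowers q := h.cK r (hr z z.2) (fun x hx => (hr x hx).symm)
      exact h.uniq h2 hrr h1

end Cfsg.Agent.OddHalf.D9.RowKFacts
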