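import Mathlib
import Cfsg.Agent.Lib.ElemAbGL

/-!
# D9: weak closure

`z : G` (finite), `T` a Sylow 2-subgroup of `C(z)`, `E ≤ T` commutative, the only subgroup of `T` with a property
invariant under conjugation (in the applications: elementary abelian of order `|E|`). Then the conjugates of `z` in
`E` form one orbit of `N_G(E)`; their number divides `|Aut E|`.
-/

set_option autoImplicit false

namespace Cfsg.Agent.OddHalf.D9.WeakClos

open Subgroup

variable {G : Type*} [Group G]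

/-- `E` is the only elementary abelian 2-subgroup of its order in `T`. -/
structure Only (T E : Subgroup G) : Prop where
  le : E ≤ T
  sq : ∀ x ∈ E, x * x = 1
  uniq : ∀ A : Subgroup G, A ≤ T → (∀ x ∈ A, x * x = 1) → Nat.card ↥A = Nat.card ↥E → A = E

theorem comm_of_sq {E : Subgroup G} (hE : ∀ x ∈ E, x * x = 1) {x y : G} (hx : x ∈ E) (hy : y ∈ E) :
    x * y = y * x := by
  have h := hE _ (E.mul_mem hx hy)
  have h1 : x⁻¹ = x := inv_eq_of_mul_eq_one_left (hE x hx)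
  have h2 : y⁻¹ = y := inv_eq_of_mul_eq_one_left (hE y hy)
  calc x * y = (x * y)⁻¹ := (inv_eq_of_mul_eq_one_left h).symm
    _ = y⁻¹ * x⁻¹ := mul_inv_rev x y
    _ = y * x := by rw [h1, h2]

theorem card_map_conj (E : Subgroup G) (g : G) :
    Nat.card ↥(E.map (MulAut.conj g).toMonoidHom) = Nat.card ↥E :=
  Nat.card_congr (E.equivMapOfInjective _ (MulAut.conj g).injective).toEquiv.symm

theorem sq_map_conj {E : Subgroup G} (hE : ∀ x ∈ E, x * x = 1) (g : G) :
    ∀ x ∈ E.map (MulAut.conj g).toMonoidHom, x * x = 1 := by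
  rintro _ ⟨x, hx, rfl⟩
  rw [← map_mul, hE x hx, map_one]

theorem mem_normalizer_of_map_eq [Finite G] {E : Subgroup G} {g : G}
    (h : E.map (MulAut.conj g).toMonoidHom = E) : g ∈ normalizer (E : Set G) := by
  have h1 : ∀ x ∈ E, g * x * g⁻¹ ∈ E := fun x hx => by
    have : (MulAut.conj g).toMonoidHom x ∈ E.map (MulAut.conj g).toMonoidHom := ⟨x, hx, rfl⟩
    rw [h] at this
    simpa using this
  rw [mem_normalizer_iff]
  intro x
  refine ⟨h1 x, fun hx => ?_⟩
  have : g * x * g⁻¹ ∈ E.map (MulAut.conj g).toMonoidHom := by rw [h]; exact hx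
  obtain ⟨y, hy, hyx⟩ := this
  have : y = x := by
    have h2 : g * y * g⁻¹ = g * x * g⁻¹ := by simpa using hyx
    simpa using h2
  exact this ▸ hy

/-- A 2-subgroup of `C(z)` goes into `T` by an element of `C(z)`. -/
theorem exists_conj_le [Finite G] {z : G} (T : Sylow 2 ↥(centralizer ({z} : Set G))) {Q : Subgroup G}
    (hQ : IsPGroup 2 ↥Q) (hQz : Q ≤ centralizer ({z} : Set G)) :
    ∃ h ∈ centralizer ({z} : Set G), Q.map (MulAut.conj h).toMonoidHom ≤
      (T : Subgroup ↥(centralizer ({z} : Set G))).map (centralizer ({z} : Set G)).subtype := by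
  have hQ' : IsPGroup 2 ↥(Q.subgroupOf (centralizer ({z} : Set G))) :=
    hQ.of_equiv (subgroupOfEquivOfLe hQz).symm
  obtain ⟨P, hP⟩ := hQ'.exists_le_sylow
  obtain ⟨h, hh⟩ := MulAction.exists_smul_eq (↥(centralizer ({z} : Set G))) P T
  refine ⟨h, h.2, ?_⟩
  rintro _ ⟨x, hx, rfl⟩
  have h1 : (⟨x, hQz hx⟩ : ↥(centralizer ({z} : Set G))) ∈ (P : Subgroup _) := hP (mem_subgroupOf.mpr hx)
  have h2 : h * ⟨x, hQz hx⟩ * h⁻¹ ∈ (T : Subgroup ↥(centralizer ({z} : Set G))) := by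
    rw [← hh, Sylow.coe_subgroup_smul, ← MulAut.conj_apply]
    exact ⟨_, h1, rfl⟩
  exact ⟨_, h2, rfl⟩

/-- **Weak closure**: a conjugate of `z` in `E` is conjugate to `z` by an element of `N(E)`. -/
theorem exists_normalizer [Finite G] {z : G} (T : Sylow 2 ↥(centralizer ({z} : Set G))) {E : Subgroup G}
    (hE : Only ((T : Subgroup ↥(centralizer ({z} : Set G))).map (centralizer ({z} : Set G)).subtype) E)
    {g : G} (hg : g * z * g⁻¹ ∈ E) :
    ∃ n ∈ normalizer (E : Set G), n * z * n⁻¹ = g * z * g⁻¹ := by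
  -- `E^(g⁻¹)` lies in `C(z)`
  have hle : E.map (MulAut.conj g⁻¹).toMonoidHom ≤ centralizer ({z} : Set G) := by
    rintro _ ⟨x, hx, rfl⟩
    rw [mem_centralizer_singleton_iff]
    have hc := comm_of_sq hE.sq hx hg
    show g⁻¹ * x * g⁻¹⁻¹ * z = z * (g⁻¹ * x * g⁻¹⁻¹)
    rw [inv_inv]
    calc g⁻¹ * x * g * z = g⁻¹ * (x * (g * z * g⁻¹)) * g := by group
      _ = g⁻¹ * (g * z * g⁻¹ * x) * g := by rw [hc]
      _ = z * (g⁻¹ * x * g) := by group
  have h2 : IsPGroup 2 ↥E := by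
    rintro ⟨x, hx⟩
    exact ⟨1, by rw [Subtype.ext_iff]; simpa [pow_two] using hE.sq x hx⟩
  obtain ⟨h, hh, hT⟩ := exists_conj_le T (h2.map (MulAut.conj g⁻¹).toMonoidHom) hle
  have h3 : (E.map (MulAut.conj g⁻¹).toMonoidHom).map (MulAut.conj h).toMonoidHom = E :=
    hE.uniq _ hT (sq_map_conj (sq_map_conj hE.sq _) _) (by rw [card_map_conj, card_map_conj])
  have h4 : E.map (MulAut.conj (h * g⁻¹)).toMonoidHom = E := by
    rw [map_map] at h3
    convert h3 using 2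
    ext x
    simp [mul_assoc]
  have h5 := mem_normalizer_of_map_eq h4
  refine ⟨(h * g⁻¹)⁻¹, inv_mem h5, ?_⟩
  have hz : h * z = z * h := mem_centralizer_singleton_iff.mp hh
  calc (h * g⁻¹)⁻¹ * z * (h * g⁻¹)⁻¹⁻¹ = g * (h⁻¹ * (z * h)) * g⁻¹ := by group
    _ = g * z * g⁻¹ := by rw [← hz]; group

/-- The conjugates of `z` in `E`. -/
def Theta (z : G) (E : Subgroup G) : Set G := {x | x ∈ E ∧ IsConj z x}

theorem exists_norm [Finite G] {z : G} (T : Sylow 2 ↥(centralizer ({z} : Set G))) {E : Subgroup G}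
    (hE : Only ((T : Subgroup ↥(centralizer ({z} : Set G))).map (centralizer ({z} : Set G)).subtype) E)
    {x : G} (hx : x ∈ Theta z E) : ∃ n ∈ normalizer (E : Set G), n * z * n⁻¹ = x := by
  obtain ⟨g, rfl⟩ := isConj_iff.mp hx.2
  exact exists_normalizer T hE hx.1

/-- `N(E)` is transitive on the conjugates of `z` in `E`. -/
theorem trans [Finite G] {z : G} (T : Sylow 2 ↥(centralizer ({z} : Set G))) {E : Subgroup G}
    (hE : Only ((T : Subgroup ↥(centralizer ({z} : Set G))).map (centralizer ({z} : Set G)).subtype) E)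
    {x y : G} (hx : x ∈ Theta z E) (hy : y ∈ Theta z E) :
    ∃ n ∈ normalizer (E : Set G), n * x * n⁻¹ = y := by
  obtain ⟨a, ha, rfl⟩ := exists_norm T hE hx
  obtain ⟨b, hb, rfl⟩ := exists_norm T hE hy
  exact ⟨b * a⁻¹, mul_mem hb (inv_mem ha), by group⟩

/-- `N(E)` acts on `Θ`. -/
theorem Theta_conj {z : G} {E : Subgroup G} {n x : G} (hn : n ∈ normalizer (E : Set G)) (hx : x ∈ Theta z E) :
    n * x * n⁻¹ ∈ Theta z E :=
  ⟨(mem_normalizer_iff.mp hn x).mp hx.1, hx.2.trans (isConj_iff.mpr ⟨n, rfl⟩)⟩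

/-- The number of conjugates of `z` in `E` divides `|Aut E|`. -/
theorem card_dvd [Finite G] {z : G} (T : Sylow 2 ↥(centralizer ({z} : Set G))) {E : Subgroup G} (hz : z ∈ E)
    (hE : Only ((T : Subgroup ↥(centralizer ({z} : Set G))).map (centralizer ({z} : Set G)).subtype) E) :
    (Theta z E).ncard ∣ Nat.card (MulAut ↥E) := by
  classical
  let φ : ↥(normalizer (E : Set G)) →* MulAut ↥E := E.normalizerMonoidHom
  have hφ : ∀ (n : ↥(normalizer (E : Set G))) (x : ↥E), ((φ n x : ↥E) : G) = n * x * (n : G)⁻¹ := by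
    intro n x
    rfl
  let O : Set ↥E := MulAction.orbit ↥φ.range (⟨z, hz⟩ : ↥E)
  have h1 : Theta z E = Subtype.val '' O := by
    ext x
    constructor
    · intro hx
      obtain ⟨n, hn, h⟩ := exists_norm T hE hx
      refine ⟨⟨x, hx.1⟩, ⟨⟨φ ⟨n, hn⟩, ⟨n, hn⟩, rfl⟩, ?_⟩, rfl⟩
      apply Subtype.ext
      show ((φ ⟨n, hn⟩ ⟨z, hz⟩ : ↥E) : G) = x
      rw [hφ]
      exact h
    · rintro ⟨x, ⟨⟨_, n, rfl⟩, rfl⟩, rfl⟩
      show ((φ n ⟨z, hz⟩ : ↥E) : G) ∈ Theta z E
      rw [hφ]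
      exact Theta_conj n.2 ⟨hz, IsConj.refl z⟩
  rw [h1, Set.ncard_image_of_injective _ Subtype.val_injective]
  have h2 : O.ncard ∣ Nat.card ↥φ.range := by
    have h3 := MulAction.index_stabilizer (G := ↥φ.range) (x := (⟨z, hz⟩ : ↥E))
    show (MulAction.orbit ↥φ.range (⟨z, hz⟩ : ↥E)).ncard ∣ _
    rw [← h3]
    exact Subgroup.index_dvd_card _
  exact h2.trans (Subgroup.card_subgroup_dvd_card _)

/-- The order of the automorphism group of an elementary abelian 2-group. -/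
theorem card_mulAut {E : Type*} [Group E] {n : ℕ} (hsq : ∀ x : E, x * x = 1) (hc : Nat.card E = 2 ^ n) :
    Nat.card (MulAut E) = ∏ i : Fin n, (2 ^ n - 2 ^ (i : ℕ)) := by
  have : Fact (Nat.Prime 2) := ⟨Nat.prime_two⟩
  have hcomm : ∀ x y : E, x * y = y * x := fun x y =>
    comm_of_sq (E := (⊤ : Subgroup E)) (fun x _ => hsq x) (mem_top x) (mem_top y)
  let _ : CommGroup E := { (inferInstance : Group E) with mul_comm := hcomm }
  obtain ⟨e⟩ := Cfsg.Agent.Lib.ElemAbGL.mulAut_equiv_GL (V := E) 2 n (fun x => by rw [pow_two]; exact hsq x) hc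
  rw [Nat.card_congr e.toEquiv, Matrix.card_GL_field, ZMod.card]

/-- The number of conjugates of `z` in `E`, `|E| = 2^n`, divides `|GL_n(2)|`. -/
theorem card_dvd_GL [Finite G] {z : G} (T : Sylow 2 ↥(centralizer ({z} : Set G))) {E : Subgroup G} (hz : z ∈ E)
    (hE : Only ((T : Subgroup ↥(centralizer ({z} : Set G))).map (centralizer ({z} : Set G)).subtype) E)
    {n : ℕ} (hn : Nat.card ↥E = 2 ^ n) :
    (Theta z E).ncard ∣ ∏ i : Fin n, (2 ^ n - 2 ^ (i : ℕ)) := by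
  rw [← card_mulAut (E := ↥E) (fun x => Subtype.ext (hE.sq x x.2)) hn]
  exact card_dvd T hz hE

/-- Transitivity: if `x ↦ z x` maps `Θ \ {z}` into `P` and `P` is invariant, then all the products of two different
elements of `Θ` lie in `P`. -/
theorem prod_mem [Finite G] {z : G} (T : Sylow 2 ↥(centralizer ({z} : Set G))) {E : Subgroup G}
    (hE : Only ((T : Subgroup ↥(centralizer ({z} : Set G))).map (centralizer ({z} : Set G)).subtype) E)
    (P : Set G) (hP : ∀ n ∈ normalizer (E : Set G), ∀ x ∈ P, n * x * n⁻¹ ∈ P)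
    (h : ∀ x ∈ Theta z E, x ≠ z → z * x ∈ P) {x y : G} (hx : x ∈ Theta z E) (hy : y ∈ Theta z E)
    (hxy : x ≠ y) : x * y ∈ P := by
  obtain ⟨n, hn, hnx⟩ := exists_norm T hE hx
  have h1 : n⁻¹ * y * n⁻¹⁻¹ ∈ Theta z E := Theta_conj (inv_mem hn) hy
  have h2 : n⁻¹ * y * n⁻¹⁻¹ ≠ z := by
    intro h2
    apply hxy
    rw [← hnx, ← h2]
    group
  have h3 := hP n hn _ (h _ h1 h2)
  have h4 : n * (z * (n⁻¹ * y * n⁻¹⁻¹)) * n⁻¹ = x * y := by
    rw [← hnx]; group
  rwa [h4] at h3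

/-- Transitivity, excluded products: if `z x ∉ Θ` for all `x ∈ Θ`, then `Θ` contains no product of two of its
elements. -/
theorem prod_not_mem [Finite G] {z : G} (T : Sylow 2 ↥(centralizer ({z} : Set G))) {E : Subgroup G}
    (hE : Only ((T : Subgroup ↥(centralizer ({z} : Set G))).map (centralizer ({z} : Set G)).subtype) E)
    (h : ∀ x ∈ Theta z E, z * x ∉ Theta z E) {x y : G} (hx : x ∈ Theta z E) (hy : y ∈ Theta z E) :
    x * y ∉ Theta z E := by
  intro hxy
  obtain ⟨n, hn, hnx⟩ := exists_norm T hE hx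
  have h1 : n⁻¹ * y * n⁻¹⁻¹ ∈ Theta z E := Theta_conj (inv_mem hn) hy
  apply h _ h1
  have h2 : n⁻¹ * (x * y) * n⁻¹⁻¹ ∈ Theta z E := Theta_conj (inv_mem hn) hxy
  have h4 : n⁻¹ * (x * y) * n⁻¹⁻¹ = z * (n⁻¹ * y * n⁻¹⁻¹) := by
    rw [← hnx]; group
  rwa [h4] at h2

end Cfsg.Agent.OddHalf.D9.WeakClos
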